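import Cfsg.Agent.Lib.Helper27.Fi22.F1.Data

set_option autoImplicit false
set_option maxRecDepth 100000
set_option linter.all false

namespace Cfsg.Agent.Helper27.Fi22TC.F1

open Cfsg.Agent.Helper28 Cfsg.Agent.Helper27.Fi22TC
open Cfsg.Spor.Fi22 (Gen)

noncomputable section

def RV37 : Word Gen := [(Gen.i, true), (Gen.h, true), (Gen.d, true), (Gen.f, true), (Gen.e, true), (Gen.d, true), (Gen.b, true), (Gen.c, true), (Gen.d, true), (Gen.i, true), (Gen.h, true), (Gen.d, true), (Gen.f, true), (Gen.e, true), (Gen.d, true), (Gen.b, true), (Gen.c, true), (Gen.d, true), (Gen.i, true), (Gen.h, true), (Gen.d, true), (Gen.f, true), (Gen.e, true), (Gen.d, true), (Gen.b, true), (Gen.c, true), (Gen.d, true), (Gen.i, true), (Gen.h, true), (Gen.d, true), (Gen.f, true), (Gen.e, true), (Gen.d, true), (Gen.b, true), (Gen.c, true), (Gen.d, true), (Gen.i, true), (Gen.h, true), (Gen.d, true), (Gen.f, true), (Gen.e, true), (Gen.d, true), (Gen.b, true), (Gen.c, true), (Gen.d, true), (Gen.i, true), (Gen.h, true), (Gen.d, true), (Gen.f, true), (Gen.e, true), (Gen.d, true), (Gen.b,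 true), (Gen.c, true), (Gen.d, true), (Gen.i, true), (Gen.h, true), (Gen.d, true), (Gen.f, true), (Gen.e, true), (Gen.d, true), (Gen.b, true), (Gen.c, true), (Gen.d, true), (Gen.i, true), (Gen.h, true), (Gen.d, true), (Gen.f, true), (Gen.e, true), (Gen.d, true), (Gen.b, true), (Gen.c, true), (Gen.d, true), (Gen.i, true), (Gen.h, true), (Gen.d, true), (Gen.f, true), (Gen.e, true), (Gen.d, true), (Gen.b, true), (Gen.c, true), (Gen.d, true), (Gen.i, true), (Gen.h, true), (Gen.d, true), (Gen.f, true), (Gen.e, true), (Gen.d, true), (Gen.b, true), (Gen.c, true), (Gen.d, true)]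
theorem relrev_37 : wG D.rels RV37 = 1 :=
  wG_of_rotate D.rels ((List.map (fun x => (x, true)) [Gen.d, Gen.c, Gen.b, Gen.d, Gen.e, Gen.f, Gen.d, Gen.h, Gen.i, Gen.d, Gen.c, Gen.b, Gen.d, Gen.e, Gen.f, Gen.d, Gen.h, Gen.i, Gen.d, Gen.c, Gen.b, Gen.d, Gen.e, Gen.f, Gen.d, Gen.h, Gen.i, Gen.d, Gen.c, Gen.b, Gen.d, Gen.e, Gen.f, Gen.d, Gen.h, Gen.i, Gen.d, Gen.c, Gen.b, Gen.d, Gen.e, Gen.f, Gen.d, Gen.h, Gen.i, Gen.d, Gen.c, Gen.b, Gen.d, Gen.e, Gen.f, Gen.d, Gen.h, Gen.i, Gen.d, Gen.c, Gen.b, Gen.d, Gen.e, Gen.f, Gen.d, Gen.h, Gen.i, Gen.d, Gen.c, Gen.b, Gen.d, Gen.e, Gen.f, Gen.d, Gen.h, Gen.i, Gen.d, Gen.c, Gen.b, Gen.d, Gen.e, Gen.f, Gen.d, Gen.h, Gen.i, Gen.d, Gen.c, Gen.b, Gen.d, Gen.e, Gen.f, Gen.d, Gen.h, Gen.i]).reverse) RV37 0 (by decide +kernel)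
    (wG_reverse_one D.rels hinv [Gen.d, Gen.c, Gen.b, Gen.d, Gen.e, Gen.f, Gen.d, Gen.h, Gen.i, Gen.d, Gen.c, Gen.b, Gen.d, Gen.e, Gen.f, Gen.d, Gen.h, Gen.i, Gen.d, Gen.c, Gen.b, Gen.d, Gen.e, Gen.f, Gen.d, Gen.h, Gen.i, Gen.d, Gen.c, Gen.b, Gen.d, Gen.e, Gen.f, Gen.d, Gen.h, Gen.i, Gen.d, Gen.c, Gen.b, Gen.d, Gen.e, Gen.f, Gen.d, Gen.h, Gen.i, Gen.d, Gen.c, Gen.b, Gen.d, Gen.e, Gen.f, Gen.d, Gen.h, Gen.i, Gen.d, Gen.c, Gen.b, Gen.d, Gen.e, Gen.f, Gen.d, Gen.h, Gen.i, Gen.d, Gen.c, Gen.b, Gen.d, Gen.e, Gen.f, Gen.d, Gen.h, Gen.i, Gen.d, Gen.c, Gen.b, Gen.d, Gen.e, Gen.f, Gen.d, Gen.h, Gen.i, Gen.d, Gen.c, Gen.b, Gen.d, Gen.e, Gen.f, Gen.d, Gen.h, Gen.i] (show wG D.rels (List.map (fun x => (x, true)) [Gen.d, Gen.c, Gen.b, Gen.d, Gen.e, Gen.f, Gen.d, Gen.h, Gen.i, Gen.d, Gen.c, Gen.b, Gen.d, Gen.e, Gen.f, Gen.d, Gen.h, Gen.i, Gen.d, Gen.c, Gen.b, Gen.d, Gen.e, Gen.f, Gen.d, Gen.h, Gen.i, Gen.d, Gen.c, Gen.b, Gen.d, Gen.e, Gen.f, Gen.d, Gen.h, Gen.i, Gen.d, Gen.c, Gen.b, Gen.d, Gen.e, Gen.f, Gen.d, Gen.h, Gen.i, Gen.d, Gen.c, Gen.b, Gen.d, Gen.e, Gen.f, Gen.d,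 Gen.h, Gen.i, Gen.d, Gen.c, Gen.b, Gen.d, Gen.e, Gen.f, Gen.d, Gen.h, Gen.i, Gen.d, Gen.c, Gen.b, Gen.d, Gen.e, Gen.f, Gen.d, Gen.h, Gen.i, Gen.d, Gen.c, Gen.b, Gen.d, Gen.e, Gen.f, Gen.d, Gen.h, Gen.i, Gen.d, Gen.c, Gen.b, Gen.d, Gen.e, Gen.f, Gen.d, Gen.h, Gen.i]) = 1 from relone_37))
theorem RW_0 : wG D.rels [(Gen.e, true), (Gen.c, true), (Gen.e, true), (Gen.c, true)] = 1 :=
  wG_of_rotate D.rels R17 [(Gen.e, true), (Gen.c, true), (Gen.e, true), (Gen.c, true)] 1 (by decide +kernel) relone_17
theorem RW_1 : wG D.rels [(Gen.f, true), (Gen.c, true), (Gen.f, true), (Gen.c, true)] = 1 :=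
  wG_of_rotate D.rels R18 [(Gen.f, true), (Gen.c, true), (Gen.f, true), (Gen.c, true)] 1 (by decide +kernel) relone_18
theorem RW_2 : wG D.rels [(Gen.i, true), (Gen.c, true), (Gen.i, true), (Gen.c, true)] = 1 :=
  wG_of_rotate D.rels R21 [(Gen.i, true), (Gen.c, true), (Gen.i, true), (Gen.c, true)] 1 (by decide +kernel) relone_21
theorem RW_3 : wG D.rels [(Gen.c, true), (Gen.b, true), (Gen.c, true), (Gen.b, true), (Gen.c, true), (Gen.b, true)] = 1 :=
  wG_of_rotate D.rels R9 [(Gen.c, true), (Gen.b, true), (Gen.c, true), (Gen.b, true), (Gen.c, true), (Gen.b, true)] 1 (by decide +kernel) relone_9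
theorem RW_4 : wG D.rels [(Gen.b, true), (Gen.d, true), (Gen.b, true), (Gen.d, true)] = 1 :=
  wG_of_rotate D.rels R10 [(Gen.b, true), (Gen.d, true), (Gen.b, true), (Gen.d, true)] 0 (by decide +kernel) relone_10
theorem RW_5 : wG D.rels [(Gen.f, true), (Gen.d, true), (Gen.f, true), (Gen.d, true)] = 1 :=
  wG_of_rotate D.rels R23 [(Gen.f, true), (Gen.d, true), (Gen.f, true), (Gen.d, true)] 1 (by decide +kernel) relone_23
theorem RW_6 : wG D.rels [(Gen.i, true), (Gen.d, true), (Gen.i, true), (Gen.d, true)] = 1 :=
  wG_of_rotate D.rels R26 [(Gen.i, true), (Gen.d, true), (Gen.i, true), (Gen.d, true)] 1 (by decide +kernel) relone_26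
theorem RW_7 : wG D.rels [(Gen.c, true), (Gen.d, true), (Gen.c, true), (Gen.d, true), (Gen.c, true), (Gen.d, true)] = 1 :=
  wG_of_rotate D.rels R16 [(Gen.c, true), (Gen.d, true), (Gen.c, true), (Gen.d, true), (Gen.c, true), (Gen.d, true)] 0 (by decide +kernel) relone_16
theorem RW_8 : wG D.rels [(Gen.b, true), (Gen.h, true), (Gen.b, true), (Gen.h, true)] = 1 :=
  wG_of_rotate D.rels R14 [(Gen.b, true), (Gen.h, true), (Gen.b, true), (Gen.h, true)] 0 (by decide +kernel) relone_14
theorem RW_9 : wG D.rels [(Gen.e, true), (Gen.h, true), (Gen.e, true), (Gen.h, true)] = 1 :=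
  wG_of_rotate D.rels R29 [(Gen.e, true), (Gen.h, true), (Gen.e, true), (Gen.h, true)] 0 (by decide +kernel) relone_29
theorem RW_10 : wG D.rels [(Gen.f, true), (Gen.h, true), (Gen.f, true), (Gen.h, true)] = 1 :=
  wG_of_rotate D.rels R32 [(Gen.f, true), (Gen.h, true), (Gen.f, true), (Gen.h, true)] 0 (by decide +kernel) relone_32
theorem RW_11 : wG D.rels [(Gen.c, true), (Gen.h, true), (Gen.c, true), (Gen.h, true)] = 1 :=
  wG_of_rotate D.rels R20 [(Gen.c, true), (Gen.h, true), (Gen.c, true), (Gen.h, true)] 0 (by decide +kernel) relone_20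
theorem RW_12 : wG D.rels [(Gen.d, true), (Gen.h, true), (Gen.d, true), (Gen.h, true), (Gen.d, true), (Gen.h, true)] = 1 :=
  wG_of_rotate D.rels R25 [(Gen.d, true), (Gen.h, true), (Gen.d, true), (Gen.h, true), (Gen.d, true), (Gen.h, true)] 0 (by decide +kernel) relone_25
theorem RW_13 : wG D.rels [(Gen.b, true), (Gen.e, true), (Gen.b, true), (Gen.e, true)] = 1 :=
  wG_of_rotate D.rels R11 [(Gen.b, true), (Gen.e, true), (Gen.b, true), (Gen.e, true)] 0 (by decide +kernel) relone_11
theorem RW_14 : wG D.rels [(Gen.c, true), (Gen.e, true), (Gen.c, true), (Gen.e, true)] = 1 :=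
  wG_of_rotate D.rels R17 [(Gen.c, true), (Gen.e, true), (Gen.c, true), (Gen.e, true)] 0 (by decide +kernel) relone_17
theorem RW_15 : wG D.rels [(Gen.i, true), (Gen.e, true), (Gen.i, true), (Gen.e, true)] = 1 :=
  wG_of_rotate D.rels R30 [(Gen.i, true), (Gen.e, true), (Gen.i, true), (Gen.e, true)] 1 (by decide +kernel) relone_30
theorem RW_16 : wG D.rels [(Gen.d, true), (Gen.e, true), (Gen.d, true), (Gen.e, true), (Gen.d, true), (Gen.e, true)] = 1 :=
  wG_of_rotate D.rels R22 [(Gen.d, true), (Gen.e, true), (Gen.d, true), (Gen.e, true), (Gen.d, true), (Gen.e, true)] 0 (by decide +kernel) relone_22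
theorem RW_17 : wG D.rels [(Gen.b, true), (Gen.i, true), (Gen.b, true), (Gen.i, true)] = 1 :=
  wG_of_rotate D.rels R15 [(Gen.b, true), (Gen.i, true), (Gen.b, true), (Gen.i, true)] 0 (by decide +kernel) relone_15
theorem RW_18 : wG D.rels [(Gen.e, true), (Gen.i, true), (Gen.e, true), (Gen.i, true)] = 1 :=
  wG_of_rotate D.rels R30 [(Gen.e, true), (Gen.i, true), (Gen.e, true), (Gen.i, true)] 0 (by decide +kernel) relone_30
theorem RW_19 : wG D.rels [(Gen.f, true), (Gen.i, true), (Gen.f, true), (Gen.i, true)] = 1 :=
  wG_of_rotate D.rels R33 [(Gen.f, true), (Gen.i, true), (Gen.f, true), (Gen.i, true)] 0 (by decide +kernel) relone_33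
theorem RW_20 : wG D.rels [(Gen.h, true), (Gen.i, true), (Gen.h, true), (Gen.i, true), (Gen.h, true), (Gen.i, true)] = 1 :=
  wG_of_rotate D.rels R36 [(Gen.h, true), (Gen.i, true), (Gen.h, true), (Gen.i, true), (Gen.h, true), (Gen.i, true)] 0 (by decide +kernel) relone_36
theorem RW_21 : wG D.rels [(Gen.d, true), (Gen.c, true), (Gen.d, true), (Gen.c, true), (Gen.d, true), (Gen.c, true)] = 1 :=
  wG_of_rotate D.rels R16 [(Gen.d, true), (Gen.c, true), (Gen.d, true), (Gen.c, true), (Gen.d, true), (Gen.c, true)] 1 (by decide +kernel) relone_16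
theorem RW_22 : wG D.rels [(Gen.c, true), (Gen.i, true), (Gen.c, true), (Gen.i, true)] = 1 :=
  wG_of_rotate D.rels R21 [(Gen.c, true), (Gen.i, true), (Gen.c, true), (Gen.i, true)] 0 (by decide +kernel) relone_21
theorem RW_23 : wG D.rels [(Gen.d, true), (Gen.i, true), (Gen.d, true), (Gen.i, true)] = 1 :=
  wG_of_rotate D.rels R26 [(Gen.d, true), (Gen.i, true), (Gen.d, true), (Gen.i, true)] 0 (by decide +kernel) relone_26
theorem RW_24 : wG D.rels [(Gen.b, true), (Gen.c, true), (Gen.b, true), (Gen.c, true), (Gen.b, true), (Gen.c, true)] = 1 :=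
  wG_of_rotate D.rels R9 [(Gen.b, true), (Gen.c, true), (Gen.b, true), (Gen.c, true), (Gen.b, true), (Gen.c, true)] 0 (by decide +kernel) relone_9
theorem RW_25 : wG D.rels [(Gen.f, true), (Gen.d, true), (Gen.h, true), (Gen.i, true), (Gen.d, true), (Gen.c, true), (Gen.b, true), (Gen.d, true), (Gen.e, true), (Gen.f, true), (Gen.d, true), (Gen.h, true), (Gen.i, true), (Gen.d, true), (Gen.c, true), (Gen.b, true), (Gen.d, true), (Gen.e, true), (Gen.f, true), (Gen.d, true), (Gen.h, true), (Gen.i, true), (Gen.d, true), (Gen.c, true), (Gen.b, true), (Gen.d, true), (Gen.e, true), (Gen.f, true), (Gen.d, true), (Gen.h, true), (Gen.i, true), (Gen.d, true), (Gen.c, true), (Gen.b, true), (Gen.d, true), (Gen.e, true), (Gen.f, true), (Gen.d, true), (Gen.h, true), (Gen.i, true), (Gen.d, true), (Gen.c, true), (Gen.b, true), (Gen.d, true), (Gen.e, true), (Gen.f, true), (Gen.d, true), (Gen.h, true), (Gen.i, true), (Gen.d, true), (Gen.c, true), (Gen.b, true), (Gen.d, true), (Gen.e, true), (Gen.f, true), (Gen.d, true), (Gen.h, true), (Gen.i, true), (Gen.d, true), (Gen.c, true),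 (Gen.b, true), (Gen.d, true), (Gen.e, true), (Gen.f, true), (Gen.d, true), (Gen.h, true), (Gen.i, true), (Gen.d, true), (Gen.c, true), (Gen.b, true), (Gen.d, true), (Gen.e, true), (Gen.f, true), (Gen.d, true), (Gen.h, true), (Gen.i, true), (Gen.d, true), (Gen.c, true), (Gen.b, true), (Gen.d, true), (Gen.e, true), (Gen.f, true), (Gen.d, true), (Gen.h, true), (Gen.i, true), (Gen.d, true), (Gen.c, true), (Gen.b, true), (Gen.d, true), (Gen.e, true)] = 1 :=
  wG_of_rotate D.rels R37 [(Gen.f, true), (Gen.d, true), (Gen.h, true), (Gen.i, true), (Gen.d, true), (Gen.c, true), (Gen.b, true), (Gen.d, true), (Gen.e, true), (Gen.f, true), (Gen.d, true), (Gen.h, true), (Gen.i, true), (Gen.d, true), (Gen.c, true), (Gen.b, true), (Gen.d, true), (Gen.e, true), (Gen.f, true), (Gen.d, true), (Gen.h, true), (Gen.i, true), (Gen.d, true), (Gen.c, true), (Gen.b, true), (Gen.d, true), (Gen.e, true), (Gen.f, true), (Gen.d, true), (Gen.h, true), (Gen.i, true), (Gen.d, true), (Gen.c, true), (Gen.b, true), (Gen.d, true), (Gen.e, true), (Gen.f, true), (Gen.d, true), (Gen.h, true), (Gen.i,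 true), (Gen.d, true), (Gen.c, true), (Gen.b, true), (Gen.d, true), (Gen.e, true), (Gen.f, true), (Gen.d, true), (Gen.h, true), (Gen.i, true), (Gen.d, true), (Gen.c, true), (Gen.b, true), (Gen.d, true), (Gen.e, true), (Gen.f, true), (Gen.d, true), (Gen.h, true), (Gen.i, true), (Gen.d, true), (Gen.c, true), (Gen.b, true), (Gen.d, true), (Gen.e, true), (Gen.f, true), (Gen.d, true), (Gen.h, true), (Gen.i, true), (Gen.d, true), (Gen.c, true), (Gen.b, true), (Gen.d, true), (Gen.e, true), (Gen.f, true), (Gen.d, true), (Gen.h, true), (Gen.i, true), (Gen.d, true), (Gen.c, true), (Gen.b, true), (Gen.d, true), (Gen.e, true), (Gen.f, true), (Gen.d, true), (Gen.h, true), (Gen.i, true), (Gen.d, true), (Gen.c, true), (Gen.b, true), (Gen.d, true), (Gen.e, true)] 5 (by decide +kernel) relone_37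
theorem RW_26 : wG D.rels [(Gen.b, true), (Gen.f, true), (Gen.b, true), (Gen.f, true)] = 1 :=
  wG_of_rotate D.rels R12 [(Gen.b, true), (Gen.f, true), (Gen.b, true), (Gen.f, true)] 0 (by decide +kernel) relone_12
theorem RW_27 : wG D.rels [(Gen.c, true), (Gen.f, true), (Gen.c, true), (Gen.f, true)] = 1 :=
  wG_of_rotate D.rels R18 [(Gen.c, true), (Gen.f, true), (Gen.c, true), (Gen.f, true)] 0 (by decide +kernel) relone_18
theorem RW_28 : wG D.rels [(Gen.e, true), (Gen.f, true), (Gen.d, true), (Gen.h, true), (Gen.i, true), (Gen.d, true), (Gen.c, true), (Gen.b, true), (Gen.d, true), (Gen.e, true), (Gen.f, true), (Gen.d, true), (Gen.h, true), (Gen.i, true), (Gen.d, true), (Gen.c, true), (Gen.b, true), (Gen.d, true), (Gen.e, true), (Gen.f, true), (Gen.d, true), (Gen.h, true), (Gen.i, true), (Gen.d, true), (Gen.c, true), (Gen.b, true), (Gen.d, true), (Gen.e, true), (Gen.f, true), (Gen.d, true), (Gen.h, true), (Gen.i, true), (Gen.d, true), (Gen.c, true), (Gen.b, true), (Gen.d, true), (Gen.e, true), (Gen.f, true), (Gen.d, true), (Gen.h, true), (Gen.i, true), (Gen.d,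 true), (Gen.c, true), (Gen.b, true), (Gen.d, true), (Gen.e, true), (Gen.f, true), (Gen.d, true), (Gen.h, true), (Gen.i, true), (Gen.d, true), (Gen.c, true), (Gen.b, true), (Gen.d, true), (Gen.e, true), (Gen.f, true), (Gen.d, true), (Gen.h, true), (Gen.i, true), (Gen.d, true), (Gen.c, true), (Gen.b, true), (Gen.d, true), (Gen.e, true), (Gen.f, true), (Gen.d, true), (Gen.h, true), (Gen.i, true), (Gen.d, true), (Gen.c, true), (Gen.b, true), (Gen.d, true), (Gen.e, true), (Gen.f, true), (Gen.d, true), (Gen.h, true), (Gen.i, true), (Gen.d, true), (Gen.c, true), (Gen.b, true), (Gen.d, true), (Gen.e, true), (Gen.f, true), (Gen.d, true), (Gen.h, true), (Gen.i, true), (Gen.d, true), (Gen.c, true), (Gen.b, true), (Gen.d, true)] = 1 :=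
  wG_of_rotate D.rels R37 [(Gen.e, true), (Gen.f, true), (Gen.d, true), (Gen.h, true), (Gen.i, true), (Gen.d, true), (Gen.c, true), (Gen.b, true), (Gen.d, true), (Gen.e, true), (Gen.f, true), (Gen.d, true), (Gen.h, true), (Gen.i, true), (Gen.d, true), (Gen.c, true), (Gen.b, true), (Gen.d, true), (Gen.e, true), (Gen.f, true), (Gen.d, true), (Gen.h, true), (Gen.i, true), (Gen.d, true), (Gen.c, true), (Gen.b, true), (Gen.d, true), (Gen.e, true), (Gen.f, true), (Gen.d, true), (Gen.h, true), (Gen.i, true), (Gen.d, true), (Gen.c, true), (Gen.b, true), (Gen.d, true), (Gen.e, true), (Gen.f, true), (Gen.d, true), (Gen.h, true), (Gen.i, true), (Gen.d, true), (Gen.c, true), (Gen.b, true), (Gen.d, true), (Gen.e, true), (Gen.f, true), (Gen.d, true), (Gen.h, true), (Gen.i, true), (Gen.d, true), (Gen.c, true), (Gen.b, true), (Gen.d, true), (Gen.e, true), (Gen.f, true), (Gen.d, true), (Gen.h, true), (Gen.i, true), (Gen.d, true), (Gen.c, true), (Gen.b, true), (Gen.d, true), (Gen.e, true), (Gen.f, true), (Gen.d, true), (Gen.h, true), (Gen.i, true), (Gen.d, true), (Gen.c, true),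 (Gen.b, true), (Gen.d, true), (Gen.e, true), (Gen.f, true), (Gen.d, true), (Gen.h, true), (Gen.i, true), (Gen.d, true), (Gen.c, true), (Gen.b, true), (Gen.d, true), (Gen.e, true), (Gen.f, true), (Gen.d, true), (Gen.h, true), (Gen.i, true), (Gen.d, true), (Gen.c, true), (Gen.b, true), (Gen.d, true)] 4 (by decide +kernel) relone_37
theorem RW_29 : wG D.rels [(Gen.d, true), (Gen.b, true), (Gen.d, true), (Gen.b, true)] = 1 :=
  wG_of_rotate D.rels R10 [(Gen.d, true), (Gen.b, true), (Gen.d, true), (Gen.b, true)] 1 (by decide +kernel) relone_10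
theorem RW_30 : wG D.rels [(Gen.e, true), (Gen.b, true), (Gen.e, true), (Gen.b, true)] = 1 :=
  wG_of_rotate D.rels R11 [(Gen.e, true), (Gen.b, true), (Gen.e, true), (Gen.b, true)] 1 (by decide +kernel) relone_11
theorem RW_31 : wG D.rels [(Gen.h, true), (Gen.b, true), (Gen.h, true), (Gen.b, true)] = 1 :=
  wG_of_rotate D.rels R14 [(Gen.h, true), (Gen.b, true), (Gen.h, true), (Gen.b, true)] 1 (by decide +kernel) relone_14
theorem RW_32 : wG D.rels [(Gen.h, true), (Gen.c, true), (Gen.h, true), (Gen.c, true)] = 1 :=
  wG_of_rotate D.rels R20 [(Gen.h, true), (Gen.c, true), (Gen.h, true), (Gen.c, true)] 1 (by decide +kernel) relone_20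
theorem RW_33 : wG D.rels [(Gen.h, true), (Gen.d, true), (Gen.h, true), (Gen.d, true), (Gen.h, true), (Gen.d, true)] = 1 :=
  wG_of_rotate D.rels R25 [(Gen.h, true), (Gen.d, true), (Gen.h, true), (Gen.d, true), (Gen.h, true), (Gen.d, true)] 1 (by decide +kernel) relone_25
theorem RW_34 : wG D.rels [(Gen.i, true), (Gen.h, true), (Gen.i, true), (Gen.h, true), (Gen.i, true), (Gen.h, true)] = 1 :=
  wG_of_rotate D.rels R36 [(Gen.i, true), (Gen.h, true), (Gen.i, true), (Gen.h, true), (Gen.i, true), (Gen.h, true)] 1 (by decide +kernel) relone_36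
theorem RW_35 : wG D.rels [(Gen.i, true), (Gen.f, true), (Gen.i, true), (Gen.f, true)] = 1 :=
  wG_of_rotate D.rels R33 [(Gen.i, true), (Gen.f, true), (Gen.i, true), (Gen.f, true)] 1 (by decide +kernel) relone_33
theorem RW_36 : wG D.rels [(Gen.i, true), (Gen.b, true), (Gen.i, true), (Gen.b, true)] = 1 :=
  wG_of_rotate D.rels R15 [(Gen.i, true), (Gen.b, true), (Gen.i, true), (Gen.b, true)] 1 (by decide +kernel) relone_15
theorem RW_37 : wG D.rels [(Gen.i, true), (Gen.h, true), (Gen.d, true), (Gen.f, true), (Gen.e, true), (Gen.d, true), (Gen.b, true), (Gen.c, true), (Gen.d, true), (Gen.i, true), (Gen.h, true), (Gen.d, true), (Gen.f, true), (Gen.e, true), (Gen.d, true), (Gen.b, true), (Gen.c, true), (Gen.d, true), (Gen.i, true), (Gen.h, true), (Gen.d, true), (Gen.f, true), (Gen.e, true), (Gen.d, true), (Gen.b, true), (Gen.c, true), (Gen.d, true), (Gen.i, true), (Gen.h, true), (Gen.d, true), (Gen.f, true), (Gen.e, true), (Gen.d, true), (Gen.b, true), (Gen.c, true), (Gen.d, true), (Gen.i, true), (Gen.h, true), (Gen.d, true), (Gen.f, true), (Gen.e, true), (Gen.d,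 true), (Gen.b, true), (Gen.c, true), (Gen.d, true), (Gen.i, true), (Gen.h, true), (Gen.d, true), (Gen.f, true), (Gen.e, true), (Gen.d, true), (Gen.b, true), (Gen.c, true), (Gen.d, true), (Gen.i, true), (Gen.h, true), (Gen.d, true), (Gen.f, true), (Gen.e, true), (Gen.d, true), (Gen.b, true), (Gen.c, true), (Gen.d, true), (Gen.i, true), (Gen.h, true), (Gen.d, true), (Gen.f, true), (Gen.e, true), (Gen.d, true), (Gen.b, true), (Gen.c, true), (Gen.d, true), (Gen.i, true), (Gen.h, true), (Gen.d, true), (Gen.f, true), (Gen.e, true), (Gen.d, true), (Gen.b, true), (Gen.c, true), (Gen.d, true), (Gen.i, true), (Gen.h, true), (Gen.d, true), (Gen.f, true), (Gen.e, true), (Gen.d, true), (Gen.b, true), (Gen.c, true), (Gen.d, true)] = 1 :=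
  wG_of_rotate D.rels RV37 [(Gen.i, true), (Gen.h, true), (Gen.d, true), (Gen.f, true), (Gen.e, true), (Gen.d, true), (Gen.b, true), (Gen.c, true), (Gen.d, true), (Gen.i, true), (Gen.h, true), (Gen.d, true), (Gen.f, true), (Gen.e, true), (Gen.d, true), (Gen.b, true), (Gen.c, true), (Gen.d, true), (Gen.i, true), (Gen.h, true), (Gen.d, true), (Gen.f, true), (Gen.e, true), (Gen.d, true), (Gen.b, true), (Gen.c, true), (Gen.d, true), (Gen.i, true), (Gen.h, true), (Gen.d, true), (Gen.f, true), (Gen.e, true), (Gen.d, true), (Gen.b, true), (Gen.c, true), (Gen.d, true), (Gen.i, true), (Gen.h, true), (Gen.d, true), (Gen.f, true), (Gen.e, true), (Gen.d, true), (Gen.b, true), (Gen.c, true), (Gen.d, true), (Gen.i, true), (Gen.h, true), (Gen.d, true), (Gen.f, true), (Gen.e, true), (Gen.d, true), (Gen.b, true), (Gen.c, true), (Gen.d, true), (Gen.i, true), (Gen.h, true), (Gen.d, true), (Gen.f, true), (Gen.e, true), (Gen.d, true), (Gen.b, true), (Gen.c, true), (Gen.d, true), (Gen.i, true), (Gen.h, true), (Gen.d, true), (Gen.f, true), (Gen.e, true), (Gen.d, true), (Gen.b, true),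 (Gen.c, true), (Gen.d, true), (Gen.i, true), (Gen.h, true), (Gen.d, true), (Gen.f, true), (Gen.e, true), (Gen.d, true), (Gen.b, true), (Gen.c, true), (Gen.d, true), (Gen.i, true), (Gen.h, true), (Gen.d, true), (Gen.f, true), (Gen.e, true), (Gen.d, true), (Gen.b, true), (Gen.c, true), (Gen.d, true)] 0 (by decide +kernel) relrev_37
theorem RW_38 : wG D.rels [(Gen.h, true), (Gen.e, true), (Gen.h, true), (Gen.e, true)] = 1 :=
  wG_of_rotate D.rels R29 [(Gen.h, true), (Gen.e, true), (Gen.h, true), (Gen.e, true)] 1 (by decide +kernel) relone_29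
theorem RW_39 : wG D.rels [(Gen.h, true), (Gen.f, true), (Gen.h, true), (Gen.f, true)] = 1 :=
  wG_of_rotate D.rels R32 [(Gen.h, true), (Gen.f, true), (Gen.h, true), (Gen.f, true)] 1 (by decide +kernel) relone_32
theorem RW_40 : wG D.rels [(Gen.d, true), (Gen.f, true), (Gen.d, true), (Gen.f, true)] = 1 :=
  wG_of_rotate D.rels R23 [(Gen.d, true), (Gen.f, true), (Gen.d, true), (Gen.f, true)] 0 (by decide +kernel) relone_23
theorem RW_41 : wG D.rels [(Gen.e, true), (Gen.d, true), (Gen.e, true), (Gen.d, true), (Gen.e, true), (Gen.d, true)] = 1 :=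
  wG_of_rotate D.rels R22 [(Gen.e, true), (Gen.d, true), (Gen.e, true), (Gen.d, true), (Gen.e, true), (Gen.d, true)] 1 (by decide +kernel) relone_22
theorem RW_42 : wG D.rels [(Gen.f, true), (Gen.b, true), (Gen.f, true), (Gen.b, true)] = 1 :=
  wG_of_rotate D.rels R12 [(Gen.f, true), (Gen.b, true), (Gen.f, true), (Gen.b, true)] 1 (by decide +kernel) relone_12
theorem RW_43 : wG D.rels [(Gen.d, true), (Gen.i, true), (Gen.h, true), (Gen.d, true), (Gen.f, true), (Gen.e, true), (Gen.d, true), (Gen.b, true), (Gen.c, true), (Gen.d, true), (Gen.i, true), (Gen.h, true), (Gen.d, true), (Gen.f, true), (Gen.e, true), (Gen.d, true), (Gen.b, true), (Gen.c, true), (Gen.d, true), (Gen.i, true), (Gen.h, true), (Gen.d, true), (Gen.f, true), (Gen.e, true), (Gen.d, true), (Gen.b, true), (Gen.c, true), (Gen.d, true), (Gen.i, true), (Gen.h, true), (Gen.d, true), (Gen.f, true), (Gen.e, true), (Gen.d, true), (Gen.b, true), (Gen.c, true), (Gen.d, true), (Gen.i, true), (Gen.h, true), (Gen.d, true), (Gen.f, true), (Gen.e, true), (Gen.d, true), (Gen.b, true), (Gen.c, true), (Gen.d, true),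 (Gen.i, true), (Gen.h, true), (Gen.d, true), (Gen.f, true), (Gen.e, true), (Gen.d, true), (Gen.b, true), (Gen.c, true), (Gen.d, true), (Gen.i, true), (Gen.h, true), (Gen.d, true), (Gen.f, true), (Gen.e, true), (Gen.d, true), (Gen.b, true), (Gen.c, true), (Gen.d, true), (Gen.i, true), (Gen.h, true), (Gen.d, true), (Gen.f, true), (Gen.e, true), (Gen.d, true), (Gen.b, true), (Gen.c, true), (Gen.d, true), (Gen.i, true), (Gen.h, true), (Gen.d, true), (Gen.f, true), (Gen.e, true), (Gen.d, true), (Gen.b, true), (Gen.c, true), (Gen.d, true), (Gen.i, true), (Gen.h, true), (Gen.d, true), (Gen.f, true), (Gen.e, true), (Gen.d, true), (Gen.b, true), (Gen.c, true)] = 1 :=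
  wG_of_rotate D.rels RV37 [(Gen.d, true), (Gen.i, true), (Gen.h, true), (Gen.d, true), (Gen.f, true), (Gen.e, true), (Gen.d, true), (Gen.b, true), (Gen.c, true), (Gen.d, true), (Gen.i, true), (Gen.h, true), (Gen.d, true), (Gen.f, true), (Gen.e, true), (Gen.d, true), (Gen.b, true), (Gen.c, true), (Gen.d, true), (Gen.i, true), (Gen.h, true), (Gen.d, true), (Gen.f, true), (Gen.e, true), (Gen.d, true), (Gen.b, true), (Gen.c, true), (Gen.d, true), (Gen.i, true), (Gen.h, true), (Gen.d, true), (Gen.f, true), (Gen.e, true), (Gen.d, true), (Gen.b, true), (Gen.c, true), (Gen.d, true), (Gen.i, true), (Gen.h, true), (Gen.d, true), (Gen.f, true), (Gen.e, true), (Gen.d, true), (Gen.b, true), (Gen.c, true), (Gen.d, true), (Gen.i, true), (Gen.h, true), (Gen.d, true), (Gen.f, true), (Gen.e, true), (Gen.d, true), (Gen.b, true), (Gen.c, true), (Gen.d, true), (Gen.i, true), (Gen.h, true), (Gen.d, true), (Gen.f, true), (Gen.e, true), (Gen.d, true), (Gen.b, true), (Gen.c, true), (Gen.d, true), (Gen.i, true), (Gen.h, true), (Gen.d, true), (Gen.f, true), (Gen.e, true), (Gen.d, true),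 (Gen.b, true), (Gen.c, true), (Gen.d, true), (Gen.i, true), (Gen.h, true), (Gen.d, true), (Gen.f, true), (Gen.e, true), (Gen.d, true), (Gen.b, true), (Gen.c, true), (Gen.d, true), (Gen.i, true), (Gen.h, true), (Gen.d, true), (Gen.f, true), (Gen.e, true), (Gen.d, true), (Gen.b, true), (Gen.c, true)] 8 (by decide +kernel) relrev_37
theorem RW_44 : wG D.rels [(Gen.e, true), (Gen.f, true), (Gen.e, true), (Gen.f, true), (Gen.e, true), (Gen.f, true)] = 1 :=
  wG_of_rotate D.rels R27 [(Gen.e, true), (Gen.f, true), (Gen.e, true), (Gen.f, true), (Gen.e, true), (Gen.f, true)] 0 (by decide +kernel) relone_27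
theorem RW_45 : wG D.rels [(Gen.c, true), (Gen.b, true), (Gen.d, true), (Gen.e, true), (Gen.f, true), (Gen.d, true), (Gen.h, true), (Gen.i, true), (Gen.d, true), (Gen.c, true), (Gen.b, true), (Gen.d, true), (Gen.e, true), (Gen.f, true), (Gen.d, true), (Gen.h, true), (Gen.i, true), (Gen.d, true), (Gen.c, true), (Gen.b, true), (Gen.d, true), (Gen.e, true), (Gen.f, true), (Gen.d, true), (Gen.h, true), (Gen.i, true), (Gen.d, true), (Gen.c, true), (Gen.b, true), (Gen.d, true), (Gen.e, true), (Gen.f, true), (Gen.d, true), (Gen.h, true), (Gen.i, true), (Gen.d, true), (Gen.c, true), (Gen.b, true), (Gen.d, true), (Gen.e, true), (Gen.f, true), (Gen.d, true), (Gen.h, true), (Gen.i, true), (Gen.d, true), (Gen.c, true), (Gen.b, true), (Gen.d, true), (Gen.e, true), (Gen.f, true), (Gen.d, true), (Gen.h, true), (Gen.i, true), (Gen.d, true), (Gen.c, true), (Gen.b, true), (Gen.d, true), (Gen.e, true), (Gen.f, true), (Gen.d, true), (Gen.h, true), (Gen.i, true), (Gen.d, true), (Gen.c, true), (Gen.b, true), (Gen.d, true), (Gen.e, true), (Gen.f, true), (Gen.d, true), (Gen.h, true),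 (Gen.i, true), (Gen.d, true), (Gen.c, true), (Gen.b, true), (Gen.d, true), (Gen.e, true), (Gen.f, true), (Gen.d, true), (Gen.h, true), (Gen.i, true), (Gen.d, true), (Gen.c, true), (Gen.b, true), (Gen.d, true), (Gen.e, true), (Gen.f, true), (Gen.d, true), (Gen.h, true), (Gen.i, true), (Gen.d, true)] = 1 :=
  wG_of_rotate D.rels R37 [(Gen.c, true), (Gen.b, true), (Gen.d, true), (Gen.e, true), (Gen.f, true), (Gen.d, true), (Gen.h, true), (Gen.i, true), (Gen.d, true), (Gen.c, true), (Gen.b, true), (Gen.d, true), (Gen.e, true), (Gen.f, true), (Gen.d, true), (Gen.h, true), (Gen.i, true), (Gen.d, true), (Gen.c, true), (Gen.b, true), (Gen.d, true), (Gen.e, true), (Gen.f, true), (Gen.d, true), (Gen.h, true), (Gen.i, true), (Gen.d, true), (Gen.c, true), (Gen.b, true), (Gen.d, true), (Gen.e, true), (Gen.f, true), (Gen.d, true), (Gen.h, true), (Gen.i, true), (Gen.d, true), (Gen.c, true), (Gen.b, true), (Gen.d, true), (Gen.e, true), (Gen.f, true), (Gen.d, true), (Gen.h, true), (Gen.i, true), (Gen.d, true), (Gen.c, true), (Gen.b, true), (Gen.d, true), (Gen.e, true), (Gen.f,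 true), (Gen.d, true), (Gen.h, true), (Gen.i, true), (Gen.d, true), (Gen.c, true), (Gen.b, true), (Gen.d, true), (Gen.e, true), (Gen.f, true), (Gen.d, true), (Gen.h, true), (Gen.i, true), (Gen.d, true), (Gen.c, true), (Gen.b, true), (Gen.d, true), (Gen.e, true), (Gen.f, true), (Gen.d, true), (Gen.h, true), (Gen.i, true), (Gen.d, true), (Gen.c, true), (Gen.b, true), (Gen.d, true), (Gen.e, true), (Gen.f, true), (Gen.d, true), (Gen.h, true), (Gen.i, true), (Gen.d, true), (Gen.c, true), (Gen.b, true), (Gen.d, true), (Gen.e, true), (Gen.f, true), (Gen.d, true), (Gen.h, true), (Gen.i, true), (Gen.d, true)] 1 (by decide +kernel) relone_37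
theorem RW_46 : wG D.rels [(Gen.b, true), (Gen.d, true), (Gen.e, true), (Gen.f, true), (Gen.d, true), (Gen.h, true), (Gen.i, true), (Gen.d, true), (Gen.c, true), (Gen.b, true), (Gen.d, true), (Gen.e, true), (Gen.f, true), (Gen.d, true), (Gen.h, true), (Gen.i, true), (Gen.d, true), (Gen.c, true), (Gen.b, true), (Gen.d, true), (Gen.e, true), (Gen.f, true), (Gen.d, true), (Gen.h, true), (Gen.i, true), (Gen.d, true), (Gen.c, true), (Gen.b, true), (Gen.d, true), (Gen.e, true), (Gen.f, true), (Gen.d, true), (Gen.h, true), (Gen.i, true), (Gen.d, true), (Gen.c, true), (Gen.b, true), (Gen.d, true), (Gen.e, true), (Gen.f, true), (Gen.d, true), (Gen.h, true), (Gen.i, true), (Gen.d, true), (Gen.c, true), (Gen.b, true), (Gen.d, true), (Gen.e, true), (Gen.f, true), (Gen.d, true), (Gen.h, true), (Gen.i, true), (Gen.d, true), (Gen.c, true), (Gen.b, true), (Gen.d, true), (Gen.e, true), (Gen.f, true), (Gen.d, true), (Gen.h, true), (Gen.i, true), (Gen.d, true), (Gen.c, true), (Gen.b, true), (Gen.d, true), (Gen.e, true), (Gen.f, true), (Gen.d, true), (Gen.h, true), (Gen.i, true),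 (Gen.d, true), (Gen.c, true), (Gen.b, true), (Gen.d, true), (Gen.e, true), (Gen.f, true), (Gen.d, true), (Gen.h, true), (Gen.i, true), (Gen.d, true), (Gen.c, true), (Gen.b, true), (Gen.d, true), (Gen.e, true), (Gen.f, true), (Gen.d, true), (Gen.h, true), (Gen.i, true), (Gen.d, true), (Gen.c, true)] = 1 :=
  wG_of_rotate D.rels R37 [(Gen.b, true), (Gen.d, true), (Gen.e, true), (Gen.f, true), (Gen.d, true), (Gen.h, true), (Gen.i, true), (Gen.d, true), (Gen.c, true), (Gen.b, true), (Gen.d, true), (Gen.e, true), (Gen.f, true), (Gen.d, true), (Gen.h, true), (Gen.i, true), (Gen.d, true), (Gen.c, true), (Gen.b, true), (Gen.d, true), (Gen.e, true), (Gen.f, true), (Gen.d, true), (Gen.h, true), (Gen.i, true), (Gen.d, true), (Gen.c, true), (Gen.b, true), (Gen.d, true), (Gen.e, true), (Gen.f, true), (Gen.d, true), (Gen.h, true), (Gen.i, true), (Gen.d, true), (Gen.c, true), (Gen.b, true), (Gen.d, true), (Gen.e, true), (Gen.f, true), (Gen.d, true), (Gen.h, true), (Gen.i, true), (Gen.d, true), (Gen.c, true), (Gen.b, true), (Gen.d, true), (Gen.e, true), (Gen.f, true), (Gen.d,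 true), (Gen.h, true), (Gen.i, true), (Gen.d, true), (Gen.c, true), (Gen.b, true), (Gen.d, true), (Gen.e, true), (Gen.f, true), (Gen.d, true), (Gen.h, true), (Gen.i, true), (Gen.d, true), (Gen.c, true), (Gen.b, true), (Gen.d, true), (Gen.e, true), (Gen.f, true), (Gen.d, true), (Gen.h, true), (Gen.i, true), (Gen.d, true), (Gen.c, true), (Gen.b, true), (Gen.d, true), (Gen.e, true), (Gen.f, true), (Gen.d, true), (Gen.h, true), (Gen.i, true), (Gen.d, true), (Gen.c, true), (Gen.b, true), (Gen.d, true), (Gen.e, true), (Gen.f, true), (Gen.d, true), (Gen.h, true), (Gen.i, true), (Gen.d, true), (Gen.c, true)] 2 (by decide +kernel) relone_37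
theorem RW_47 : wG D.rels [(Gen.f, true), (Gen.e, true), (Gen.f, true), (Gen.e, true), (Gen.f, true), (Gen.e, true)] = 1 :=
  wG_of_rotate D.rels R27 [(Gen.f, true), (Gen.e, true), (Gen.f, true), (Gen.e, true), (Gen.f, true), (Gen.e, true)] 1 (by decide +kernel) relone_27
theorem RW_48 : wG D.rels [(Gen.e, true), (Gen.d, true), (Gen.b, true), (Gen.c, true), (Gen.d, true), (Gen.i, true), (Gen.h, true), (Gen.d, true), (Gen.f, true), (Gen.e, true), (Gen.d, true), (Gen.b, true), (Gen.c, true), (Gen.d, true), (Gen.i, true), (Gen.h, true), (Gen.d, true), (Gen.f, true), (Gen.e, true), (Gen.d, true), (Gen.b, true), (Gen.c, true), (Gen.d, true), (Gen.i, true), (Gen.h, true), (Gen.d, true), (Gen.f, true), (Gen.e, true), (Gen.d, true), (Gen.b, true), (Gen.c, true), (Gen.d, true), (Gen.i, true), (Gen.h, true), (Gen.d, true), (Gen.f, true), (Gen.e, true), (Gen.d, true), (Gen.b, true), (Gen.c, true), (Gen.d, true), (Gen.i, true), (Gen.h, true), (Gen.d, true), (Gen.f, true), (Gen.e, true), (Gen.d, true), (Gen.b, true), (Gen.c, true), (Gen.d, true), (Gen.i, true), (Gen.h,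 true), (Gen.d, true), (Gen.f, true), (Gen.e, true), (Gen.d, true), (Gen.b, true), (Gen.c, true), (Gen.d, true), (Gen.i, true), (Gen.h, true), (Gen.d, true), (Gen.f, true), (Gen.e, true), (Gen.d, true), (Gen.b, true), (Gen.c, true), (Gen.d, true), (Gen.i, true), (Gen.h, true), (Gen.d, true), (Gen.f, true), (Gen.e, true), (Gen.d, true), (Gen.b, true), (Gen.c, true), (Gen.d, true), (Gen.i, true), (Gen.h, true), (Gen.d, true), (Gen.f, true), (Gen.e, true), (Gen.d, true), (Gen.b, true), (Gen.c, true), (Gen.d, true), (Gen.i, true), (Gen.h, true), (Gen.d, true), (Gen.f, true)] = 1 :=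
  wG_of_rotate D.rels RV37 [(Gen.e, true), (Gen.d, true), (Gen.b, true), (Gen.c, true), (Gen.d, true), (Gen.i, true), (Gen.h, true), (Gen.d, true), (Gen.f, true), (Gen.e, true), (Gen.d, true), (Gen.b, true), (Gen.c, true), (Gen.d, true), (Gen.i, true), (Gen.h, true), (Gen.d, true), (Gen.f, true), (Gen.e, true), (Gen.d, true), (Gen.b, true), (Gen.c, true), (Gen.d, true), (Gen.i, true), (Gen.h, true), (Gen.d, true), (Gen.f, true), (Gen.e, true), (Gen.d, true), (Gen.b, true), (Gen.c, true), (Gen.d, true), (Gen.i, true), (Gen.h, true), (Gen.d, true), (Gen.f, true), (Gen.e, true), (Gen.d, true), (Gen.b, true), (Gen.c, true), (Gen.d, true), (Gen.i, true), (Gen.h, true), (Gen.d, true), (Gen.f, true), (Gen.e, true), (Gen.d, true), (Gen.b, true), (Gen.c, true), (Gen.d, true), (Gen.i, true), (Gen.h, true), (Gen.d, true), (Gen.f, true), (Gen.e, true), (Gen.d, true), (Gen.b, true), (Gen.c, true), (Gen.d, true), (Gen.i, true), (Gen.h, true), (Gen.d, true), (Gen.f, true), (Gen.e, true), (Gen.d, true), (Gen.b, true), (Gen.c, true), (Gen.d, true), (Gen.i, true), (Gen.h, true),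 (Gen.d, true), (Gen.f, true), (Gen.e, true), (Gen.d, true), (Gen.b, true), (Gen.c, true), (Gen.d, true), (Gen.i, true), (Gen.h, true), (Gen.d, true), (Gen.f, true), (Gen.e, true), (Gen.d, true), (Gen.b, true), (Gen.c, true), (Gen.d, true), (Gen.i, true), (Gen.h, true), (Gen.d, true), (Gen.f, true)] 4 (by decide +kernel) relrev_37
theorem RW_49 : wG D.rels [(Gen.c, true), (Gen.d, true), (Gen.i, true), (Gen.h, true), (Gen.d, true), (Gen.f, true), (Gen.e, true), (Gen.d, true), (Gen.b, true), (Gen.c, true), (Gen.d, true), (Gen.i, true), (Gen.h, true), (Gen.d, true), (Gen.f, true), (Gen.e, true), (Gen.d, true), (Gen.b, true), (Gen.c, true), (Gen.d, true), (Gen.i, true), (Gen.h, true), (Gen.d, true), (Gen.f, true), (Gen.e, true), (Gen.d, true), (Gen.b, true), (Gen.c, true), (Gen.d, true), (Gen.i, true), (Gen.h, true), (Gen.d, true), (Gen.f, true), (Gen.e, true), (Gen.d, true), (Gen.b, true), (Gen.c, true), (Gen.d, true), (Gen.i, true), (Gen.h, true), (Gen.d, true), (Gen.f, true), (Gen.e, true), (Gen.d, true), (Gen.b, true), (Gen.c, true), (Gen.d, true), (Gen.i, true),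 (Gen.h, true), (Gen.d, true), (Gen.f, true), (Gen.e, true), (Gen.d, true), (Gen.b, true), (Gen.c, true), (Gen.d, true), (Gen.i, true), (Gen.h, true), (Gen.d, true), (Gen.f, true), (Gen.e, true), (Gen.d, true), (Gen.b, true), (Gen.c, true), (Gen.d, true), (Gen.i, true), (Gen.h, true), (Gen.d, true), (Gen.f, true), (Gen.e, true), (Gen.d, true), (Gen.b, true), (Gen.c, true), (Gen.d, true), (Gen.i, true), (Gen.h, true), (Gen.d, true), (Gen.f, true), (Gen.e, true), (Gen.d, true), (Gen.b, true), (Gen.c, true), (Gen.d, true), (Gen.i, true), (Gen.h, true), (Gen.d, true), (Gen.f, true), (Gen.e, true), (Gen.d, true), (Gen.b, true)] = 1 :=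
  wG_of_rotate D.rels RV37 [(Gen.c, true), (Gen.d, true), (Gen.i, true), (Gen.h, true), (Gen.d, true), (Gen.f, true), (Gen.e, true), (Gen.d, true), (Gen.b, true), (Gen.c, true), (Gen.d, true), (Gen.i, true), (Gen.h, true), (Gen.d, true), (Gen.f, true), (Gen.e, true), (Gen.d, true), (Gen.b, true), (Gen.c, true), (Gen.d, true), (Gen.i, true), (Gen.h, true), (Gen.d, true), (Gen.f, true), (Gen.e, true), (Gen.d, true), (Gen.b, true), (Gen.c, true), (Gen.d, true), (Gen.i, true), (Gen.h, true), (Gen.d, true), (Gen.f, true), (Gen.e, true), (Gen.d, true), (Gen.b, true), (Gen.c, true), (Gen.d, true), (Gen.i, true), (Gen.h, true), (Gen.d, true), (Gen.f, true), (Gen.e, true), (Gen.d, true), (Gen.b, true), (Gen.c, true), (Gen.d, true), (Gen.i, true), (Gen.h, true), (Gen.d, true), (Gen.f, true), (Gen.e, true), (Gen.d, true), (Gen.b, true), (Gen.c, true), (Gen.d, true), (Gen.i, true), (Gen.h, true), (Gen.d, true), (Gen.f, true), (Gen.e, true), (Gen.d, true), (Gen.b, true), (Gen.c, true), (Gen.d, true), (Gen.i, true), (Gen.h, true), (Gen.d, true), (Gen.f, true), (Gen.e, true),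 (Gen.d, true), (Gen.b, true), (Gen.c, true), (Gen.d, true), (Gen.i, true), (Gen.h, true), (Gen.d, true), (Gen.f, true), (Gen.e, true), (Gen.d, true), (Gen.b, true), (Gen.c, true), (Gen.d, true), (Gen.i, true), (Gen.h, true), (Gen.d, true), (Gen.f, true), (Gen.e, true), (Gen.d, true), (Gen.b, true)] 7 (by decide +kernel) relrev_37
theorem RW_50 : wG D.rels [(Gen.h, true), (Gen.d, true), (Gen.f, true), (Gen.e, true), (Gen.d, true), (Gen.b, true), (Gen.c, true), (Gen.d, true), (Gen.i, true), (Gen.h, true), (Gen.d, true), (Gen.f, true), (Gen.e, true), (Gen.d, true), (Gen.b, true), (Gen.c, true), (Gen.d, true), (Gen.i, true), (Gen.h, true), (Gen.d, true), (Gen.f, true), (Gen.e, true), (Gen.d, true), (Gen.b, true), (Gen.c, true), (Gen.d, true), (Gen.i, true), (Gen.h, true), (Gen.d, true), (Gen.f, true), (Gen.e, true), (Gen.d, true), (Gen.b, true), (Gen.c, true), (Gen.d, true), (Gen.i, true), (Gen.h, true), (Gen.d, true), (Gen.f, true), (Gen.e, true), (Gen.d, true), (Gen.b, true), (Gen.c, true), (Gen.d, true), (Gen.i, true), (Gen.h, true), (Gen.d, true), (Gen.f, true),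 (Gen.e, true), (Gen.d, true), (Gen.b, true), (Gen.c, true), (Gen.d, true), (Gen.i, true), (Gen.h, true), (Gen.d, true), (Gen.f, true), (Gen.e, true), (Gen.d, true), (Gen.b, true), (Gen.c, true), (Gen.d, true), (Gen.i, true), (Gen.h, true), (Gen.d, true), (Gen.f, true), (Gen.e, true), (Gen.d, true), (Gen.b, true), (Gen.c, true), (Gen.d, true), (Gen.i, true), (Gen.h, true), (Gen.d, true), (Gen.f, true), (Gen.e, true), (Gen.d, true), (Gen.b, true), (Gen.c, true), (Gen.d, true), (Gen.i, true), (Gen.h, true), (Gen.d, true), (Gen.f, true), (Gen.e, true), (Gen.d, true), (Gen.b, true), (Gen.c, true), (Gen.d, true), (Gen.i, true)] = 1 :=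
  wG_of_rotate D.rels RV37 [(Gen.h, true), (Gen.d, true), (Gen.f, true), (Gen.e, true), (Gen.d, true), (Gen.b, true), (Gen.c, true), (Gen.d, true), (Gen.i, true), (Gen.h, true), (Gen.d, true), (Gen.f, true), (Gen.e, true), (Gen.d, true), (Gen.b, true), (Gen.c, true), (Gen.d, true), (Gen.i, true), (Gen.h, true), (Gen.d, true), (Gen.f, true), (Gen.e, true), (Gen.d, true), (Gen.b, true), (Gen.c, true), (Gen.d, true), (Gen.i, true), (Gen.h, true), (Gen.d, true), (Gen.f, true), (Gen.e, true), (Gen.d, true), (Gen.b, true), (Gen.c, true), (Gen.d, true), (Gen.i, true), (Gen.h, true), (Gen.d, true), (Gen.f, true), (Gen.e, true), (Gen.d, true), (Gen.b, true), (Gen.c, true), (Gen.d, true), (Gen.i, true), (Gen.h, true), (Gen.d, true), (Gen.f, true), (Gen.e, true), (Gen.d, true), (Gen.b, true), (Gen.c, true), (Gen.d, true), (Gen.i, true), (Gen.h, true), (Gen.d, true), (Gen.f, true), (Gen.e, true), (Gen.d, true), (Gen.b, true), (Gen.c, true), (Gen.d, true), (Gen.i, true), (Gen.h, true), (Gen.d, true), (Gen.f, true), (Gen.e, true), (Gen.d, true), (Gen.b, true), (Gen.c, true),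 (Gen.d, true), (Gen.i, true), (Gen.h, true), (Gen.d, true), (Gen.f, true), (Gen.e, true), (Gen.d, true), (Gen.b, true), (Gen.c, true), (Gen.d, true), (Gen.i, true), (Gen.h, true), (Gen.d, true), (Gen.f, true), (Gen.e, true), (Gen.d, true), (Gen.b, true), (Gen.c, true), (Gen.d, true), (Gen.i, true)] 1 (by decide +kernel) relrev_37
theorem RW_51 : wG D.rels [(Gen.b, true), (Gen.c, true), (Gen.d, true), (Gen.i, true), (Gen.h, true), (Gen.d, true), (Gen.f, true), (Gen.e, true), (Gen.d, true), (Gen.b, true), (Gen.c, true), (Gen.d, true), (Gen.i, true), (Gen.h, true), (Gen.d, true), (Gen.f, true), (Gen.e, true), (Gen.d, true), (Gen.b, true), (Gen.c, true), (Gen.d, true), (Gen.i, true), (Gen.h, true), (Gen.d, true), (Gen.f, true), (Gen.e, true), (Gen.d, true), (Gen.b, true), (Gen.c, true), (Gen.d, true), (Gen.i, true), (Gen.h, true), (Gen.d, true), (Gen.f, true), (Gen.e, true), (Gen.d, true), (Gen.b, true), (Gen.c, true), (Gen.d, true), (Gen.i, true), (Gen.h, true), (Gen.d, true), (Gen.f, true), (Gen.e, true), (Gen.d, true), (Gen.b, true), (Gen.c, true), (Gen.d, true),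 (Gen.i, true), (Gen.h, true), (Gen.d, true), (Gen.f, true), (Gen.e, true), (Gen.d, true), (Gen.b, true), (Gen.c, true), (Gen.d, true), (Gen.i, true), (Gen.h, true), (Gen.d, true), (Gen.f, true), (Gen.e, true), (Gen.d, true), (Gen.b, true), (Gen.c, true), (Gen.d, true), (Gen.i, true), (Gen.h, true), (Gen.d, true), (Gen.f, true), (Gen.e, true), (Gen.d, true), (Gen.b, true), (Gen.c, true), (Gen.d, true), (Gen.i, true), (Gen.h, true), (Gen.d, true), (Gen.f, true), (Gen.e, true), (Gen.d, true), (Gen.b, true), (Gen.c, true), (Gen.d, true), (Gen.i, true), (Gen.h, true), (Gen.d, true), (Gen.f, true), (Gen.e, true), (Gen.d, true)] = 1 :=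
  wG_of_rotate D.rels RV37 [(Gen.b, true), (Gen.c, true), (Gen.d, true), (Gen.i, true), (Gen.h, true), (Gen.d, true), (Gen.f, true), (Gen.e, true), (Gen.d, true), (Gen.b, true), (Gen.c, true), (Gen.d, true), (Gen.i, true), (Gen.h, true), (Gen.d, true), (Gen.f, true), (Gen.e, true), (Gen.d, true), (Gen.b, true), (Gen.c, true), (Gen.d, true), (Gen.i, true), (Gen.h, true), (Gen.d, true), (Gen.f, true), (Gen.e, true), (Gen.d, true), (Gen.b, true), (Gen.c, true), (Gen.d, true), (Gen.i, true), (Gen.h, true), (Gen.d, true), (Gen.f, true), (Gen.e, true), (Gen.d, true), (Gen.b, true), (Gen.c, true), (Gen.d, true), (Gen.i, true), (Gen.h, true), (Gen.d, true), (Gen.f, true), (Gen.e, true), (Gen.d, true), (Gen.b, true), (Gen.c, true), (Gen.d, true), (Gen.i, true), (Gen.h, true), (Gen.d, true), (Gen.f, true), (Gen.e, true), (Gen.d, true), (Gen.b, true), (Gen.c, true), (Gen.d, true), (Gen.i, true), (Gen.h, true), (Gen.d, true), (Gen.f, true), (Gen.e, true), (Gen.d, true), (Gen.b, true), (Gen.c, true), (Gen.d, true), (Gen.i, true), (Gen.h, true), (Gen.d, true), (Gen.f, true),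 (Gen.e, true), (Gen.d, true), (Gen.b, true), (Gen.c, true), (Gen.d, true), (Gen.i, true), (Gen.h, true), (Gen.d, true), (Gen.f, true), (Gen.e, true), (Gen.d, true), (Gen.b, true), (Gen.c, true), (Gen.d, true), (Gen.i, true), (Gen.h, true), (Gen.d, true), (Gen.f, true), (Gen.e, true), (Gen.d, true)] 6 (by decide +kernel) relrev_37
theorem RW_52 : wG D.rels [(Gen.b, true), (Gen.g, true), (Gen.b, true), (Gen.g, true)] = 1 :=
  wG_of_rotate D.rels R13 [(Gen.b, true), (Gen.g, true), (Gen.b, true), (Gen.g, true)] 0 (by decide +kernel) relone_13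
theorem RW_53 : wG D.rels [(Gen.b, true), (Gen.b, true)] = 1 :=
  wG_of_rotate D.rels R1 [(Gen.b, true), (Gen.b, true)] 0 (by decide +kernel) relone_1
theorem RW_54 : wG D.rels [(Gen.c, true), (Gen.g, true), (Gen.c, true), (Gen.g, true)] = 1 :=
  wG_of_rotate D.rels R19 [(Gen.c, true), (Gen.g, true), (Gen.c, true), (Gen.g, true)] 0 (by decide +kernel) relone_19
theorem RW_55 : wG D.rels [(Gen.c, true), (Gen.c, true)] = 1 :=
  wG_of_rotate D.rels R2 [(Gen.c, true), (Gen.c, true)] 0 (by decide +kernel) relone_2
theorem RW_56 : wG D.rels [(Gen.d, true), (Gen.g, true), (Gen.d, true), (Gen.g, true)] = 1 :=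
  wG_of_rotate D.rels R24 [(Gen.d, true), (Gen.g, true), (Gen.d, true), (Gen.g, true)] 0 (by decide +kernel) relone_24
theorem RW_57 : wG D.rels [(Gen.d, true), (Gen.d, true)] = 1 :=
  wG_of_rotate D.rels R3 [(Gen.d, true), (Gen.d, true)] 0 (by decide +kernel) relone_3
theorem RW_58 : wG D.rels [(Gen.e, true), (Gen.g, true), (Gen.e, true), (Gen.g, true)] = 1 :=
  wG_of_rotate D.rels R28 [(Gen.e, true), (Gen.g, true), (Gen.e, true), (Gen.g, true)] 0 (by decide +kernel) relone_28
theorem RW_59 : wG D.rels [(Gen.e, true), (Gen.e, true)] = 1 :=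
  wG_of_rotate D.rels R4 [(Gen.e, true), (Gen.e, true)] 0 (by decide +kernel) relone_4
theorem RW_60 : wG D.rels [(Gen.f, true), (Gen.f, true)] = 1 :=
  wG_of_rotate D.rels R5 [(Gen.f, true), (Gen.f, true)] 0 (by decide +kernel) relone_5
theorem RW_61 : wG D.rels [(Gen.f, true), (Gen.g, true), (Gen.f, true), (Gen.g, true), (Gen.f, true), (Gen.g, true)] = 1 :=
  wG_of_rotate D.rels R31 [(Gen.f, true), (Gen.g, true), (Gen.f, true), (Gen.g, true), (Gen.f, true), (Gen.g, true)] 0 (by decide +kernel) relone_31
theorem RW_62 : wG D.rels [(Gen.g, true), (Gen.g, true)] = 1 :=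
  wG_of_rotate D.rels R6 [(Gen.g, true), (Gen.g, true)] 0 (by decide +kernel) relone_6
theorem RW_63 : wG D.rels [(Gen.g, true), (Gen.f, true), (Gen.g, true), (Gen.f, true), (Gen.g, true), (Gen.f, true)] = 1 :=
  wG_of_rotate D.rels R31 [(Gen.g, true), (Gen.f, true), (Gen.g, true), (Gen.f, true), (Gen.g, true), (Gen.f, true)] 1 (by decide +kernel) relone_31
theorem RW_64 : wG D.rels [(Gen.g, true), (Gen.e, true), (Gen.g, true), (Gen.e, true)] = 1 :=
  wG_of_rotate D.rels R28 [(Gen.g, true), (Gen.e, true), (Gen.g, true), (Gen.e, true)] 1 (by decide +kernel) relone_28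
theorem RW_65 : wG D.rels [(Gen.g, true), (Gen.d, true), (Gen.g, true), (Gen.d, true)] = 1 :=
  wG_of_rotate D.rels R24 [(Gen.g, true), (Gen.d, true), (Gen.g, true), (Gen.d, true)] 1 (by decide +kernel) relone_24
theorem RW_66 : wG D.rels [(Gen.g, true), (Gen.c, true), (Gen.g, true), (Gen.c, true)] = 1 :=
  wG_of_rotate D.rels R19 [(Gen.g, true), (Gen.c, true), (Gen.g, true), (Gen.c, true)] 1 (by decide +kernel) relone_19
theorem RW_67 : wG D.rels [(Gen.g, true), (Gen.h, true), (Gen.g, true), (Gen.h, true)] = 1 :=
  wG_of_rotate D.rels R34 [(Gen.g, true), (Gen.h, true), (Gen.g, true), (Gen.h, true)] 0 (by decide +kernel) relone_34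
theorem RW_68 : wG D.rels [(Gen.g, true), (Gen.b, true), (Gen.g, true), (Gen.b, true)] = 1 :=
  wG_of_rotate D.rels R13 [(Gen.g, true), (Gen.b, true), (Gen.g, true), (Gen.b, true)] 1 (by decide +kernel) relone_13
theorem RW_69 : wG D.rels [(Gen.g, true), (Gen.i, true), (Gen.g, true), (Gen.i, true)] = 1 :=
  wG_of_rotate D.rels R35 [(Gen.g, true), (Gen.i, true), (Gen.g, true), (Gen.i, true)] 0 (by decide +kernel) relone_35
theorem RW_70 : wG D.rels [(Gen.h, true), (Gen.g, true), (Gen.h, true), (Gen.g, true)] = 1 :=
  wG_of_rotate D.rels R34 [(Gen.h, true), (Gen.g, true), (Gen.h, true), (Gen.g, true)] 1 (by decide +kernel) relone_34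
theorem RW_71 : wG D.rels [(Gen.h, true), (Gen.h, true)] = 1 :=
  wG_of_rotate D.rels R7 [(Gen.h, true), (Gen.h, true)] 0 (by decide +kernel) relone_7
theorem RW_72 : wG D.rels [(Gen.h, true), (Gen.i, true), (Gen.d, true), (Gen.c, true), (Gen.b, true), (Gen.d, true), (Gen.e, true), (Gen.f, true), (Gen.d, true), (Gen.h, true), (Gen.i, true), (Gen.d, true), (Gen.c, true), (Gen.b, true), (Gen.d, true), (Gen.e, true), (Gen.f, true), (Gen.d, true), (Gen.h, true), (Gen.i, true), (Gen.d, true), (Gen.c, true), (Gen.b, true), (Gen.d, true), (Gen.e, true), (Gen.f, true), (Gen.d, true), (Gen.h, true), (Gen.i, true), (Gen.d, true), (Gen.c, true), (Gen.b, true), (Gen.d, true), (Gen.e, true), (Gen.f, true), (Gen.d, true), (Gen.h, true), (Gen.i, true), (Gen.d, true), (Gen.c, true), (Gen.b, true), (Gen.d, true), (Gen.e, true), (Gen.f, true), (Gen.d, true), (Gen.h, true), (Gen.i, true), (Gen.d, true), (Gen.c, true), (Gen.b, true), (Gen.d, true), (Gen.e, true), (Gen.f, true), (Gen.d, true), (Gen.h, true), (Gen.i, true), (Gen.d, true), (Gen.c, true), (Gen.b, true), (Gen.d, true),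 (Gen.e, true), (Gen.f, true), (Gen.d, true), (Gen.h, true), (Gen.i, true), (Gen.d, true), (Gen.c, true), (Gen.b, true), (Gen.d, true), (Gen.e, true), (Gen.f, true), (Gen.d, true), (Gen.h, true), (Gen.i, true), (Gen.d, true), (Gen.c, true), (Gen.b, true), (Gen.d, true), (Gen.e, true), (Gen.f, true), (Gen.d, true), (Gen.h, true), (Gen.i, true), (Gen.d, true), (Gen.c, true), (Gen.b, true), (Gen.d, true), (Gen.e, true), (Gen.f, true), (Gen.d, true)] = 1 :=
  wG_of_rotate D.rels R37 [(Gen.h, true), (Gen.i, true), (Gen.d, true), (Gen.c, true), (Gen.b, true), (Gen.d, true), (Gen.e, true), (Gen.f, true), (Gen.d, true), (Gen.h, true), (Gen.i, true), (Gen.d, true), (Gen.c, true), (Gen.b, true), (Gen.d, true), (Gen.e, true), (Gen.f, true), (Gen.d, true), (Gen.h, true), (Gen.i, true), (Gen.d, true), (Gen.c, true), (Gen.b, true), (Gen.d, true), (Gen.e, true), (Gen.f, true), (Gen.d, true), (Gen.h, true), (Gen.i, true), (Gen.d, true), (Gen.c, true), (Gen.b, true), (Gen.d, true), (Gen.e, true), (Gen.f, true), (Gen.d, true), (Gen.h, true), (Gen.i, true), (Gen.d, true), (Gen.c,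 true), (Gen.b, true), (Gen.d, true), (Gen.e, true), (Gen.f, true), (Gen.d, true), (Gen.h, true), (Gen.i, true), (Gen.d, true), (Gen.c, true), (Gen.b, true), (Gen.d, true), (Gen.e, true), (Gen.f, true), (Gen.d, true), (Gen.h, true), (Gen.i, true), (Gen.d, true), (Gen.c, true), (Gen.b, true), (Gen.d, true), (Gen.e, true), (Gen.f, true), (Gen.d, true), (Gen.h, true), (Gen.i, true), (Gen.d, true), (Gen.c, true), (Gen.b, true), (Gen.d, true), (Gen.e, true), (Gen.f, true), (Gen.d, true), (Gen.h, true), (Gen.i, true), (Gen.d, true), (Gen.c, true), (Gen.b, true), (Gen.d, true), (Gen.e, true), (Gen.f, true), (Gen.d, true), (Gen.h, true), (Gen.i, true), (Gen.d, true), (Gen.c, true), (Gen.b, true), (Gen.d, true), (Gen.e, true), (Gen.f, true), (Gen.d, true)] 7 (by decide +kernel) relone_37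
theorem RW_73 : wG D.rels [(Gen.i, true), (Gen.g, true), (Gen.i, true), (Gen.g, true)] = 1 :=
  wG_of_rotate D.rels R35 [(Gen.i, true), (Gen.g, true), (Gen.i, true), (Gen.g, true)] 1 (by decide +kernel) relone_35
theorem RW_74 : wG D.rels [(Gen.i, true), (Gen.i, true)] = 1 :=
  wG_of_rotate D.rels R8 [(Gen.i, true), (Gen.i, true)] 0 (by decide +kernel) relone_8
theorem RW_75 : wG D.rels [(Gen.i, true), (Gen.d, true), (Gen.c, true), (Gen.b, true), (Gen.d, true), (Gen.e, true), (Gen.f, true), (Gen.d, true), (Gen.h, true), (Gen.i, true), (Gen.d, true), (Gen.c, true), (Gen.b, true), (Gen.d, true), (Gen.e, true), (Gen.f, true), (Gen.d, true), (Gen.h, true), (Gen.i, true), (Gen.d, true), (Gen.c, true), (Gen.b, true), (Gen.d, true), (Gen.e, true), (Gen.f, true), (Gen.d, true), (Gen.h, true), (Gen.i, true), (Gen.d, true), (Gen.c, true), (Gen.b, true), (Gen.d, true), (Gen.e, true), (Gen.f, true), (Gen.d, true), (Gen.h, true), (Gen.i, true), (Gen.d, true), (Gen.c, true), (Gen.b, true), (Gen.d, true), (Gen.e, true), (Gen.f, true), (Gen.d, true), (Gen.h, true), (Gen.i,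 true), (Gen.d, true), (Gen.c, true), (Gen.b, true), (Gen.d, true), (Gen.e, true), (Gen.f, true), (Gen.d, true), (Gen.h, true), (Gen.i, true), (Gen.d, true), (Gen.c, true), (Gen.b, true), (Gen.d, true), (Gen.e, true), (Gen.f, true), (Gen.d, true), (Gen.h, true), (Gen.i, true), (Gen.d, true), (Gen.c, true), (Gen.b, true), (Gen.d, true), (Gen.e, true), (Gen.f, true), (Gen.d, true), (Gen.h, true), (Gen.i, true), (Gen.d, true), (Gen.c, true), (Gen.b, true), (Gen.d, true), (Gen.e, true), (Gen.f, true), (Gen.d, true), (Gen.h, true), (Gen.i, true), (Gen.d, true), (Gen.c, true), (Gen.b, true), (Gen.d, true), (Gen.e, true), (Gen.f, true), (Gen.d, true), (Gen.h, true)] = 1 :=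
  wG_of_rotate D.rels R37 [(Gen.i, true), (Gen.d, true), (Gen.c, true), (Gen.b, true), (Gen.d, true), (Gen.e, true), (Gen.f, true), (Gen.d, true), (Gen.h, true), (Gen.i, true), (Gen.d, true), (Gen.c, true), (Gen.b, true), (Gen.d, true), (Gen.e, true), (Gen.f, true), (Gen.d, true), (Gen.h, true), (Gen.i, true), (Gen.d, true), (Gen.c, true), (Gen.b, true), (Gen.d, true), (Gen.e, true), (Gen.f, true), (Gen.d, true), (Gen.h, true), (Gen.i, true), (Gen.d, true), (Gen.c, true), (Gen.b, true), (Gen.d, true), (Gen.e, true), (Gen.f, true), (Gen.d, true), (Gen.h, true), (Gen.i, true), (Gen.d, true), (Gen.c, true), (Gen.b, true), (Gen.d, true), (Gen.e, true), (Gen.f, true), (Gen.d, true), (Gen.h, true), (Gen.i, true), (Gen.d, true), (Gen.c, true), (Gen.b, true), (Gen.d, true), (Gen.e, true), (Gen.f, true), (Gen.d, true), (Gen.h, true), (Gen.i, true), (Gen.d, true), (Gen.c, true), (Gen.b, true), (Gen.d, true), (Gen.e, true), (Gen.f, true), (Gen.d, true), (Gen.h, true), (Gen.i, true), (Gen.d, true), (Gen.c, true), (Gen.b, true), (Gen.d, true), (Gen.e, true), (Gen.f, true),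 (Gen.d, true), (Gen.h, true), (Gen.i, true), (Gen.d, true), (Gen.c, true), (Gen.b, true), (Gen.d, true), (Gen.e, true), (Gen.f, true), (Gen.d, true), (Gen.h, true), (Gen.i, true), (Gen.d, true), (Gen.c, true), (Gen.b, true), (Gen.d, true), (Gen.e, true), (Gen.f, true), (Gen.d, true), (Gen.h, true)] 8 (by decide +kernel) relone_37
def certL_a : List (Cert D.rels D.S Gen.a) :=
  [Cert.tree,
   Cert.rel true [] relone_0]
def ct_a : Nat := 61966157508355556512527367400872840283004701150674609775821249251793667794081083705668811184702987822970696200534767205462288184678624105612356213803036466244725317923540863919269947501247543160536543762289591277605053393245899879140896933987220229567568173923772438523406697047370923652156878060900863060940408539084205055339440542040866438507309093717545241322551045716288220031996671410196434489184214650260551543545472587896201748742570066856947887769477133532540777409433841939053436795202736194408884980398830303688971243683886755944667594571661335438909821837631283782022125217860291186320421563414420228335186638804118873037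409571746144057515270974447628997793824681987528402792968846062333533392816377051195604459232815985206864042633365526367612636587930298469127048204727628705461253192205061187645000168179288409902047870999446837469400182085238257592329834476365556497627080999324825571042814251612188760623922718876813917245405844478172591576683469170967132063463603820789442372371170558819426479887520276173943672477588005020274065123177467818432431129805546863900475142336171057764890592459156595224071519271796327676329225175799225524694249938064644510825197371512254700612728069677634679571938789865378449915276310182621011187402982837030933966570733495545492100779380348979764424309854025498764254929025334624594110695727099355933732032786239437806957624174783058925762667349598669202885584654286527944154305509066729870917143225745507828378928850446318359459665742728211337906519289260249506437292678431485322381157279214142883341186074152494499233828540974873983692094713602110389152491994745033592881298335675702767107723947985706539582983569382638158644795071799582716077360469718196640430640481150403654449106651688874908123393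
def certL_b : List (Cert D.rels D.S Gen.b) :=
  [Cert.tree,
   Cert.sub true [] [] (D.sub_mem Gen.b (by decide)),
   Cert.rel true [(Gen.g, true), (Gen.b, true), (Gen.g, true)] RW_52,
   Cert.rel true [(Gen.f, true), (Gen.b, true), (Gen.f, true)] RW_26,
   Cert.rel true [(Gen.e, true), (Gen.b, true), (Gen.e, true)] RW_13,
   Cert.rel true [(Gen.d, true), (Gen.b, true), (Gen.d, true)] RW_4,
   Cert.rel true [(Gen.h, true), (Gen.b, true), (Gen.h, true)] RW_8,
   Cert.rel true [(Gen.b, true)] RW_53,
   Cert.rel true [(Gen.i, true), (Gen.b, true), (Gen.i, true)] RW_17,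
   Cert.rel true [(Gen.c, true), (Gen.b, true), (Gen.c, true), (Gen.b, true), (Gen.c, true)] RW_24,
   Cert.rel true [(Gen.c, true), (Gen.d, true), (Gen.i, true), (Gen.h, true), (Gen.d, true), (Gen.f, true), (Gen.e, true), (Gen.d, true), (Gen.b, true), (Gen.c, true), (Gen.d, true), (Gen.i, true), (Gen.h, true), (Gen.d, true), (Gen.f, true), (Gen.e, true), (Gen.d, true), (Gen.b, true), (Gen.c, true), (Gen.d, true), (Gen.i, true), (Gen.h, true), (Gen.d, true), (Gen.f, true), (Gen.e, true), (Gen.d, true), (Gen.b, true), (Gen.c, true), (Gen.d, true), (Gen.i, true), (Gen.h, true), (Gen.d, true), (Gen.f, true), (Gen.e, true), (Gen.d, true), (Gen.b, true), (Gen.c, true), (Gen.d, true), (Gen.i, true), (Gen.h, true), (Gen.d, true), (Gen.f, true), (Gen.e, true), (Gen.d, true), (Gen.b, true), (Gen.c, true), (Gen.d, true), (Gen.i, true), (Gen.h, true), (Gen.d, true), (Gen.f, true), (Gen.e, true), (Gen.d, true), (Gen.b, true), (Gen.c, true), (Gen.d, true), (Gen.i, true), (Gen.h, true), (Gen.d, true), (Gen.f, true), (Gen.e, true), (Gen.d, true), (Gen.b, true), (Gen.c, true),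 (Gen.d, true), (Gen.i, true), (Gen.h, true), (Gen.d, true), (Gen.f, true), (Gen.e, true), (Gen.d, true), (Gen.b, true), (Gen.c, true), (Gen.d, true), (Gen.i, true), (Gen.h, true), (Gen.d, true), (Gen.f, true), (Gen.e, true), (Gen.d, true), (Gen.b, true), (Gen.c, true), (Gen.d, true), (Gen.i, true), (Gen.h, true), (Gen.d, true), (Gen.f, true), (Gen.e, true), (Gen.d, true)] RW_51]
def ct_b : Nat := 310070951873720161703026047103631650990897763445853291340876508370782853891941973684085533625637046320420625462005391729943961291993607889278134731678651377422464893290619507225811778314813817895681443520374514391492971647399187072043490506450025676777822693367458090386076818929096527570091173161999930513797396246230916849214128477342690572000129465177301046096643101405725432724871357972281534661307475264130184045578970727014693832139636506047333794103106339749622383168421144604754355389683694320384032341904372779427467102934002199743141797957200018080206831205835900074991129243445232532158728908243619892294816337688934015963343297626814291004920192079103126720219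560305366366257950547340616025974280904237963817972144313087744275387465794852362572120802040181562053809895161471273030298169590231298891242402149272005700161814665404874904648494020691108801041249141390866187263857379681941456911240790553948940158475192864457713928622633423256101299378575827497850338370289843163605108121487876122761832733395136571395676838853016471298095401305051775052749420051860890325819068597681452223375875856621845935929155295157715352118110334804251243708262113734252658642801128760531953247763763275168030914380562927093918636624936433081730502994767966771847377717238621360996303315371186954076513547043898802187960652291105035476590143860215290527199865074791922245018970426501677407061243671424617399835245512872503161446172896610354510050522704775826342877600554164930410031496925225372096725437236614428193266954345448489951966825457178830225029926272101254928010088677437502718746104314313652686146965618036955498323545064561267875198526976712974577887820055815750945131936410390443735593515766094861979459185566448345204126908213247938486534657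
def certL_c : List (Cert D.rels D.S Gen.c) :=
  [Cert.tree,
   Cert.sub true [] [] (D.sub_mem Gen.c (by decide)),
   Cert.rel true [(Gen.g, true), (Gen.c, true), (Gen.g, true)] RW_54,
   Cert.rel true [(Gen.f, true), (Gen.c, true), (Gen.f, true)] RW_27,
   Cert.rel true [(Gen.e, true), (Gen.c, true), (Gen.e, true)] RW_14,
   Cert.rel true [(Gen.c, true)] RW_55,
   Cert.rel true [(Gen.h, true), (Gen.c, true), (Gen.h, true)] RW_11,
   Cert.rel true [(Gen.b, true), (Gen.c, true), (Gen.b, true), (Gen.c, true), (Gen.b, true)] RW_3,
   Cert.rel true [(Gen.i, true), (Gen.c, true), (Gen.i, true)] RW_22,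
   Cert.rel true [(Gen.d, true), (Gen.c, true), (Gen.d, true), (Gen.c, true), (Gen.d, true)] RW_7,
   Cert.rel true [(Gen.d, true), (Gen.i, true), (Gen.h, true), (Gen.d, true), (Gen.f, true), (Gen.e, true), (Gen.d, true), (Gen.b, true), (Gen.c, true), (Gen.d, true), (Gen.i, true), (Gen.h, true), (Gen.d, true), (Gen.f, true), (Gen.e, true), (Gen.d, true), (Gen.b, true), (Gen.c, true), (Gen.d, true), (Gen.i, true), (Gen.h, true), (Gen.d, true), (Gen.f, true), (Gen.e, true), (Gen.d, true), (Gen.b, true), (Gen.c, true), (Gen.d, true), (Gen.i, true), (Gen.h, true), (Gen.d, true), (Gen.f, true), (Gen.e, true), (Gen.d, true), (Gen.b, true), (Gen.c, true), (Gen.d, true), (Gen.i, true), (Gen.h, true), (Gen.d, true), (Gen.f, true), (Gen.e, true), (Gen.d, true), (Gen.b, true), (Gen.c, true), (Gen.d, true), (Gen.i, true), (Gen.h, true), (Gen.d, true), (Gen.f, true), (Gen.e, true), (Gen.d, true), (Gen.b, true), (Gen.c, true), (Gen.d, true), (Gen.i, true), (Gen.h, true), (Gen.d, true), (Gen.f, true), (Gen.e, true), (Gen.d, true), (Gen.b, true), (Gen.c, true), (Gen.d, true),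 (Gen.i, true), (Gen.h, true), (Gen.d, true), (Gen.f, true), (Gen.e, true), (Gen.d, true), (Gen.b, true), (Gen.c, true), (Gen.d, true), (Gen.i, true), (Gen.h, true), (Gen.d, true), (Gen.f, true), (Gen.e, true), (Gen.d, true), (Gen.b, true), (Gen.c, true), (Gen.d, true), (Gen.i, true), (Gen.h, true), (Gen.d, true), (Gen.f, true), (Gen.e, true), (Gen.d, true), (Gen.b, true)] RW_49]
def ct_c : Nat := 556485141061364939152983166670185334272451187906105361916068477897202494704712888028031711121975637008585291125460631719476074673964015587578449455187534876470708739210164100744646325720226513708474724209092038880731262028852816076038730601873194657254191550882442982152058158576046691662471687287096247397077823803676363581607368642788188950985147600124743862934738181918764826720620959064057002122637591901262720494182445885127902795233963575307125273059296922192690684792309231653559690691165551315511037642744323726363531392889462750284056575934535111830832580669562938663713383493092431174595123208177135730753788951487582837020581724667045608987253515941239341655195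793909993816103046505980515235911375465271588571668915513798963397301590871627230979416060339888992140909286705997040328000599458735835437403538822801467140360800587393614568428890789394717727751720121847700266003320725594255492630208107034454420015557762841578315685205620034296875335705164295561663497334237575738831671084684370072636201855536491555298234571833972794953332484219618538966335788625210875201989299528960454631914736712457391544515971955987209720015482858985276383824665348360773226962235889294190984883078486198382185300670384969540761149308846689565511635033714704316292653592795758302675040717368216824277968875538259780469232468663797663776701731432558472422174488487141933352721289807308263212204040398226369329607589959282528157450663984676376346117906474037006433892687807476903786694369133072936400158041841617881422941587658925225374377480545080348526127404894403509791200485280989912829426160425546535802380082350259499925904015728620284574551853449842999728351570410198707010991992574918903441397857576408532327550443147384547765217358159555622944834049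
def certL_d : List (Cert D.rels D.S Gen.d) :=
  [Cert.tree,
   Cert.sub true [] [] (D.sub_mem Gen.d (by decide)),
   Cert.rel true [(Gen.g, true), (Gen.d, true), (Gen.g, true)] RW_56,
   Cert.rel true [(Gen.f, true), (Gen.d, true), (Gen.f, true)] RW_40,
   Cert.rel true [(Gen.d, true)] RW_57,
   Cert.rel true [(Gen.c, true), (Gen.d, true), (Gen.c, true), (Gen.d, true), (Gen.c, true)] RW_21,
   Cert.rel true [(Gen.h, true), (Gen.d, true), (Gen.h, true), (Gen.d, true), (Gen.h, true)] RW_12,
   Cert.rel true [(Gen.b, true), (Gen.d, true), (Gen.b, true)] RW_29,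
   Cert.rel true [(Gen.i, true), (Gen.d, true), (Gen.i, true)] RW_23,
   Cert.rel true [(Gen.e, true), (Gen.d, true), (Gen.e, true), (Gen.d, true), (Gen.e, true)] RW_16]
def ct_d : Nat := 24690302013521074931262748481627408162802985803890180187972058476433499281764990435682173766262006431441219507474954526538106480276914738486000121857341966247417513577849965458988714599988258245953838548529500203077043801446074401536293517014264737296975973235188580428042298735830915469301816987058976468100632649685273223793273319176754107880310458181725371253300467132402801396315074813185762890403709328267478944738679772394790077678938028453949943165788459957327227742359995656104667129647065152844325123591598023888642313934049256604926765172317224918641792060434080431603390625434764003104034752473230354845312753817283310144749327277274809900200729698349026977641109288929565502725118328859896823543167134645013508863429162034274399051780961594317979939677949851138211286335916396831891363310446116410736454705759983730987457904187054200034699146762694952762792492846133733679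7169542288653539993969568727286641848114837795285915289607422397651940847559861457830885655569218923371480121221484626079727413623739314978580650262267538156313446056659268311524831803283908523440055648599556163564241971158645960353644887545702402744763214434586522807048439741053620179679675453737231601367990895578882174523470428808486552167396254308465396053664329768116685776819669840260593958402507435967310640097063954233798391078892577082983093178961447237978009947263272610195488554745143642278020786544939224057332286237634425955582242491333038628170652699636542141027697317397957704716221290338559207087435759349010251265266191895284698058474178629780861601101653500037322726549565856107009220943699846011861839243969574590313840343875864155820592748379655021915975621795452706826937007637405838685069958777657509529876181227169880859259849480011019582636545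
def certL_e : List (Cert D.rels D.S Gen.e) :=
  [Cert.tree,
   Cert.sub true [] [] (D.sub_mem Gen.e (by decide)),
   Cert.rel true [(Gen.g, true), (Gen.e, true), (Gen.g, true)] RW_58,
   Cert.rel true [(Gen.e, true)] RW_59,
   Cert.rel true [(Gen.d, true), (Gen.e, true), (Gen.d, true), (Gen.e, true), (Gen.d, true)] RW_41,
   Cert.rel true [(Gen.c, true), (Gen.e, true), (Gen.c, true)] RW_0,
   Cert.rel true [(Gen.h, true), (Gen.e, true), (Gen.h, true)] RW_9,
   Cert.rel true [(Gen.b, true), (Gen.e, true), (Gen.b, true)] RW_30,
   Cert.rel true [(Gen.i, true), (Gen.e, true), (Gen.i, true)] RW_18,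
   Cert.rel true [(Gen.f, true), (Gen.e, true), (Gen.f, true), (Gen.e, true), (Gen.f, true)] RW_44,
   Cert.rel true [(Gen.f, true), (Gen.d, true), (Gen.h, true), (Gen.i, true), (Gen.d, true), (Gen.c, true), (Gen.b, true), (Gen.d, true), (Gen.e, true), (Gen.f, true), (Gen.d, true), (Gen.h, true), (Gen.i, true), (Gen.d, true), (Gen.c, true), (Gen.b, true), (Gen.d, true), (Gen.e, true), (Gen.f, true), (Gen.d, true), (Gen.h, true), (Gen.i, true), (Gen.d, true), (Gen.c, true), (Gen.b, true), (Gen.d, true), (Gen.e, true), (Gen.f, true), (Gen.d, true), (Gen.h, true), (Gen.i, true), (Gen.d, true), (Gen.c, true), (Gen.b, true), (Gen.d, true), (Gen.e, true), (Gen.f, true), (Gen.d, true), (Gen.h, true), (Gen.i, true), (Gen.d, true), (Gen.c, true), (Gen.b, true), (Gen.d, true), (Gen.e, true), (Gen.f, true), (Gen.d, true), (Gen.h, true), (Gen.i, true), (Gen.d, true), (Gen.c, true), (Gen.b, true), (Gen.d, true), (Gen.e, true), (Gen.f, true), (Gen.d, true), (Gen.h, true), (Gen.i, true), (Gen.d, true), (Gen.c, true), (Gen.b, true), (Gen.d, true), (Gen.e, true), (Gen.f, true),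 (Gen.d, true), (Gen.h, true), (Gen.i, true), (Gen.d, true), (Gen.c, true), (Gen.b, true), (Gen.d, true), (Gen.e, true), (Gen.f, true), (Gen.d, true), (Gen.h, true), (Gen.i, true), (Gen.d, true), (Gen.c, true), (Gen.b, true), (Gen.d, true), (Gen.e, true), (Gen.f, true), (Gen.d, true), (Gen.h, true), (Gen.i, true), (Gen.d, true), (Gen.c, true), (Gen.b, true), (Gen.d, true)] RW_28]
def ct_e : Nat := 247622574730655212147405088473939789404850991534739602698837930590090337742105090383869136988466818423464692371062982082603559349669230202180404398967199098111888544167918398999380013247432261349233214482402706484730756883630088625967530338658947480934618964953216813850086171437589737217708402947167842806044584332690561567394628350651727709259308815996598436333303215991598732097232064972475531744153568967452939357374173907931722934848871393800444822157468408263164190326616150538386143229202622395498995238239613739612384809985984632480453586646850303623206533570526276937114240768963085479901930670028243509440500040894168211540035002482349739310186227791859608800103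832417869864134337694763096833038540362674668160113808525767481970261516147885504181558288797686202400380777134007345486210842362856159008538970683463337267226337820792660359558923010533848109969035285451504866867730656127005409516787026173625168167793476822796085327766060997568714585774717123051821095318917604214771015983330806145341240004233593266130384438492865804591494851688366127771953998769406753721483354713145647162117362582489818170790079125513927369142298754398618265959983693129060096297127999085551968588530125697644916947150744108928224444428540130545304336721914560013077967021553722497264748543561469468260419868233595004921289743180372913565364405125802763336854874192336338555632992382545863536277534667474906607802795636959167605584118488602032794746436005706244184896197952114233018186387720342456686540097957436229710785792808555226987493868877784480973275533541116401442630902669829873358936016642107292841425066659091521367664005834323438291735454605938028713995682570903316188902687922221868318913282678076535081100988376916890192359952592841130584834561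
def certL_f : List (Cert D.rels D.S Gen.f) :=
  [Cert.tree,
   Cert.sub true [] [] (D.sub_mem Gen.f (by decide)),
   Cert.rel true [(Gen.f, true)] RW_60,
   Cert.rel true [(Gen.e, true), (Gen.f, true), (Gen.e, true), (Gen.f, true), (Gen.e, true)] RW_47,
   Cert.rel true [(Gen.d, true), (Gen.f, true), (Gen.d, true)] RW_5,
   Cert.rel true [(Gen.c, true), (Gen.f, true), (Gen.c, true)] RW_1,
   Cert.rel true [(Gen.h, true), (Gen.f, true), (Gen.h, true)] RW_10,
   Cert.rel true [(Gen.b, true), (Gen.f, true), (Gen.b, true)] RW_42,
   Cert.rel true [(Gen.i, true), (Gen.f, true), (Gen.i, true)] RW_19,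
   Cert.rel true [(Gen.g, true), (Gen.f, true), (Gen.g, true), (Gen.f, true), (Gen.g, true)] RW_61]
def ct_f : Nat := 248108569006412551532271639752766633586721650095855012454838687200960899656324470225153743447789215849518987533584004719966916562161613366966665909829538236730719898928786999050693990300660461631443141348791738638188830024060422473143422008682867854139440356398550904603670848308995420614773040909414540777469975060419707177848992699287835830330032259905097710090512513930959225092558269590643683955563803741158426123604734438613774412060020871784237989126256060392107676164441663359716942285895473587103996094694958818094014893892989751501662939978964462015059309744024974775310949003628486952716156058615382823860239180473757301993659025636773774009537132384719325542778906628952058988769936793772973841484314347236378024348042331189483894123162701511422324518970100223844625316240011117792474149334056402477299520852863554993485414950342769678923817387572260991450435648607698088859791889859461171446578413392424395310251772267492583848029045048824913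438403679086096381992652232730783203736882129449113689181357560201058096560267178661079202243520033999440152583345331242680476766225468055870992033242701047902044658296189470773684543883137780368521560940378884142889668945999232622805466514521352443447501237523767858596203112595338307806542782841978430130415602101365722421272673592855270557179224138421190340943239569699659221355563376978615116778812065492695102397733191351543094890522348380345378909056774598736772125274352796611077584666445756006749230759859280967555582706963231743917545125707775296754861742575816746057668507889640067259182562989002940940209185090435880741768869513887115111136227931318630758704065295448309325662398045455212385308630198076267436639863299132815412944344972559940788388690752983178448081353897116275870662657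
def certL_g : List (Cert D.rels D.S Gen.g) :=
  [Cert.tree,
   Cert.rel true [(Gen.g, true)] RW_62,
   Cert.rel true [(Gen.f, true), (Gen.g, true), (Gen.f, true), (Gen.g, true), (Gen.f, true)] RW_63,
   Cert.rel true [(Gen.e, true), (Gen.g, true), (Gen.e, true)] RW_64,
   Cert.rel true [(Gen.d, true), (Gen.g, true), (Gen.d, true)] RW_65,
   Cert.rel true [(Gen.c, true), (Gen.g, true), (Gen.c, true)] RW_66,
   Cert.rel true [(Gen.h, true), (Gen.g, true), (Gen.h, true)] RW_67,
   Cert.rel true [(Gen.b, true), (Gen.g, true), (Gen.b, true)] RW_68,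
   Cert.rel true [(Gen.i, true), (Gen.g, true), (Gen.i, true)] RW_69]
def ct_g : Nat := 248108569006412548962528821944235535015561764119814830196286380543115751513313598389431514037364525628209058520848692833528197019235657520164239127390234156406475373556848967188665705249589845612639488693895019569649995665811941534045677842064425569209317953072126032423168456858109518387528923110431544255575753712292644830855676129118053327111762137224590320626821782873427090782277197231280463607977322280509647675941957387775966408531175236336828537058939239410103510025381526922135682399462744882838687378717402500305538539227499337415888409649998411839239928552509115927515998626121525918214131769283664179735267514401526830173157841090852865787965165268774276758849325392440402637163201920272454812269864335819917735258730031485738361614420768110529168756714253497891796314128473492590791283143755870004517451773458626199379605016030988129074746984336204161582909592231433967612297523016264708561440313801158517731726418751240397568415948162015925866476033680041960102189564905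016394552856322489231183217785796832989554148802466138828202542767533237260970620745030053153811505163484112524723081870009789235279903107942608179328736737887339722456054564681259169148912445242097298804403351394178389133008945368601764134410753046167668657613869848105709864417237489497128105345233109937961821190718173046434850892812349492647696717973445192963591068500460991183334281484408886496644399504765267759229314755695070722384762014911850455079645411470629134677443088212016113055271434734359374678754152852797141719995359226474885928573264001066734458256010512425480881210954188278518202517299127005103708341032937834910917113763401570497523397022488305417200150115086465855783242739303822604066607213348371240315289230961786172902088212236845134945321216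
def certL_h : List (Cert D.rels D.S Gen.h) :=
  [Cert.tree,
   Cert.sub true [] [] (D.sub_mem Gen.h (by decide)),
   Cert.rel true [(Gen.g, true), (Gen.h, true), (Gen.g, true)] RW_70,
   Cert.rel true [(Gen.f, true), (Gen.h, true), (Gen.f, true)] RW_39,
   Cert.rel true [(Gen.e, true), (Gen.h, true), (Gen.e, true)] RW_38,
   Cert.rel true [(Gen.h, true)] RW_71,
   Cert.rel true [(Gen.i, true), (Gen.h, true), (Gen.i, true), (Gen.h, true), (Gen.i, true)] RW_20,
   Cert.rel true [(Gen.d, true), (Gen.h, true), (Gen.d, true), (Gen.h, true), (Gen.d, true)] RW_33,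
   Cert.rel true [(Gen.c, true), (Gen.h, true), (Gen.c, true)] RW_32,
   Cert.rel true [(Gen.b, true), (Gen.h, true), (Gen.b, true)] RW_31,
   Cert.rel true [(Gen.i, true), (Gen.d, true), (Gen.c, true), (Gen.b, true), (Gen.d, true), (Gen.e, true), (Gen.f, true), (Gen.d, true), (Gen.h, true), (Gen.i, true), (Gen.d, true), (Gen.c, true), (Gen.b, true), (Gen.d, true), (Gen.e, true), (Gen.f, true), (Gen.d, true), (Gen.h, true), (Gen.i, true), (Gen.d, true), (Gen.c, true), (Gen.b, true), (Gen.d, true), (Gen.e, true), (Gen.f, true), (Gen.d, true), (Gen.h, true), (Gen.i, true), (Gen.d, true), (Gen.c, true), (Gen.b, true), (Gen.d, true), (Gen.e, true), (Gen.f, true), (Gen.d, true), (Gen.h, true), (Gen.i, true), (Gen.d, true), (Gen.c, true), (Gen.b, true), (Gen.d, true), (Gen.e, true), (Gen.f, true), (Gen.d, true), (Gen.h, true), (Gen.i, true), (Gen.d, true), (Gen.c, true), (Gen.b, true), (Gen.d, true), (Gen.e, true), (Gen.f, true), (Gen.d, true), (Gen.h, true), (Gen.i, true), (Gen.d, true), (Gen.c, true), (Gen.b, true), (Gen.d, true), (Gen.e, true), (Gen.f, true),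 (Gen.d, true), (Gen.h, true), (Gen.i, true), (Gen.d, true), (Gen.c, true), (Gen.b, true), (Gen.d, true), (Gen.e, true), (Gen.f, true), (Gen.d, true), (Gen.h, true), (Gen.i, true), (Gen.d, true), (Gen.c, true), (Gen.b, true), (Gen.d, true), (Gen.e, true), (Gen.f, true), (Gen.d, true), (Gen.h, true), (Gen.i, true), (Gen.d, true), (Gen.c, true), (Gen.b, true), (Gen.d, true), (Gen.e, true), (Gen.f, true), (Gen.d, true)] RW_72,
   Cert.rel true [(Gen.d, true), (Gen.f, true), (Gen.e, true), (Gen.d, true), (Gen.b, true), (Gen.c, true), (Gen.d, true), (Gen.i, true), (Gen.h, true), (Gen.d, true), (Gen.f, true), (Gen.e, true), (Gen.d, true), (Gen.b, true), (Gen.c, true), (Gen.d, true), (Gen.i, true), (Gen.h, true), (Gen.d, true), (Gen.f, true), (Gen.e, true), (Gen.d, true), (Gen.b, true), (Gen.c, true), (Gen.d, true), (Gen.i, true), (Gen.h, true), (Gen.d, true), (Gen.f, true), (Gen.e, true), (Gen.d, true), (Gen.b, true), (Gen.c, true), (Gen.d, true), (Gen.i, true), (Gen.h, true), (Gen.d, true), (Gen.f, true), (Gen.e, true), (Gen.d, true), (Gen.b, true), (Gen.c, true),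 (Gen.d, true), (Gen.i, true), (Gen.h, true), (Gen.d, true), (Gen.f, true), (Gen.e, true), (Gen.d, true), (Gen.b, true), (Gen.c, true), (Gen.d, true), (Gen.i, true), (Gen.h, true), (Gen.d, true), (Gen.f, true), (Gen.e, true), (Gen.d, true), (Gen.b, true), (Gen.c, true), (Gen.d, true), (Gen.i, true), (Gen.h, true), (Gen.d, true), (Gen.f, true), (Gen.e, true), (Gen.d, true), (Gen.b, true), (Gen.c, true), (Gen.d, true), (Gen.i, true), (Gen.h, true), (Gen.d, true), (Gen.f, true), (Gen.e, true), (Gen.d, true), (Gen.b, true), (Gen.c, true), (Gen.d, true), (Gen.i, true), (Gen.h, true), (Gen.d, true), (Gen.f, true), (Gen.e, true), (Gen.d, true), (Gen.b, true), (Gen.c, true), (Gen.d, true), (Gen.i, true)] RW_50]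
def ct_h : Nat := 4340060996963667939122148845506345334314888670797051287174668922726825779826685102430295098759342090880572439102997363601702858870401080155468399554984206263099803930923299925852248744527930158209611977667835822152010396955060743758520955061683659432674795242437954323963243779665160567256058777980971441448650202824618661324520940712384122658295062636721066629979222462241805376058459165700289486772215447586554138731217590904152074694448144564876390245485143731009754620039904985311037821572113925608412736588252061530635755830276014063235098942812620348369400589360236912521792876178314010109693727227538268685649905717445037624235683573197156578749220157195883372180235184323924019471327327156439336410335998574642048080094418058803933918434531167104332576868388845248394229428920065969792754592577832001010971345409345755281748806120878732642454767052351163511262904397377039540634552504438070028667357033821483379272806241809111245655797113837502167356561579501210716377713466687036330061269301048437197768377846399824210719507534945448831210127592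38702899824368167145847990170266462912587670147380481557891970907138301713683888230046564373669078443083944771880283771014504074825009863250999557489638236229281532050486062220345747331063100408041654591908207994133404230464658468022327271981107859206870857436311235041592131177454689590810561741265152065572376728599324814744418894644480332024728036013378852460248505959682939338371917580105926476459559698460255881205122193728730929680356660772239869394032968151749419361826680068698046229035608779286113949311417024894586726650277197902338024241188100500125133014118677569323975199037270223852882429011570790174257848574248870420037313115272349328566328944049803993511386480159489493203035554305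
def certL_i : List (Cert D.rels D.S Gen.i) :=
  [Cert.tree,
   Cert.sub true [] [] (D.sub_mem Gen.i (by decide)),
   Cert.rel true [(Gen.g, true), (Gen.i, true), (Gen.g, true)] RW_73,
   Cert.rel true [(Gen.f, true), (Gen.i, true), (Gen.f, true)] RW_35,
   Cert.rel true [(Gen.e, true), (Gen.i, true), (Gen.e, true)] RW_15,
   Cert.rel true [(Gen.d, true), (Gen.i, true), (Gen.d, true)] RW_6,
   Cert.rel true [(Gen.c, true), (Gen.i, true), (Gen.c, true)] RW_2,
   Cert.rel true [(Gen.b, true), (Gen.i, true), (Gen.b, true)] RW_36,
   Cert.rel true [(Gen.i, true)] RW_74,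
   Cert.rel true [(Gen.h, true), (Gen.i, true), (Gen.h, true), (Gen.i, true), (Gen.h, true)] RW_34,
   Cert.rel true [(Gen.d, true), (Gen.c, true), (Gen.b, true), (Gen.d, true), (Gen.e, true), (Gen.f, true), (Gen.d, true), (Gen.h, true), (Gen.i, true), (Gen.d, true), (Gen.c, true), (Gen.b, true), (Gen.d, true), (Gen.e, true), (Gen.f, true), (Gen.d, true), (Gen.h, true), (Gen.i, true), (Gen.d, true), (Gen.c, true), (Gen.b, true), (Gen.d, true), (Gen.e, true), (Gen.f, true), (Gen.d, true), (Gen.h, true), (Gen.i, true), (Gen.d, true), (Gen.c, true), (Gen.b, true), (Gen.d, true), (Gen.e, true), (Gen.f, true), (Gen.d, true), (Gen.h, true), (Gen.i, true), (Gen.d, true), (Gen.c, true), (Gen.b, true), (Gen.d, true), (Gen.e, true), (Gen.f, true), (Gen.d, true), (Gen.h, true), (Gen.i, true), (Gen.d, true), (Gen.c, true), (Gen.b, true), (Gen.d, true), (Gen.e, true), (Gen.f, true), (Gen.d, true), (Gen.h, true), (Gen.i, true), (Gen.d, true), (Gen.c, true), (Gen.b, true), (Gen.d, true), (Gen.e, true), (Gen.f, true), (Gen.d, true), (Gen.h, true), (Gen.i, true), (Gen.d, true),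 (Gen.c, true), (Gen.b, true), (Gen.d, true), (Gen.e, true), (Gen.f, true), (Gen.d, true), (Gen.h, true), (Gen.i, true), (Gen.d, true), (Gen.c, true), (Gen.b, true), (Gen.d, true), (Gen.e, true), (Gen.f, true), (Gen.d, true), (Gen.h, true), (Gen.i, true), (Gen.d, true), (Gen.c, true), (Gen.b, true), (Gen.d, true), (Gen.e, true), (Gen.f, true), (Gen.d, true), (Gen.h, true)] RW_75,
   Cert.rel true [(Gen.h, true), (Gen.d, true), (Gen.f, true), (Gen.e, true), (Gen.d, true), (Gen.b, true), (Gen.c, true), (Gen.d, true), (Gen.i, true), (Gen.h, true), (Gen.d, true), (Gen.f, true), (Gen.e, true), (Gen.d, true), (Gen.b, true), (Gen.c, true), (Gen.d, true), (Gen.i, true), (Gen.h, true), (Gen.d, true), (Gen.f, true), (Gen.e, true), (Gen.d, true), (Gen.b, true), (Gen.c, true), (Gen.d, true), (Gen.i, true), (Gen.h, true), (Gen.d, true), (Gen.f, true), (Gen.e, true), (Gen.d, true), (Gen.b, true), (Gen.c, true), (Gen.d, true), (Gen.i, true), (Gen.h, true), (Gen.d, true), (Gen.f, true), (Gen.e, true), (Gen.d, true), (Gen.b, true), (Gen.c, true), (Gen.d, true), (Gen.i, true),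 (Gen.h, true), (Gen.d, true), (Gen.f, true), (Gen.e, true), (Gen.d, true), (Gen.b, true), (Gen.c, true), (Gen.d, true), (Gen.i, true), (Gen.h, true), (Gen.d, true), (Gen.f, true), (Gen.e, true), (Gen.d, true), (Gen.b, true), (Gen.c, true), (Gen.d, true), (Gen.i, true), (Gen.h, true), (Gen.d, true), (Gen.f, true), (Gen.e, true), (Gen.d, true), (Gen.b, true), (Gen.c, true), (Gen.d, true), (Gen.i, true), (Gen.h, true), (Gen.d, true), (Gen.f, true), (Gen.e, true), (Gen.d, true), (Gen.b, true), (Gen.c, true), (Gen.d, true), (Gen.i, true), (Gen.h, true), (Gen.d, true), (Gen.f, true), (Gen.e, true), (Gen.d, true), (Gen.b, true), (Gen.c, true), (Gen.d, true)] RW_37]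
def ct_i : Nat := 3100756683783985022649960833014908168223171946317227447659978353724821166740582489928515152382862330732409792552269816061789908678793255965673219560199937297525937566584994576754442037838069145814819596632816816413801184589305141828691927511046443577444967134048850492468402637532781789455788493650421905785562614682528307278082083038492498220368970492186154671157545508895529971649627173976847614556620424742738113575254357782907613816153758913296602905030610988059607922403595301967153102167705727730319636373777414267207711145855335535125755109029650072181449946895904575722491872190649970537166115652019214453121029613023078515118571965004337271706939553654940521010328590283999750847827070727324852082571842258966800128478359928734319279554658555163306881156878138577314583940460093785936957023756071809518092454132490274125309982194630608152581333332627808881810502597374663240086197275132725623753752333848883402444028462642188560982439194062850512150302584942105441613479734844004385134143498372068055871414571008111856592941601162139997573444393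08617263425244236044586550601170035200271766302455966176302678283973967617729354606493960416070645203970140673378642421550715284787359180889340257168347922803450414843589316956613230410525341327612295106832567585067086893690077843017789445499769443968887469445706385761493318548555172579225711577427638872819351790464640936907308408708216961803777268981327818045961671877007392288424563215458691389698379702305471214761763922084334887102028691628390902049463137896343845963529437211257775192244153359406879373148013930736442315215752431475846418667687123356165696431716066749688167325134600152365259185400499377953777136036216095345200189192897016624762310121686680931194608371618404403900091400705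
def cert : (x : Gen) → Fin D.n → Cert D.rels D.S x
  | .a, p => pick certL_a (look8 ct_a p.val) Cert.tree
  | .b, p => pick certL_b (look8 ct_b p.val) Cert.tree
  | .c, p => pick certL_c (look8 ct_c p.val) Cert.tree
  | .d, p => pick certL_d (look8 ct_d p.val) Cert.tree
  | .e, p => pick certL_e (look8 ct_e p.val) Cert.tree
  | .f, p => pick certL_f (look8 ct_f p.val) Cert.tree
  | .g, p => pick certL_g (look8 ct_g p.val) Cert.tree
  | .h, p => pick certL_h (look8 ct_h p.val) Cert.tree
  | .i, p => pick certL_i (look8 ct_i p.val) Cert.tree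

end

end Cfsg.Agent.Helper27.Fi22TC.F1
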