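import Cfsg.Agent.Lib.Helper27.Fi22.F1.Certs

set_option autoImplicit false
set_option maxRecDepth 100000
set_option linter.all false

namespace Cfsg.Agent.Helper27.Fi22TC.F1

open Cfsg.Agent.Helper28 Cfsg.Agent.Helper27.Fi22TC
open Cfsg.Spor.Fi22 (Gen)

noncomputable section

abbrev Q : Type := PresentedGroup D.rels ⧸ subH D.rels D.S
abbrev ed (y : Gen) (c : Q) : Q := lG D.rels (y, true) • c
def V_728 : Q := ed Gen.c (D.P 157)
def V_729 : Q := ed Gen.b V_728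
def V_730 : Q := ed Gen.d V_728
def V_732 : Q := ed Gen.h V_728
def V_733 : Q := ed Gen.h (D.P 157)
def V_736 : Q := ed Gen.e V_730
def V_737 : Q := ed Gen.h V_730
def V_738 : Q := ed Gen.d V_737
def V_739 : Q := ed Gen.h V_738
def V_741 : Q := ed Gen.i V_732
def V_742 : Q := ed Gen.c (D.P 355)
def V_743 : Q := ed Gen.i V_742
def V_744 : Q := ed Gen.h V_743
def V_745 : Q := ed Gen.d V_744
def V_746 : Q := ed Gen.f V_745
def V_747 : Q := ed Gen.e V_746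
def V_748 : Q := ed Gen.d V_747
def V_749 : Q := ed Gen.b V_748
def V_750 : Q := ed Gen.c V_749
def V_751 : Q := ed Gen.d V_750
def V_752 : Q := ed Gen.i V_751
def V_753 : Q := ed Gen.h V_752
def V_754 : Q := ed Gen.d V_753
def V_755 : Q := ed Gen.f V_754
def V_756 : Q := ed Gen.e V_755
def V_757 : Q := ed Gen.d V_756
def V_758 : Q := ed Gen.b V_757
def V_759 : Q := ed Gen.c V_758
def V_760 : Q := ed Gen.d V_759
def V_761 : Q := ed Gen.i V_760
def V_762 : Q := ed Gen.h V_761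
def V_763 : Q := ed Gen.d V_762
def V_764 : Q := ed Gen.f V_763
def V_765 : Q := ed Gen.e V_764
def V_766 : Q := ed Gen.d V_765
def V_767 : Q := ed Gen.b V_766
def V_768 : Q := ed Gen.c V_767
def V_769 : Q := ed Gen.d V_768
def V_770 : Q := ed Gen.i V_769
def V_771 : Q := ed Gen.h V_770
def V_772 : Q := ed Gen.d V_771
def V_773 : Q := ed Gen.f V_772
def V_774 : Q := ed Gen.e V_773
def V_775 : Q := ed Gen.d V_774
def V_776 : Q := ed Gen.b V_775
def V_777 : Q := ed Gen.c V_776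
def V_778 : Q := ed Gen.d V_777
def V_779 : Q := ed Gen.i V_778
def V_780 : Q := ed Gen.h V_779
def V_781 : Q := ed Gen.d V_780
def V_782 : Q := ed Gen.f V_781
def V_783 : Q := ed Gen.e V_782
def V_784 : Q := ed Gen.d V_783
def V_785 : Q := ed Gen.b V_784
def V_786 : Q := ed Gen.c V_785
def V_787 : Q := ed Gen.d V_786
def V_788 : Q := ed Gen.i V_787
def V_789 : Q := ed Gen.h V_788
def V_790 : Q := ed Gen.d V_789
def V_791 : Q := ed Gen.h (D.P 566)
def V_792 : Q := ed Gen.i V_791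
def V_793 : Q := ed Gen.d V_792
def V_794 : Q := ed Gen.c V_793
def V_795 : Q := ed Gen.b V_794
def V_796 : Q := ed Gen.d V_795
def V_797 : Q := ed Gen.e V_796
def V_798 : Q := ed Gen.f V_797
def V_799 : Q := ed Gen.d V_798
def V_800 : Q := ed Gen.h V_799
def V_801 : Q := ed Gen.i V_800
def V_802 : Q := ed Gen.d V_801
def V_803 : Q := ed Gen.c V_802
def V_804 : Q := ed Gen.b V_803
def V_805 : Q := ed Gen.d V_804
def V_806 : Q := ed Gen.e V_805
def V_807 : Q := ed Gen.f V_806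
def V_808 : Q := ed Gen.d V_807
def V_809 : Q := ed Gen.h V_808
def V_810 : Q := ed Gen.i V_809
def V_811 : Q := ed Gen.d V_810
def V_812 : Q := ed Gen.c V_811
def V_813 : Q := ed Gen.b V_812
def V_814 : Q := ed Gen.d V_813
def V_815 : Q := ed Gen.e V_814
def V_816 : Q := ed Gen.f V_815
def V_817 : Q := ed Gen.d V_816
def V_818 : Q := ed Gen.h V_817
def V_819 : Q := ed Gen.i V_818
def V_820 : Q := ed Gen.d V_819
def V_821 : Q := ed Gen.c V_820
def V_822 : Q := ed Gen.b V_821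
def V_823 : Q := ed Gen.d V_822
def V_824 : Q := ed Gen.b (D.P 358)
def V_825 : Q := ed Gen.c V_824
def V_826 : Q := ed Gen.d V_825
def V_827 : Q := ed Gen.i V_826
def V_828 : Q := ed Gen.h V_827
def V_829 : Q := ed Gen.d V_828
def V_830 : Q := ed Gen.f V_829
def V_831 : Q := ed Gen.e V_830
def V_832 : Q := ed Gen.d V_831
def V_833 : Q := ed Gen.b V_832
def V_834 : Q := ed Gen.c V_833
def V_835 : Q := ed Gen.d V_834
def V_836 : Q := ed Gen.h V_835
def V_837 : Q := ed Gen.d V_836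
def V_838 : Q := ed Gen.f V_837
def V_839 : Q := ed Gen.e V_838
def V_840 : Q := ed Gen.d V_839
def V_841 : Q := ed Gen.b V_840
def V_842 : Q := ed Gen.c V_841
def V_843 : Q := ed Gen.d V_842
def V_844 : Q := ed Gen.i V_843
def V_845 : Q := ed Gen.h V_844
def V_846 : Q := ed Gen.d V_845
def V_847 : Q := ed Gen.f V_846
def V_848 : Q := ed Gen.e V_847
def V_849 : Q := ed Gen.d V_848
def V_850 : Q := ed Gen.b V_849
def V_851 : Q := ed Gen.c V_850
def V_852 : Q := ed Gen.d V_851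
def V_853 : Q := ed Gen.i V_852
def V_854 : Q := ed Gen.h V_853
def V_855 : Q := ed Gen.d V_854
def V_856 : Q := ed Gen.f V_855
def V_857 : Q := ed Gen.e V_856
def V_858 : Q := ed Gen.d V_857
def V_859 : Q := ed Gen.b V_858
def V_860 : Q := ed Gen.c V_859
def V_861 : Q := ed Gen.d V_860
def V_862 : Q := ed Gen.i V_861
def V_863 : Q := ed Gen.h V_862
def V_864 : Q := ed Gen.d V_863
def V_865 : Q := ed Gen.f V_864
def V_866 : Q := ed Gen.e V_865
def V_867 : Q := ed Gen.d V_866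
def V_868 : Q := ed Gen.b V_867
def V_869 : Q := ed Gen.c V_868
def V_870 : Q := ed Gen.d V_869
def V_871 : Q := ed Gen.i V_870
def V_872 : Q := ed Gen.h V_871
def V_873 : Q := ed Gen.d V_872
def V_874 : Q := ed Gen.f V_873
def V_875 : Q := ed Gen.e V_874
def V_876 : Q := ed Gen.d V_875
def V_877 : Q := ed Gen.b V_876
def V_878 : Q := ed Gen.c V_877
def V_879 : Q := ed Gen.d V_878
def V_880 : Q := ed Gen.c (D.P 574)
def V_881 : Q := ed Gen.b V_880
def V_882 : Q := ed Gen.d V_881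
def V_883 : Q := ed Gen.e V_882
def V_884 : Q := ed Gen.f V_883
def V_885 : Q := ed Gen.h V_884
def V_886 : Q := ed Gen.i V_885
def V_887 : Q := ed Gen.d V_886
def V_888 : Q := ed Gen.c V_887
def V_889 : Q := ed Gen.b V_888
def V_890 : Q := ed Gen.d V_889
def V_891 : Q := ed Gen.e V_890
def V_892 : Q := ed Gen.f V_891
def V_893 : Q := ed Gen.d V_892
def V_894 : Q := ed Gen.h V_893
def V_895 : Q := ed Gen.i V_894
def V_896 : Q := ed Gen.d V_895
def V_897 : Q := ed Gen.c V_896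
def V_898 : Q := ed Gen.b V_897
def V_899 : Q := ed Gen.d V_898
def V_900 : Q := ed Gen.e V_899
def V_901 : Q := ed Gen.f V_900
def V_902 : Q := ed Gen.d V_901
def V_903 : Q := ed Gen.h V_902
def V_904 : Q := ed Gen.i V_903
def V_905 : Q := ed Gen.d V_904
def V_906 : Q := ed Gen.c V_905
def V_907 : Q := ed Gen.b V_906
def V_908 : Q := ed Gen.d V_907
def V_909 : Q := ed Gen.e V_908
def V_910 : Q := ed Gen.f V_909
def V_911 : Q := ed Gen.d V_910
def V_912 : Q := ed Gen.h V_911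
def V_913 : Q := ed Gen.i V_912
def V_914 : Q := ed Gen.d V_913
def V_915 : Q := ed Gen.c V_914
def V_916 : Q := ed Gen.b V_915
def V_917 : Q := ed Gen.d V_916
def V_918 : Q := ed Gen.e V_917
def V_919 : Q := ed Gen.f V_918
def V_920 : Q := ed Gen.d V_919
def V_921 : Q := ed Gen.h V_920
def V_922 : Q := ed Gen.i V_921
def V_923 : Q := ed Gen.d V_922
def V_924 : Q := ed Gen.c V_923
def V_925 : Q := ed Gen.b V_924
def V_926 : Q := ed Gen.d V_925
def V_927 : Q := ed Gen.b (D.P 499)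
def V_928 : Q := ed Gen.c V_927
def V_929 : Q := ed Gen.d V_928
def V_930 : Q := ed Gen.i V_929
def V_931 : Q := ed Gen.h V_930
def V_932 : Q := ed Gen.d V_931
def V_933 : Q := ed Gen.e V_932
def V_934 : Q := ed Gen.d V_933
def V_935 : Q := ed Gen.b V_934
def V_936 : Q := ed Gen.c V_935
def V_937 : Q := ed Gen.d V_936
def V_938 : Q := ed Gen.i V_937
def V_939 : Q := ed Gen.h V_938
def V_940 : Q := ed Gen.d V_939
def V_941 : Q := ed Gen.f V_940
def V_942 : Q := ed Gen.e V_941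
def V_943 : Q := ed Gen.d V_942
def V_944 : Q := ed Gen.b V_943
def V_945 : Q := ed Gen.c V_944
def V_946 : Q := ed Gen.d V_945
def V_947 : Q := ed Gen.i V_946
def V_948 : Q := ed Gen.h V_947
def V_949 : Q := ed Gen.d V_948
def V_950 : Q := ed Gen.f V_949
def V_951 : Q := ed Gen.e V_950
def V_952 : Q := ed Gen.d V_951
def V_953 : Q := ed Gen.b V_952
def V_954 : Q := ed Gen.c V_953
def V_955 : Q := ed Gen.d V_954
def V_956 : Q := ed Gen.i V_955
def V_957 : Q := ed Gen.h V_956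
def V_958 : Q := ed Gen.d V_957
def V_959 : Q := ed Gen.f V_958
def V_960 : Q := ed Gen.e V_959
def V_961 : Q := ed Gen.d V_960
def V_962 : Q := ed Gen.b V_961
def V_963 : Q := ed Gen.c V_962
def V_964 : Q := ed Gen.d V_963
def V_965 : Q := ed Gen.i V_964
def V_966 : Q := ed Gen.h V_965
def V_967 : Q := ed Gen.d V_966
def V_968 : Q := ed Gen.f V_967
def V_969 : Q := ed Gen.e V_968
def V_970 : Q := ed Gen.d V_969
def V_971 : Q := ed Gen.b V_970
def V_972 : Q := ed Gen.c V_971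
def V_973 : Q := ed Gen.d V_972
def V_974 : Q := ed Gen.i V_973
def V_975 : Q := ed Gen.h V_974
def V_976 : Q := ed Gen.d V_975
def V_977 : Q := ed Gen.f V_976
def V_978 : Q := ed Gen.e V_977
def V_979 : Q := ed Gen.d V_978
def V_980 : Q := ed Gen.b V_979
def V_981 : Q := ed Gen.c V_980
def V_982 : Q := ed Gen.d V_981
def V_983 : Q := ed Gen.i V_982
def V_984 : Q := ed Gen.h V_983
def V_985 : Q := ed Gen.d V_984
def V_986 : Q := ed Gen.f V_985
def V_987 : Q := ed Gen.e V_986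
def V_988 : Q := ed Gen.d V_987
def V_989 : Q := ed Gen.b V_988
def V_990 : Q := ed Gen.c V_989
def V_991 : Q := ed Gen.h (D.P 199)
def V_993 : Q := ed Gen.h V_736
def V_1419 : Q := ed Gen.i V_733
def V_1420 : Q := ed Gen.b V_1419
def V_1421 : Q := ed Gen.c (D.P 496)
def V_1422 : Q := ed Gen.d V_1421
def V_1423 : Q := ed Gen.i V_1422
def V_1424 : Q := ed Gen.h V_1423
def V_1425 : Q := ed Gen.d V_1424
def V_1426 : Q := ed Gen.e V_1425
def V_1427 : Q := ed Gen.b V_1426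
def V_1428 : Q := ed Gen.c V_1427
def V_1429 : Q := ed Gen.d V_1428
def V_1430 : Q := ed Gen.i V_1429
def V_1431 : Q := ed Gen.h V_1430
def V_1432 : Q := ed Gen.d V_1431
def V_1433 : Q := ed Gen.f V_1432
def V_1434 : Q := ed Gen.e V_1433
def V_1435 : Q := ed Gen.d V_1434
def V_1436 : Q := ed Gen.b V_1435
def V_1437 : Q := ed Gen.c V_1436
def V_1438 : Q := ed Gen.d V_1437
def V_1439 : Q := ed Gen.i V_1438
def V_1440 : Q := ed Gen.h V_1439
def V_1441 : Q := ed Gen.d V_1440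
def V_1442 : Q := ed Gen.f V_1441
def V_1443 : Q := ed Gen.e V_1442
def V_1444 : Q := ed Gen.d V_1443
def V_1445 : Q := ed Gen.b V_1444
def V_1446 : Q := ed Gen.c V_1445
def V_1447 : Q := ed Gen.d V_1446
def V_1448 : Q := ed Gen.i V_1447
def V_1449 : Q := ed Gen.h V_1448
def V_1450 : Q := ed Gen.d V_1449
def V_1451 : Q := ed Gen.f V_1450
def V_1452 : Q := ed Gen.e V_1451
def V_1453 : Q := ed Gen.d V_1452
def V_1454 : Q := ed Gen.b V_1453
def V_1455 : Q := ed Gen.c V_1454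
def V_1456 : Q := ed Gen.d V_1455
def V_1457 : Q := ed Gen.i V_1456
def V_1458 : Q := ed Gen.h V_1457
def V_1459 : Q := ed Gen.d V_1458
def V_1460 : Q := ed Gen.f V_1459
def V_1461 : Q := ed Gen.e V_1460
def V_1462 : Q := ed Gen.d V_1461
def V_1463 : Q := ed Gen.b V_1462
def V_1464 : Q := ed Gen.c V_1463
def V_1465 : Q := ed Gen.d V_1464
def V_1466 : Q := ed Gen.i V_1465
def V_1467 : Q := ed Gen.h V_1466
def V_1468 : Q := ed Gen.d V_1467
def V_1501 : Q := ed Gen.f V_821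
def V_1502 : Q := ed Gen.e V_1501
def V_1503 : Q := ed Gen.c V_1502
def V_1504 : Q := ed Gen.d V_1503
def V_1505 : Q := ed Gen.i V_1504
def V_1506 : Q := ed Gen.h V_1505
def V_1507 : Q := ed Gen.d V_1506
def V_1508 : Q := ed Gen.f V_1507
def V_1509 : Q := ed Gen.e V_1508
def V_1510 : Q := ed Gen.d V_1509
def V_1511 : Q := ed Gen.b V_1510
def V_1512 : Q := ed Gen.c V_1511
def V_1513 : Q := ed Gen.d V_1512
def V_1514 : Q := ed Gen.i V_1513
def V_1515 : Q := ed Gen.h V_1514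
def V_1516 : Q := ed Gen.d V_1515
def V_1517 : Q := ed Gen.f V_1516
def V_1518 : Q := ed Gen.e V_1517
def V_1519 : Q := ed Gen.d V_1518
def V_1520 : Q := ed Gen.b V_1519
def V_1521 : Q := ed Gen.c V_1520
def V_1522 : Q := ed Gen.d V_1521
def V_1523 : Q := ed Gen.i V_1522
def V_1524 : Q := ed Gen.h V_1523
def V_1525 : Q := ed Gen.d V_1524
def V_1526 : Q := ed Gen.f V_1525
def V_1527 : Q := ed Gen.e V_1526
def V_1528 : Q := ed Gen.d V_1527
def V_1529 : Q := ed Gen.b V_1528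
def V_1530 : Q := ed Gen.c V_1529
def V_1531 : Q := ed Gen.d V_1530
def V_1532 : Q := ed Gen.i V_1531
def V_1533 : Q := ed Gen.h V_1532
def V_1534 : Q := ed Gen.d V_1533
def V_1535 : Q := ed Gen.f V_1534
def V_1536 : Q := ed Gen.e V_1535
def V_1537 : Q := ed Gen.d V_1536
def V_1538 : Q := ed Gen.b V_1537
def V_1539 : Q := ed Gen.c V_1538
def V_1540 : Q := ed Gen.d V_1539
def V_1541 : Q := ed Gen.i V_1540
def V_1542 : Q := ed Gen.h V_1541
def V_1543 : Q := ed Gen.d V_1542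
def V_1544 : Q := ed Gen.f V_1543
def V_1545 : Q := ed Gen.e V_1544
def V_1546 : Q := ed Gen.d V_1545
def V_1547 : Q := ed Gen.b V_1546
def V_1548 : Q := ed Gen.c V_1547
def V_1549 : Q := ed Gen.d V_1548
def V_1550 : Q := ed Gen.i V_1549
def V_1551 : Q := ed Gen.h V_1550
def V_1552 : Q := ed Gen.d V_1551
def V_1553 : Q := ed Gen.f V_1552
def V_1554 : Q := ed Gen.e V_1553
def V_1555 : Q := ed Gen.d V_1554
def V_1556 : Q := ed Gen.b V_1555
def V_1557 : Q := ed Gen.c V_1556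
def V_1558 : Q := ed Gen.d V_1557
def V_1559 : Q := ed Gen.i V_1558
def V_1560 : Q := ed Gen.h V_1559
def V_1561 : Q := ed Gen.d V_1560
def V_1562 : Q := ed Gen.f V_1561
def V_1563 : Q := ed Gen.e V_1562
def V_1564 : Q := ed Gen.d V_1563
def V_1565 : Q := ed Gen.b V_1564
def V_1568 : Q := ed Gen.d V_993
def V_1569 : Q := ed Gen.c V_1568
def V_1570 : Q := ed Gen.d V_1569
def V_1571 : Q := ed Gen.i V_1570
def V_1572 : Q := ed Gen.h V_1571
def V_1573 : Q := ed Gen.d V_1572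
def V_1574 : Q := ed Gen.f V_1573
def V_1575 : Q := ed Gen.e V_1574
def V_1576 : Q := ed Gen.d V_1575
def V_1577 : Q := ed Gen.b V_1576
def V_1578 : Q := ed Gen.c V_1577
def V_1579 : Q := ed Gen.d V_1578
def V_1580 : Q := ed Gen.i V_1579
def V_1581 : Q := ed Gen.h V_1580
def V_1582 : Q := ed Gen.d V_1581
def V_1583 : Q := ed Gen.f V_1582
def V_1584 : Q := ed Gen.e V_1583
def V_1585 : Q := ed Gen.d V_1584
def V_1586 : Q := ed Gen.b V_1585
def V_1587 : Q := ed Gen.c V_1586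
def V_1588 : Q := ed Gen.d V_1587
def V_1589 : Q := ed Gen.i V_1588
def V_1590 : Q := ed Gen.h V_1589
def V_1591 : Q := ed Gen.d V_1590
def V_1592 : Q := ed Gen.f V_1591
def V_1593 : Q := ed Gen.e V_1592
def V_1594 : Q := ed Gen.d V_1593
def V_1595 : Q := ed Gen.b V_1594
def V_1596 : Q := ed Gen.c V_1595
def V_1597 : Q := ed Gen.d V_1596
def V_1598 : Q := ed Gen.i V_1597
def V_1599 : Q := ed Gen.h V_1598
def V_1600 : Q := ed Gen.d V_1599
def V_1601 : Q := ed Gen.f V_1600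
def V_1602 : Q := ed Gen.e V_1601
def V_1603 : Q := ed Gen.d V_1602
def V_1604 : Q := ed Gen.b V_1603
def V_1605 : Q := ed Gen.c V_1604
def V_1606 : Q := ed Gen.d V_1605
def V_1607 : Q := ed Gen.i V_1606
def V_1608 : Q := ed Gen.h V_1607
def V_1609 : Q := ed Gen.d V_1608
def V_1610 : Q := ed Gen.f V_1609
def V_1611 : Q := ed Gen.e V_1610
def V_1612 : Q := ed Gen.d V_1611
def V_1613 : Q := ed Gen.b V_1612
def V_1614 : Q := ed Gen.c V_1613
def V_1615 : Q := ed Gen.d V_1614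
def V_1616 : Q := ed Gen.i V_1615
def V_1617 : Q := ed Gen.h V_1616
def V_1618 : Q := ed Gen.d V_1617
def V_1619 : Q := ed Gen.f V_1618
def V_1620 : Q := ed Gen.e V_1619
def V_1621 : Q := ed Gen.d V_1620
def V_1622 : Q := ed Gen.h (D.P 167)
def V_1623 : Q := ed Gen.d V_1622
def V_1624 : Q := ed Gen.e V_1623
def V_1625 : Q := ed Gen.b V_1624
def V_1626 : Q := ed Gen.c V_1625
def V_1627 : Q := ed Gen.d V_1626
def V_1628 : Q := ed Gen.h V_1627
def V_1629 : Q := ed Gen.f V_1628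
def V_1630 : Q := ed Gen.e V_1629
def V_1631 : Q := ed Gen.d V_1630
def V_1632 : Q := ed Gen.b V_1631
def V_1633 : Q := ed Gen.c V_1632
def V_1634 : Q := ed Gen.d V_1633
def V_1635 : Q := ed Gen.i V_1634
def V_1636 : Q := ed Gen.h V_1635
def V_1637 : Q := ed Gen.d V_1636
def V_1638 : Q := ed Gen.f V_1637
def V_1639 : Q := ed Gen.e V_1638
def V_1640 : Q := ed Gen.d V_1639
def V_1641 : Q := ed Gen.b V_1640
def V_1642 : Q := ed Gen.c V_1641
def V_1643 : Q := ed Gen.d V_1642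
def V_1644 : Q := ed Gen.i V_1643
def V_1645 : Q := ed Gen.h V_1644
def V_1646 : Q := ed Gen.d V_1645
def V_1647 : Q := ed Gen.f V_1646
def V_1648 : Q := ed Gen.e V_1647
def V_1649 : Q := ed Gen.d V_1648
def V_1650 : Q := ed Gen.b V_1649
def V_1651 : Q := ed Gen.c V_1650
def V_1652 : Q := ed Gen.d V_1651
def V_1653 : Q := ed Gen.i V_1652
def V_1654 : Q := ed Gen.h V_1653
def V_1655 : Q := ed Gen.d V_1654
def V_2011 : Q := ed Gen.h (D.P 246)
def V_2014 : Q := ed Gen.c (D.P 426)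
def V_2015 : Q := ed Gen.b V_2014
def V_2016 : Q := ed Gen.e V_2015
def V_2017 : Q := ed Gen.d V_2016
def V_2018 : Q := ed Gen.h V_2017
def V_2019 : Q := ed Gen.i V_2018
def V_2020 : Q := ed Gen.d V_2019
def V_2021 : Q := ed Gen.c V_2020
def V_2022 : Q := ed Gen.b V_2021
def V_2023 : Q := ed Gen.e V_2022
def V_2024 : Q := ed Gen.f V_2023
def V_2025 : Q := ed Gen.d V_2024
def V_2026 : Q := ed Gen.h V_2025
def V_2027 : Q := ed Gen.i V_2026
def V_2028 : Q := ed Gen.d V_2027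
def V_2029 : Q := ed Gen.c V_2028
def V_2030 : Q := ed Gen.b V_2029
def V_2031 : Q := ed Gen.d V_2030
def V_2032 : Q := ed Gen.e V_2031
def V_2033 : Q := ed Gen.f V_2032
def V_2034 : Q := ed Gen.d V_2033
def V_2035 : Q := ed Gen.h V_2034
def V_2036 : Q := ed Gen.i V_2035
def V_2037 : Q := ed Gen.d V_2036
def V_2038 : Q := ed Gen.c V_2037
def V_2039 : Q := ed Gen.b V_2038
def V_2040 : Q := ed Gen.d V_2039
def V_2041 : Q := ed Gen.e V_2040
def V_2042 : Q := ed Gen.f V_2041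
def V_2043 : Q := ed Gen.d V_2042
def V_2044 : Q := ed Gen.h V_2043
def V_2045 : Q := ed Gen.i V_2044
def V_2046 : Q := ed Gen.d V_2045
def V_2047 : Q := ed Gen.c V_2046
def V_2048 : Q := ed Gen.b V_2047
def V_2049 : Q := ed Gen.d V_2048
def V_2050 : Q := ed Gen.e V_2049
def V_2051 : Q := ed Gen.c (D.P 337)
def V_2052 : Q := ed Gen.d V_2051
def V_2053 : Q := ed Gen.h V_2052
def V_2054 : Q := ed Gen.f V_1556
def V_2055 : Q := ed Gen.d V_2054
def V_2056 : Q := ed Gen.b V_2055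
def V_2057 : Q := ed Gen.c V_2056
def V_2058 : Q := ed Gen.d V_2057
def V_2059 : Q := ed Gen.h V_1611
def V_2060 : Q := ed Gen.d V_2059
def V_2061 : Q := ed Gen.f V_2060
def V_2062 : Q := ed Gen.e V_2061
def V_2063 : Q := ed Gen.d V_2062
def V_2064 : Q := ed Gen.c V_2063
def V_2065 : Q := ed Gen.d V_2064
def V_2066 : Q := ed Gen.i V_2065
def V_2067 : Q := ed Gen.h V_2066
def V_2068 : Q := ed Gen.d V_2067
def V_2069 : Q := ed Gen.f V_2068
def V_2070 : Q := ed Gen.e V_2069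
def V_2071 : Q := ed Gen.d V_2070
def V_2072 : Q := ed Gen.b V_2071
def V_2073 : Q := ed Gen.c V_2072
def V_2074 : Q := ed Gen.d V_2073
def V_2075 : Q := ed Gen.i V_2074
def V_2076 : Q := ed Gen.h V_2075
def V_2077 : Q := ed Gen.d V_2076
def V_2078 : Q := ed Gen.f V_2077
def V_2079 : Q := ed Gen.e V_2078
def V_2080 : Q := ed Gen.d V_2079
def V_2081 : Q := ed Gen.b V_2080
def V_2082 : Q := ed Gen.c V_2081
def V_2083 : Q := ed Gen.d V_2082
def V_2084 : Q := ed Gen.i V_2083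
def V_2085 : Q := ed Gen.h V_2084
def V_2086 : Q := ed Gen.d V_2085
def V_2087 : Q := ed Gen.f V_2086
def V_2088 : Q := ed Gen.e V_2087
def V_2089 : Q := ed Gen.d V_2088
def V_2090 : Q := ed Gen.b V_2089
def V_2091 : Q := ed Gen.c V_2090
def V_2092 : Q := ed Gen.d V_2091
def V_2093 : Q := ed Gen.i V_2092
def V_2094 : Q := ed Gen.h V_2093
def V_2095 : Q := ed Gen.d V_2094
def V_2096 : Q := ed Gen.f V_2095
def V_2097 : Q := ed Gen.e V_2096
def V_2098 : Q := ed Gen.d V_2097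
def V_2099 : Q := ed Gen.b V_2098
def V_2100 : Q := ed Gen.c V_2099
def V_2101 : Q := ed Gen.d V_2100
def V_2102 : Q := ed Gen.i V_2101
def V_2103 : Q := ed Gen.h V_2102
def V_2104 : Q := ed Gen.d V_2103
def V_2105 : Q := ed Gen.f V_2104
def V_2106 : Q := ed Gen.e V_2105
def V_2107 : Q := ed Gen.d V_2106
def V_2108 : Q := ed Gen.b V_2107
def V_2109 : Q := ed Gen.c V_2108
def V_2110 : Q := ed Gen.e V_1565
def V_2111 : Q := ed Gen.d V_2110
def V_2112 : Q := ed Gen.b V_2111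
def V_2113 : Q := ed Gen.c V_2112
def V_2114 : Q := ed Gen.h V_2015
def V_2115 : Q := ed Gen.d V_2114
def V_2116 : Q := ed Gen.f V_2115
def V_2117 : Q := ed Gen.e V_2116
def V_2118 : Q := ed Gen.d V_2117
def V_2119 : Q := ed Gen.b V_2118
def V_2120 : Q := ed Gen.c V_2119
def V_2121 : Q := ed Gen.d V_2120
def V_2122 : Q := ed Gen.i V_2121
def V_2123 : Q := ed Gen.h V_2122
def V_2124 : Q := ed Gen.d V_2123
def V_2125 : Q := ed Gen.f V_2124
def V_2126 : Q := ed Gen.e V_2125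
def V_2127 : Q := ed Gen.d V_2126
def V_2128 : Q := ed Gen.b V_2127
def V_2129 : Q := ed Gen.c V_2128
def V_2130 : Q := ed Gen.d V_2129
def V_2131 : Q := ed Gen.i V_2130
def V_2132 : Q := ed Gen.h V_2131
def V_2133 : Q := ed Gen.d V_2132
def V_2134 : Q := ed Gen.f V_2133
def V_2135 : Q := ed Gen.e V_2134
def V_2136 : Q := ed Gen.d V_2135
def V_2137 : Q := ed Gen.b V_2136
def V_2138 : Q := ed Gen.c V_2137
def V_2139 : Q := ed Gen.d V_2138
def V_2140 : Q := ed Gen.i V_2139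
def V_2141 : Q := ed Gen.h V_2140
def V_2142 : Q := ed Gen.d V_2141
def V_2143 : Q := ed Gen.f V_2142
def V_2144 : Q := ed Gen.e V_2143
def V_2145 : Q := ed Gen.d V_2144
def V_2146 : Q := ed Gen.b V_2145
def V_2147 : Q := ed Gen.c V_2146
def V_2148 : Q := ed Gen.d V_2147
def V_2149 : Q := ed Gen.i V_2148
def V_2150 : Q := ed Gen.h V_2149
def V_2151 : Q := ed Gen.d V_2150
def V_2152 : Q := ed Gen.f V_2151
def V_2153 : Q := ed Gen.e V_2152
def V_2154 : Q := ed Gen.d V_2153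
def V_2155 : Q := ed Gen.b V_2154
def V_2156 : Q := ed Gen.c V_2155
def V_2157 : Q := ed Gen.d V_2156
def V_2158 : Q := ed Gen.i V_2157
def V_2159 : Q := ed Gen.h V_2158
def V_2160 : Q := ed Gen.d V_2159
def V_2161 : Q := ed Gen.f V_2160
def V_2162 : Q := ed Gen.e V_2161
def V_2163 : Q := ed Gen.d V_2162
def V_2164 : Q := ed Gen.b V_2163
def V_2165 : Q := ed Gen.c V_2164
def V_2166 : Q := ed Gen.d V_2165
def V_2167 : Q := ed Gen.i V_2166
def V_2168 : Q := ed Gen.h V_2167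
def V_2169 : Q := ed Gen.d V_2168
def V_2170 : Q := ed Gen.f V_2169
def V_2171 : Q := ed Gen.h V_1422
def V_2172 : Q := ed Gen.i V_2171
def V_2173 : Q := ed Gen.d V_2172
def V_2174 : Q := ed Gen.c V_2173
def V_2219 : Q := ed Gen.e V_876
def V_2220 : Q := ed Gen.d V_2219
def V_2221 : Q := ed Gen.f V_819
def V_2222 : Q := ed Gen.b V_1504
def V_2223 : Q := ed Gen.c V_2222
def V_2224 : Q := ed Gen.d V_2223
def V_2225 : Q := ed Gen.i V_2224
def V_2226 : Q := ed Gen.h V_2225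
def V_2227 : Q := ed Gen.d V_2226
def V_2228 : Q := ed Gen.f V_2227
def V_2229 : Q := ed Gen.e V_2228
def V_2230 : Q := ed Gen.d V_2229
def V_2231 : Q := ed Gen.c V_2230
def V_2232 : Q := ed Gen.d V_2231
def V_2233 : Q := ed Gen.i V_2232
def V_2234 : Q := ed Gen.h V_2233
def V_2235 : Q := ed Gen.d V_2234
def V_2236 : Q := ed Gen.f V_2235
def V_2237 : Q := ed Gen.e V_2236
def V_2238 : Q := ed Gen.d V_2237
def V_2239 : Q := ed Gen.b V_2238
def V_2240 : Q := ed Gen.c V_2239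
def V_2241 : Q := ed Gen.d V_2240
def V_2242 : Q := ed Gen.i V_2241
def V_2243 : Q := ed Gen.h V_2242
def V_2244 : Q := ed Gen.d V_2243
def V_2245 : Q := ed Gen.f V_2244
def V_2246 : Q := ed Gen.e V_2245
def V_2247 : Q := ed Gen.d V_2246
def V_2248 : Q := ed Gen.b V_2247
def V_2249 : Q := ed Gen.c V_2248
def V_2250 : Q := ed Gen.d V_2249
def V_2251 : Q := ed Gen.i V_2250
def V_2252 : Q := ed Gen.h V_2251
def V_2253 : Q := ed Gen.d V_2252
def V_2254 : Q := ed Gen.f V_2253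
def V_2255 : Q := ed Gen.e V_2254
def V_2256 : Q := ed Gen.d V_2255
def V_2257 : Q := ed Gen.b V_2256
def V_2258 : Q := ed Gen.c V_2257
def V_2259 : Q := ed Gen.d V_2258
def V_2260 : Q := ed Gen.i V_2259
def V_2261 : Q := ed Gen.h V_2260
def V_2262 : Q := ed Gen.d V_2261
def V_2263 : Q := ed Gen.f V_2262
def V_2264 : Q := ed Gen.e V_2263
def V_2265 : Q := ed Gen.d V_2264
def V_2266 : Q := ed Gen.b V_2265
def V_2267 : Q := ed Gen.c V_2266
def V_2268 : Q := ed Gen.d V_2267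
def V_2269 : Q := ed Gen.i V_2268
def V_2270 : Q := ed Gen.h V_2269
def V_2271 : Q := ed Gen.d V_2270
def V_2272 : Q := ed Gen.f V_2271
def V_2273 : Q := ed Gen.e V_2272
def V_2274 : Q := ed Gen.d V_2273
def V_2275 : Q := ed Gen.b V_2274
def V_2276 : Q := ed Gen.c V_2275
def V_2277 : Q := ed Gen.d V_2276
def V_2278 : Q := ed Gen.i V_2277
def V_2279 : Q := ed Gen.h V_2278
def V_2280 : Q := ed Gen.d V_2279
def V_2281 : Q := ed Gen.f V_2280
def V_2282 : Q := ed Gen.e V_2281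
def V_2283 : Q := ed Gen.d V_2282
def V_2284 : Q := ed Gen.b V_2283
def V_2535 : Q := ed Gen.b V_742
def V_2538 : Q := ed Gen.h V_2535
def V_2539 : Q := ed Gen.h V_2014
def V_2540 : Q := ed Gen.i V_2014
def V_2545 : Q := ed Gen.i V_825
def V_2546 : Q := ed Gen.h V_2545
def V_2547 : Q := ed Gen.d (D.P 568)
def V_2548 : Q := ed Gen.h V_2547
def V_2549 : Q := ed Gen.c V_2548
def V_2550 : Q := ed Gen.d V_2549
def V_2551 : Q := ed Gen.h V_2174
def V_2552 : Q := ed Gen.e V_2551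
def V_2553 : Q := ed Gen.d V_2552
def V_2554 : Q := ed Gen.b V_2553
def V_2555 : Q := ed Gen.c V_2554
def V_2556 : Q := ed Gen.d V_2555
def V_2557 : Q := ed Gen.i V_2556
def V_2558 : Q := ed Gen.h V_2557
def V_2559 : Q := ed Gen.d V_2558
def V_2560 : Q := ed Gen.f V_2559
def V_2561 : Q := ed Gen.e V_2560
def V_2562 : Q := ed Gen.d V_2561
def V_2563 : Q := ed Gen.b V_2562
def V_2564 : Q := ed Gen.c V_2563
def V_2565 : Q := ed Gen.d V_2564
def V_2566 : Q := ed Gen.i V_2565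
def V_2567 : Q := ed Gen.h V_2566
def V_2568 : Q := ed Gen.d V_2567
def V_2569 : Q := ed Gen.f V_2568
def V_2570 : Q := ed Gen.e V_2569
def V_2571 : Q := ed Gen.d V_2570
def V_2572 : Q := ed Gen.b V_2571
def V_2573 : Q := ed Gen.c V_2572
def V_2574 : Q := ed Gen.d V_2573
def V_2575 : Q := ed Gen.i V_2574
def V_2576 : Q := ed Gen.h V_2575
def V_2577 : Q := ed Gen.d V_2576
def V_2578 : Q := ed Gen.f V_2577
def V_2579 : Q := ed Gen.e V_2578
def V_2580 : Q := ed Gen.d V_2579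
def V_2581 : Q := ed Gen.b V_2580
def V_2582 : Q := ed Gen.c V_2581
def V_2583 : Q := ed Gen.d V_2582
def V_2584 : Q := ed Gen.i V_2583
def V_2585 : Q := ed Gen.h V_2584
def V_2586 : Q := ed Gen.d V_2585
def V_2587 : Q := ed Gen.f V_2586
def V_2588 : Q := ed Gen.e V_2587
def V_2589 : Q := ed Gen.d V_2588
def V_2590 : Q := ed Gen.b V_2589
def V_2591 : Q := ed Gen.c V_2590
def V_2592 : Q := ed Gen.d V_2591
def V_2593 : Q := ed Gen.i V_2592
def V_2594 : Q := ed Gen.h V_2593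
def V_2595 : Q := ed Gen.d V_2594
def V_2596 : Q := ed Gen.f V_2595
def V_2597 : Q := ed Gen.e V_2596
def V_2598 : Q := ed Gen.d V_2597
def V_2599 : Q := ed Gen.b V_2598
def V_2600 : Q := ed Gen.c V_2599
def V_2601 : Q := ed Gen.d V_2600
def V_2602 : Q := ed Gen.c V_2598
def V_2603 : Q := ed Gen.d V_2602
def V_2604 : Q := ed Gen.e V_2603
def V_2605 : Q := ed Gen.f V_2604
def V_2606 : Q := ed Gen.d V_2605
def V_2607 : Q := ed Gen.h V_2606
def V_2608 : Q := ed Gen.i V_2607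
def V_2609 : Q := ed Gen.d V_2608
def V_2610 : Q := ed Gen.c V_2609
def V_2611 : Q := ed Gen.b V_2610
def V_2612 : Q := ed Gen.d V_2611
def V_2613 : Q := ed Gen.e V_2612
def V_2614 : Q := ed Gen.f V_2613
def V_2615 : Q := ed Gen.d V_2614
def V_2616 : Q := ed Gen.h V_2615
def V_2617 : Q := ed Gen.i V_2616
def V_2618 : Q := ed Gen.d V_2617
def V_2619 : Q := ed Gen.c V_2618
def V_2620 : Q := ed Gen.b V_2619
def V_2621 : Q := ed Gen.d V_2620
def V_2622 : Q := ed Gen.e V_2621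
def V_2623 : Q := ed Gen.f V_2622
def V_2624 : Q := ed Gen.d V_2623
def V_2625 : Q := ed Gen.h V_2624
def V_2626 : Q := ed Gen.i V_2625
def V_2627 : Q := ed Gen.d V_2626
def V_2628 : Q := ed Gen.c V_2627
def V_2629 : Q := ed Gen.b V_2628
def V_2630 : Q := ed Gen.d V_2629
def V_2631 : Q := ed Gen.e V_2630
def V_2632 : Q := ed Gen.f V_2631
def V_2633 : Q := ed Gen.d V_2632
def V_2634 : Q := ed Gen.h V_2633
def V_2635 : Q := ed Gen.i V_2634
def V_2636 : Q := ed Gen.d V_2635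
def V_2637 : Q := ed Gen.c V_2636
def V_2638 : Q := ed Gen.b V_2637
def V_2639 : Q := ed Gen.d V_2638
def V_2640 : Q := ed Gen.e V_2639
def V_2641 : Q := ed Gen.f V_2640
def V_2642 : Q := ed Gen.d V_2641
def V_2643 : Q := ed Gen.h V_2642
def V_2644 : Q := ed Gen.i V_2643
def V_2645 : Q := ed Gen.d V_2644
def V_2646 : Q := ed Gen.c V_2645
def V_2647 : Q := ed Gen.b V_2646
def V_2648 : Q := ed Gen.d V_2647
def V_2649 : Q := ed Gen.e V_2648
def V_2650 : Q := ed Gen.f V_2649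
def V_2651 : Q := ed Gen.d V_2650
def V_2652 : Q := ed Gen.h V_2651
def V_2653 : Q := ed Gen.i V_2652
def V_2654 : Q := ed Gen.d V_2653
def V_2655 : Q := ed Gen.h (D.P 543)
def V_2656 : Q := ed Gen.d V_2655
def V_2657 : Q := ed Gen.e V_2656
def V_2658 : Q := ed Gen.d V_2657
def V_2659 : Q := ed Gen.b V_2658
def V_2660 : Q := ed Gen.c V_2659
def V_2661 : Q := ed Gen.d V_2660
def V_2662 : Q := ed Gen.i V_2661
def V_2663 : Q := ed Gen.h V_2662
def V_2664 : Q := ed Gen.d V_2663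
def V_2665 : Q := ed Gen.f V_2664
def V_2666 : Q := ed Gen.e V_2665
def V_2667 : Q := ed Gen.d V_2666
def V_2668 : Q := ed Gen.b V_2667
def V_2669 : Q := ed Gen.c V_2668
def V_2670 : Q := ed Gen.d V_2669
def V_2671 : Q := ed Gen.i V_2670
def V_2672 : Q := ed Gen.h V_2671
def V_2673 : Q := ed Gen.d V_2672
def V_2674 : Q := ed Gen.f V_2673
def V_2675 : Q := ed Gen.e V_2674
def V_2676 : Q := ed Gen.d V_2675
def V_2677 : Q := ed Gen.b V_2676
def V_2678 : Q := ed Gen.c V_2677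
def V_2679 : Q := ed Gen.d V_2678
def V_2680 : Q := ed Gen.i V_2679
def V_2681 : Q := ed Gen.h V_2680
def V_2682 : Q := ed Gen.d V_2681
def V_2683 : Q := ed Gen.f V_2682
def V_2684 : Q := ed Gen.e V_2683
def V_2685 : Q := ed Gen.d V_2684
def V_2686 : Q := ed Gen.b V_2685
def V_2687 : Q := ed Gen.c V_2686
def V_2688 : Q := ed Gen.d V_2687
def V_2689 : Q := ed Gen.i V_2688
def V_2690 : Q := ed Gen.h V_2689
def V_2691 : Q := ed Gen.d V_2690
def V_2692 : Q := ed Gen.f V_2691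
def V_2693 : Q := ed Gen.e V_2692
def V_2694 : Q := ed Gen.d V_2693
def V_2695 : Q := ed Gen.b V_2694
def V_2696 : Q := ed Gen.c V_2695
def V_2697 : Q := ed Gen.d V_2696
def V_2698 : Q := ed Gen.i V_2697
def V_2699 : Q := ed Gen.h V_2698
def V_2700 : Q := ed Gen.d V_2699
def V_2701 : Q := ed Gen.f V_2700
def V_2702 : Q := ed Gen.e V_2701
def V_2703 : Q := ed Gen.d V_2702
def V_2704 : Q := ed Gen.b V_2703
def V_2705 : Q := ed Gen.c V_2704
def V_2706 : Q := ed Gen.d V_2705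
def V_2707 : Q := ed Gen.i V_2706
def V_2708 : Q := ed Gen.h V_2707
def V_2709 : Q := ed Gen.d V_2708
def V_2710 : Q := ed Gen.f V_2709
def V_2711 : Q := ed Gen.e V_2710
def V_2712 : Q := ed Gen.d V_2711
def V_2713 : Q := ed Gen.b V_2712
def V_2714 : Q := ed Gen.c V_2713
def V_2715 : Q := ed Gen.d V_2714
def V_2716 : Q := ed Gen.i V_2715
def V_2717 : Q := ed Gen.h V_2716
def V_2718 : Q := ed Gen.d V_2717
def V_2719 : Q := ed Gen.f V_2718
def V_2720 : Q := ed Gen.e V_2719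
def V_2721 : Q := ed Gen.d V_2720
def V_2722 : Q := ed Gen.b V_2721
def V_2723 : Q := ed Gen.c V_2722
def V_2724 : Q := ed Gen.d V_2723
def V_2725 : Q := ed Gen.i V_2724
def V_2726 : Q := ed Gen.h V_2725
def V_2727 : Q := ed Gen.d V_2726
def V_2728 : Q := ed Gen.f V_2727
def V_2729 : Q := ed Gen.e V_2728
def V_2730 : Q := ed Gen.d V_2729
def V_2731 : Q := ed Gen.f V_826
def V_2732 : Q := ed Gen.e V_2731
def V_2733 : Q := ed Gen.d V_2732
def V_2734 : Q := ed Gen.b V_2733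
def V_2735 : Q := ed Gen.c V_2734
def V_2736 : Q := ed Gen.d V_2735
def V_2737 : Q := ed Gen.i V_2736
def V_2738 : Q := ed Gen.h V_2737
def V_2739 : Q := ed Gen.d V_2738
def V_2740 : Q := ed Gen.f V_2739
def V_2741 : Q := ed Gen.e V_2740
def V_2742 : Q := ed Gen.d V_2741
def V_2743 : Q := ed Gen.b V_2742
def V_2744 : Q := ed Gen.c V_2743
def V_2745 : Q := ed Gen.d V_2744
def V_2746 : Q := ed Gen.i V_2745
def V_2747 : Q := ed Gen.h V_2746
def V_2748 : Q := ed Gen.d V_2747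
def V_2749 : Q := ed Gen.f V_2748
def V_2750 : Q := ed Gen.e V_2749
def V_2751 : Q := ed Gen.d V_2750
def V_2752 : Q := ed Gen.b V_2751
def V_2753 : Q := ed Gen.c V_2752
def V_2754 : Q := ed Gen.d V_2753
def V_2755 : Q := ed Gen.i V_2754
def V_2756 : Q := ed Gen.h (D.P 409)
def V_2757 : Q := ed Gen.h (D.P 291)
def V_2758 : Q := ed Gen.h V_2540
def V_2763 : Q := ed Gen.h V_1618
def V_2764 : Q := ed Gen.f V_2646
def V_2765 : Q := ed Gen.e V_2764
def V_2766 : Q := ed Gen.d V_2765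
def V_2767 : Q := ed Gen.b V_2766
def V_2768 : Q := ed Gen.c V_2767
def V_2769 : Q := ed Gen.d V_2768
def V_2770 : Q := ed Gen.h V_2769
def V_2771 : Q := ed Gen.d V_2770
def V_2772 : Q := ed Gen.f V_2771
def V_2773 : Q := ed Gen.e V_2772
def V_2774 : Q := ed Gen.d V_2773
def V_2775 : Q := ed Gen.b V_2774
def V_2776 : Q := ed Gen.c V_2775
def V_2777 : Q := ed Gen.d V_2776
def V_2778 : Q := ed Gen.i V_2777
def V_2779 : Q := ed Gen.h V_2778
def V_2780 : Q := ed Gen.d V_2779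
def V_2781 : Q := ed Gen.f V_2780
def V_2782 : Q := ed Gen.e V_2781
def V_2783 : Q := ed Gen.d V_2782
def V_2784 : Q := ed Gen.b V_2783
def V_2785 : Q := ed Gen.c V_2784
def V_2786 : Q := ed Gen.d V_2785
def V_2787 : Q := ed Gen.i V_2786
def V_2788 : Q := ed Gen.h V_2787
def V_2789 : Q := ed Gen.d V_2788
def V_2790 : Q := ed Gen.f V_2789
def V_2791 : Q := ed Gen.e V_2790
def V_2792 : Q := ed Gen.d V_2791
def V_2793 : Q := ed Gen.b V_2792
def V_2794 : Q := ed Gen.c V_2793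
def V_2795 : Q := ed Gen.d V_2794
def V_2796 : Q := ed Gen.i V_2795
def V_2797 : Q := ed Gen.h V_2796
def V_2798 : Q := ed Gen.d V_2797
def V_2799 : Q := ed Gen.f V_2798
def V_2800 : Q := ed Gen.e V_2799
def V_2801 : Q := ed Gen.d V_2800
def V_2802 : Q := ed Gen.b V_2801
def V_2803 : Q := ed Gen.c V_2802
def V_2804 : Q := ed Gen.d V_2803
def V_2805 : Q := ed Gen.i V_2804
def V_2806 : Q := ed Gen.h V_2805
def V_2807 : Q := ed Gen.d V_2806
def V_2808 : Q := ed Gen.f V_2807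
def V_2809 : Q := ed Gen.e V_2808
def V_2810 : Q := ed Gen.d V_2809
def V_2811 : Q := ed Gen.b V_2810
def V_2812 : Q := ed Gen.c V_2811
def V_2813 : Q := ed Gen.d V_2812
def V_2814 : Q := ed Gen.i V_2813
def V_2815 : Q := ed Gen.h V_2814
def V_2816 : Q := ed Gen.d V_2815
def V_2817 : Q := ed Gen.f V_2816
def V_2818 : Q := ed Gen.e V_2817
def V_2819 : Q := ed Gen.d V_2818
def V_2820 : Q := ed Gen.b V_2819
def V_2821 : Q := ed Gen.c V_2820
def V_2822 : Q := ed Gen.d V_2821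
def V_2823 : Q := ed Gen.i V_2822
def V_2824 : Q := ed Gen.h V_2823
def V_2825 : Q := ed Gen.d V_2824
def V_2826 : Q := ed Gen.f V_2825
def V_2827 : Q := ed Gen.e V_2826
def V_2828 : Q := ed Gen.d V_2827
def V_2829 : Q := ed Gen.b V_2828
def V_2830 : Q := ed Gen.c V_2829
def V_2831 : Q := ed Gen.d V_2830
def V_2832 : Q := ed Gen.i V_2831
def V_2833 : Q := ed Gen.h V_2832
def V_2834 : Q := ed Gen.d V_2833
def V_2835 : Q := ed Gen.f V_2834
def V_2836 : Q := ed Gen.e V_2835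
def V_2837 : Q := ed Gen.d V_2836
def V_2838 : Q := ed Gen.b V_2837
def V_2839 : Q := ed Gen.c V_2838
def V_2840 : Q := ed Gen.d V_2839
def V_2841 : Q := ed Gen.h (D.P 479)
def V_2842 : Q := ed Gen.e V_2840
def V_2843 : Q := ed Gen.d V_2842
def V_2844 : Q := ed Gen.i V_932
def V_2845 : Q := ed Gen.d V_2844
def V_2846 : Q := ed Gen.c V_2845
def V_2847 : Q := ed Gen.b V_2846
def V_2848 : Q := ed Gen.d V_2847
def V_2849 : Q := ed Gen.e V_2848
def V_2850 : Q := ed Gen.f V_2849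
def V_2851 : Q := ed Gen.d V_2850
def V_2852 : Q := ed Gen.h V_2851
def V_2853 : Q := ed Gen.i V_2852
def V_2854 : Q := ed Gen.d V_2853
def V_2855 : Q := ed Gen.c V_2854
def V_2856 : Q := ed Gen.b V_2855
def V_2857 : Q := ed Gen.d V_2856
def V_2858 : Q := ed Gen.e V_2857
def V_2859 : Q := ed Gen.f V_2858
def V_2860 : Q := ed Gen.d V_2859
def V_2861 : Q := ed Gen.h V_2860
def V_2862 : Q := ed Gen.i V_2861
def V_2863 : Q := ed Gen.d V_2862
def V_2864 : Q := ed Gen.c V_2863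
def V_2865 : Q := ed Gen.b V_2864
def V_2866 : Q := ed Gen.d V_2865
def V_2867 : Q := ed Gen.e V_2866
def V_2868 : Q := ed Gen.f V_2867
def V_2869 : Q := ed Gen.d V_2868
def V_2870 : Q := ed Gen.h V_2869
def V_2871 : Q := ed Gen.i V_2870
def V_2872 : Q := ed Gen.d V_2871
def V_2873 : Q := ed Gen.c V_2872
def V_2874 : Q := ed Gen.b V_2873
def V_2875 : Q := ed Gen.d V_2874
def V_2876 : Q := ed Gen.e V_2875
def V_2877 : Q := ed Gen.f V_2876
def V_2878 : Q := ed Gen.d V_2877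
def V_2879 : Q := ed Gen.h V_2878
def V_2880 : Q := ed Gen.i V_2879
def V_2881 : Q := ed Gen.d V_2880
def V_2882 : Q := ed Gen.c V_2881
def V_2883 : Q := ed Gen.b V_2882
def V_2884 : Q := ed Gen.d V_2883
def V_2885 : Q := ed Gen.e V_2884
def V_2886 : Q := ed Gen.f V_2885
def V_2887 : Q := ed Gen.d V_2886
def V_2888 : Q := ed Gen.h V_2887
def V_2889 : Q := ed Gen.i V_2888
def V_2890 : Q := ed Gen.d V_2889
def V_2891 : Q := ed Gen.c V_2890
def V_2892 : Q := ed Gen.b V_2891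
def V_2893 : Q := ed Gen.d V_2892
def V_2894 : Q := ed Gen.e V_2893
def V_2895 : Q := ed Gen.f V_2894
def V_2896 : Q := ed Gen.d V_2895
def V_2897 : Q := ed Gen.h V_2896
def V_2898 : Q := ed Gen.i V_2897
def V_2899 : Q := ed Gen.d V_2898
def V_2900 : Q := ed Gen.c V_2899
def V_2901 : Q := ed Gen.h V_2016
def V_2902 : Q := ed Gen.d V_2901
def V_2903 : Q := ed Gen.d V_2734
def V_2904 : Q := ed Gen.h V_1576
def V_2905 : Q := ed Gen.d V_2904
def V_2906 : Q := ed Gen.f V_2905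
def V_2907 : Q := ed Gen.e V_2906
def V_2952 : Q := ed Gen.d V_2756
def V_2954 : Q := ed Gen.f V_2757
def V_2961 : Q := ed Gen.f V_1614
def V_3027 : Q := ed Gen.e V_2952
def V_3028 : Q := ed Gen.f V_3027
def V_3029 : Q := ed Gen.e V_1463
def V_3030 : Q := ed Gen.f V_3029
def V_3031 : Q := ed Gen.i V_933
def V_3032 : Q := ed Gen.d V_3031
def V_3033 : Q := ed Gen.c V_3032
def V_3034 : Q := ed Gen.b V_3033
def V_3035 : Q := ed Gen.e V_3034
def V_3036 : Q := ed Gen.f V_3035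
def V_3037 : Q := ed Gen.d V_3036
def V_3038 : Q := ed Gen.h V_3037
def V_3039 : Q := ed Gen.i V_3038
def V_3040 : Q := ed Gen.c V_3039
def V_3041 : Q := ed Gen.b V_3040
def V_3042 : Q := ed Gen.d V_3041
def V_3043 : Q := ed Gen.e V_3042
def V_3044 : Q := ed Gen.f V_3043
def V_3045 : Q := ed Gen.d V_3044
def V_3046 : Q := ed Gen.h V_3045
def V_3047 : Q := ed Gen.i V_3046
def V_3048 : Q := ed Gen.d V_3047
def V_3049 : Q := ed Gen.c V_3048
def V_3050 : Q := ed Gen.b V_3049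
def V_3051 : Q := ed Gen.d V_3050
def V_3052 : Q := ed Gen.e V_3051
def V_3053 : Q := ed Gen.f V_3052
def V_3054 : Q := ed Gen.d V_3053
def V_3055 : Q := ed Gen.h V_3054
def V_3056 : Q := ed Gen.i V_3055
def V_3057 : Q := ed Gen.d V_3056
def V_3058 : Q := ed Gen.c V_3057
def V_3059 : Q := ed Gen.b V_3058
def V_3060 : Q := ed Gen.d V_3059
def V_3061 : Q := ed Gen.e V_3060
def V_3062 : Q := ed Gen.f V_3061
def V_3063 : Q := ed Gen.d V_3062
def V_3064 : Q := ed Gen.h V_3063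
def V_3065 : Q := ed Gen.i V_3064
def V_3066 : Q := ed Gen.d V_3065
def V_3067 : Q := ed Gen.c V_3066
def V_3068 : Q := ed Gen.b V_3067
def V_3069 : Q := ed Gen.d V_3068
def V_3070 : Q := ed Gen.e V_3069
def V_3071 : Q := ed Gen.f V_3070
def V_3072 : Q := ed Gen.d V_3071
def V_3073 : Q := ed Gen.h V_3072
def V_3074 : Q := ed Gen.i V_3073
def V_3075 : Q := ed Gen.d V_3074
def V_3076 : Q := ed Gen.c V_3075
def V_3077 : Q := ed Gen.b V_3076
def V_3078 : Q := ed Gen.d V_3077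
def V_3079 : Q := ed Gen.e V_3078
def V_3080 : Q := ed Gen.f V_3079
def V_3081 : Q := ed Gen.d V_3080
def V_3082 : Q := ed Gen.h V_3081
def V_3083 : Q := ed Gen.i V_3082
def V_3084 : Q := ed Gen.d V_3083
def V_3085 : Q := ed Gen.c V_3084
def V_3086 : Q := ed Gen.b V_3085
def V_3087 : Q := ed Gen.d V_3086
def V_3088 : Q := ed Gen.e V_3087
def V_3089 : Q := ed Gen.f V_3088
def V_3090 : Q := ed Gen.d V_3089
def V_3091 : Q := ed Gen.h V_3090
def V_3092 : Q := ed Gen.i V_3091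
def V_3093 : Q := ed Gen.d V_3092
def V_3094 : Q := ed Gen.c V_3093
def V_3095 : Q := ed Gen.b V_3094
def V_3096 : Q := ed Gen.d V_3095
def V_3097 : Q := ed Gen.e V_3096
theorem F_0 (IH : D.IHyp) : ed Gen.c (D.P 157) = V_728 :=
  rfl
theorem F_1 (IH : D.IHyp) : ed Gen.c V_728 = (D.P 157) :=
  flipE D.rels D.S (hinv Gen.c) (F_0 IH)
theorem F_2 (IH : D.IHyp) : ed Gen.b V_728 = V_729 :=
  rfl
theorem F_3 (IH : D.IHyp) : ed Gen.b V_729 = V_728 :=
  flipE D.rels D.S (hinv Gen.b) (F_2 IH)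
theorem F_4 (IH : D.IHyp) : ed Gen.e (D.P 157) = (D.P 157) :=
  D.real_edge' IH Gen.e 157 157 (by decide +kernel)
theorem F_5 (IH : D.IHyp) : ed Gen.e V_728 = V_728 :=
  gap_rel RW_0 (path_edge (F_0 IH) (path_edge (F_4 IH) (path_edge (F_1 IH) (path_nil _))))
theorem F_6 (IH : D.IHyp) : ed Gen.f (D.P 157) = (D.P 157) :=
  D.real_edge' IH Gen.f 157 157 (by decide +kernel)
theorem F_7 (IH : D.IHyp) : ed Gen.f V_728 = V_728 :=
  gap_rel RW_1 (path_edge (F_0 IH) (path_edge (F_6 IH) (path_edge (F_1 IH) (path_nil _))))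
theorem F_9 (IH : D.IHyp) : ed Gen.i (D.P 157) = (D.P 157) :=
  D.real_edge' IH Gen.i 157 157 (by decide +kernel)
theorem F_10 (IH : D.IHyp) : ed Gen.i V_728 = V_728 :=
  gap_rel RW_2 (path_edge (F_0 IH) (path_edge (F_9 IH) (path_edge (F_1 IH) (path_nil _))))
theorem F_14 (IH : D.IHyp) : ed Gen.b (D.P 157) = (D.P 121) :=
  D.real_edge' IH Gen.b 157 121 (by decide +kernel)
theorem F_15 (IH : D.IHyp) : ed Gen.c (D.P 121) = (D.P 121) :=
  D.real_edge' IH Gen.c 121 121 (by decide +kernel)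
theorem F_16 (IH : D.IHyp) : ed Gen.b (D.P 121) = (D.P 157) :=
  D.real_edge' IH Gen.b 121 157 (by decide +kernel)
theorem F_17 (IH : D.IHyp) : ed Gen.c V_729 = (D.P 157) :=
  gap_rel RW_3 (path_edge (F_2 IH) (path_edge (F_0 IH) (path_edge (F_16 IH) (path_edge (F_15 IH) (path_edge (F_14 IH) (path_nil _))))))
theorem F_18 (IH : D.IHyp) : ed Gen.c (D.P 157) = V_729 :=
  flipE D.rels D.S (hinv Gen.c) (F_17 IH)
theorem F_19 (IH : D.IHyp) : V_728 = V_729 :=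
  edge_fun (F_0 IH) (F_18 IH)
theorem F_20 (IH : D.IHyp) : V_729 = V_728 :=
  (F_19 IH).symm
theorem F_21 (IH : D.IHyp) : ed Gen.b V_728 = V_728 :=
  edge_congr (F_3 IH) (F_20 IH)
theorem F_29 (IH : D.IHyp) : ed Gen.d (D.P 157) = (D.P 120) :=
  D.real_edge' IH Gen.d 157 120 (by decide +kernel)
theorem F_30 (IH : D.IHyp) : ed Gen.c (D.P 120) = (D.P 152) :=
  D.real_edge' IH Gen.c 120 152 (by decide +kernel)
theorem F_31 (IH : D.IHyp) : ed Gen.d (D.P 152) = (D.P 199) :=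
  D.real_edge' IH Gen.d 152 199 (by decide +kernel)
theorem F_32 (IH : D.IHyp) : ed Gen.i (D.P 120) = (D.P 120) :=
  D.real_edge' IH Gen.i 120 120 (by decide +kernel)
theorem F_33 (IH : D.IHyp) : ed Gen.h (D.P 120) = (D.P 120) :=
  D.real_edge' IH Gen.h 120 120 (by decide +kernel)
theorem F_34 (IH : D.IHyp) : ed Gen.d (D.P 120) = (D.P 157) :=
  D.real_edge' IH Gen.d 120 157 (by decide +kernel)
theorem F_35 (IH : D.IHyp) : ed Gen.b (D.P 120) = (D.P 92) :=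
  D.real_edge' IH Gen.b 120 92 (by decide +kernel)
theorem F_36 (IH : D.IHyp) : ed Gen.c (D.P 92) = (D.P 69) :=
  D.real_edge' IH Gen.c 92 69 (by decide +kernel)
theorem F_37 (IH : D.IHyp) : ed Gen.d (D.P 69) = (D.P 69) :=
  D.real_edge' IH Gen.d 69 69 (by decide +kernel)
theorem F_38 (IH : D.IHyp) : ed Gen.i (D.P 69) = (D.P 69) :=
  D.real_edge' IH Gen.i 69 69 (by decide +kernel)
theorem F_39 (IH : D.IHyp) : ed Gen.h (D.P 69) = (D.P 69) :=
  D.real_edge' IH Gen.h 69 69 (by decide +kernel)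
theorem F_40 (IH : D.IHyp) : ed Gen.f (D.P 69) = (D.P 69) :=
  D.real_edge' IH Gen.f 69 69 (by decide +kernel)
theorem F_41 (IH : D.IHyp) : ed Gen.e (D.P 69) = (D.P 52) :=
  D.real_edge' IH Gen.e 69 52 (by decide +kernel)
theorem F_42 (IH : D.IHyp) : ed Gen.d (D.P 52) = (D.P 39) :=
  D.real_edge' IH Gen.d 52 39 (by decide +kernel)
theorem F_43 (IH : D.IHyp) : ed Gen.b (D.P 39) = (D.P 49) :=
  D.real_edge' IH Gen.b 39 49 (by decide +kernel)
theorem F_44 (IH : D.IHyp) : ed Gen.c (D.P 49) = (D.P 61) :=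
  D.real_edge' IH Gen.c 49 61 (by decide +kernel)
theorem F_45 (IH : D.IHyp) : ed Gen.d (D.P 61) = (D.P 81) :=
  D.real_edge' IH Gen.d 61 81 (by decide +kernel)
theorem F_46 (IH : D.IHyp) : ed Gen.i (D.P 81) = (D.P 81) :=
  D.real_edge' IH Gen.i 81 81 (by decide +kernel)
theorem F_47 (IH : D.IHyp) : ed Gen.h (D.P 81) = (D.P 102) :=
  D.real_edge' IH Gen.h 81 102 (by decide +kernel)
theorem F_48 (IH : D.IHyp) : ed Gen.d (D.P 102) = (D.P 77) :=
  D.real_edge' IH Gen.d 102 77 (by decide +kernel)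
theorem F_49 (IH : D.IHyp) : ed Gen.f (D.P 77) = (D.P 59) :=
  D.real_edge' IH Gen.f 77 59 (by decide +kernel)
theorem F_50 (IH : D.IHyp) : ed Gen.e (D.P 59) = (D.P 59) :=
  D.real_edge' IH Gen.e 59 59 (by decide +kernel)
theorem F_51 (IH : D.IHyp) : ed Gen.d (D.P 59) = (D.P 79) :=
  D.real_edge' IH Gen.d 59 79 (by decide +kernel)
theorem F_52 (IH : D.IHyp) : ed Gen.b (D.P 79) = (D.P 79) :=
  D.real_edge' IH Gen.b 79 79 (by decide +kernel)
theorem F_53 (IH : D.IHyp) : ed Gen.c (D.P 79) = (D.P 104) :=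
  D.real_edge' IH Gen.c 79 104 (by decide +kernel)
theorem F_54 (IH : D.IHyp) : ed Gen.d (D.P 104) = (D.P 104) :=
  D.real_edge' IH Gen.d 104 104 (by decide +kernel)
theorem F_55 (IH : D.IHyp) : ed Gen.i (D.P 104) = (D.P 136) :=
  D.real_edge' IH Gen.i 104 136 (by decide +kernel)
theorem F_56 (IH : D.IHyp) : ed Gen.h (D.P 136) = (D.P 136) :=
  D.real_edge' IH Gen.h 136 136 (by decide +kernel)
theorem F_57 (IH : D.IHyp) : ed Gen.d (D.P 136) = (D.P 136) :=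
  D.real_edge' IH Gen.d 136 136 (by decide +kernel)
theorem F_58 (IH : D.IHyp) : ed Gen.f (D.P 136) = (D.P 175) :=
  D.real_edge' IH Gen.f 136 175 (by decide +kernel)
theorem F_59 (IH : D.IHyp) : ed Gen.e (D.P 175) = (D.P 228) :=
  D.real_edge' IH Gen.e 175 228 (by decide +kernel)
theorem F_60 (IH : D.IHyp) : ed Gen.d (D.P 228) = (D.P 288) :=
  D.real_edge' IH Gen.d 228 288 (by decide +kernel)
theorem F_61 (IH : D.IHyp) : ed Gen.b (D.P 288) = (D.P 355) :=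
  D.real_edge' IH Gen.b 288 355 (by decide +kernel)
theorem F_62 (IH : D.IHyp) : ed Gen.d (D.P 121) = (D.P 92) :=
  D.real_edge' IH Gen.d 121 92 (by decide +kernel)
theorem F_63 (IH : D.IHyp) : ed Gen.e (D.P 92) = (D.P 68) :=
  D.real_edge' IH Gen.e 92 68 (by decide +kernel)
theorem F_65 (IH : D.IHyp) : ed Gen.d (D.P 53) = (D.P 53) :=
  D.real_edge' IH Gen.d 53 53 (by decide +kernel)
theorem F_66 (IH : D.IHyp) : ed Gen.h (D.P 53) = (D.P 53) :=
  D.real_edge' IH Gen.h 53 53 (by decide +kernel)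
theorem F_67 (IH : D.IHyp) : ed Gen.i (D.P 53) = (D.P 53) :=
  D.real_edge' IH Gen.i 53 53 (by decide +kernel)
theorem F_70 (IH : D.IHyp) : ed Gen.d (D.P 50) = (D.P 37) :=
  D.real_edge' IH Gen.d 50 37 (by decide +kernel)
theorem F_72 (IH : D.IHyp) : ed Gen.f (D.P 27) = (D.P 27) :=
  D.real_edge' IH Gen.f 27 27 (by decide +kernel)
theorem F_73 (IH : D.IHyp) : ed Gen.d (D.P 27) = (D.P 27) :=
  D.real_edge' IH Gen.d 27 27 (by decide +kernel)
theorem F_75 (IH : D.IHyp) : ed Gen.i (D.P 19) = (D.P 13) :=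
  D.real_edge' IH Gen.i 19 13 (by decide +kernel)
theorem F_76 (IH : D.IHyp) : ed Gen.d (D.P 13) = (D.P 10) :=
  D.real_edge' IH Gen.d 13 10 (by decide +kernel)
theorem F_77 (IH : D.IHyp) : ed Gen.c (D.P 10) = (D.P 10) :=
  D.real_edge' IH Gen.c 10 10 (by decide +kernel)
theorem F_82 (IH : D.IHyp) : ed Gen.d (D.P 20) = (D.P 20) :=
  D.real_edge' IH Gen.d 20 20 (by decide +kernel)
theorem F_83 (IH : D.IHyp) : ed Gen.h (D.P 20) = (D.P 20) :=
  D.real_edge' IH Gen.h 20 20 (by decide +kernel)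
theorem F_85 (IH : D.IHyp) : ed Gen.d (D.P 29) = (D.P 29) :=
  D.real_edge' IH Gen.d 29 29 (by decide +kernel)
theorem F_86 (IH : D.IHyp) : ed Gen.c (D.P 29) = (D.P 29) :=
  D.real_edge' IH Gen.c 29 29 (by decide +kernel)
theorem F_88 (IH : D.IHyp) : ed Gen.d (D.P 36) = (D.P 36) :=
  D.real_edge' IH Gen.d 36 36 (by decide +kernel)
theorem F_89 (IH : D.IHyp) : ed Gen.e (D.P 36) = (D.P 36) :=
  D.real_edge' IH Gen.e 36 36 (by decide +kernel)
theorem F_91 (IH : D.IHyp) : ed Gen.d (D.P 26) = (D.P 26) :=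
  D.real_edge' IH Gen.d 26 26 (by decide +kernel)
theorem F_93 (IH : D.IHyp) : ed Gen.i (D.P 37) = (D.P 37) :=
  D.real_edge' IH Gen.i 37 37 (by decide +kernel)
theorem F_94 (IH : D.IHyp) : ed Gen.d (D.P 37) = (D.P 50) :=
  D.real_edge' IH Gen.d 37 50 (by decide +kernel)
theorem F_100 (IH : D.IHyp) : ed Gen.d (D.P 194) = (D.P 194) :=
  D.real_edge' IH Gen.d 194 194 (by decide +kernel)
theorem F_105 (IH : D.IHyp) : ed Gen.b (D.P 436) = (D.P 436) :=
  D.real_edge' IH Gen.b 436 436 (by decide +kernel)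
theorem F_106 (IH : D.IHyp) : ed Gen.d (D.P 436) = (D.P 436) :=
  D.real_edge' IH Gen.d 436 436 (by decide +kernel)
theorem F_108 (IH : D.IHyp) : ed Gen.f (D.P 504) = (D.P 504) :=
  D.real_edge' IH Gen.f 504 504 (by decide +kernel)
theorem F_109 (IH : D.IHyp) : ed Gen.d (D.P 504) = (D.P 566) :=
  D.real_edge' IH Gen.d 504 566 (by decide +kernel)
theorem F_110 (IH : D.IHyp) : ed Gen.d V_728 = V_730 :=
  rfl
theorem F_111 (IH : D.IHyp) : ed Gen.d V_730 = V_728 :=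
  flipE D.rels D.S (hinv Gen.d) (F_110 IH)
theorem F_112 (IH : D.IHyp) : ed Gen.b V_730 = V_730 :=
  gap_rel RW_4 (path_edge (F_110 IH) (path_edge (F_21 IH) (path_edge (F_111 IH) (path_nil _))))
theorem F_113 (IH : D.IHyp) : ed Gen.f V_730 = V_730 :=
  gap_rel RW_5 (path_edge (F_110 IH) (path_edge (F_7 IH) (path_edge (F_111 IH) (path_nil _))))
theorem F_114 (IH : D.IHyp) : ed Gen.i V_730 = V_730 :=
  gap_rel RW_6 (path_edge (F_110 IH) (path_edge (F_10 IH) (path_edge (F_111 IH) (path_nil _))))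
theorem F_115 (IH : D.IHyp) : ed Gen.c (D.P 199) = V_730 :=
  gap_rel RW_7 (path_edge (F_31 IH) (path_edge (F_30 IH) (path_edge (F_29 IH) (path_edge (F_1 IH) (path_edge (F_111 IH) (path_nil _))))))
theorem F_116 (IH : D.IHyp) : ed Gen.c V_730 = (D.P 199) :=
  flipE D.rels D.S (hinv Gen.c) (F_115 IH)
theorem F_117 (IH : D.IHyp) : ed Gen.d (D.P 199) = (D.P 152) :=
  D.real_edge' IH Gen.d 199 152 (by decide +kernel)
theorem F_118 (IH : D.IHyp) : ed Gen.c (D.P 152) = (D.P 120) :=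
  D.real_edge' IH Gen.c 152 120 (by decide +kernel)
theorem F_119 (IH : D.IHyp) : ed Gen.i (D.P 152) = (D.P 152) :=
  D.real_edge' IH Gen.i 152 152 (by decide +kernel)
theorem F_120 (IH : D.IHyp) : ed Gen.h (D.P 152) = (D.P 152) :=
  D.real_edge' IH Gen.h 152 152 (by decide +kernel)
theorem F_121 (IH : D.IHyp) : ed Gen.f (D.P 199) = (D.P 199) :=
  D.real_edge' IH Gen.f 199 199 (by decide +kernel)
theorem F_122 (IH : D.IHyp) : ed Gen.e (D.P 199) = (D.P 246) :=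
  D.real_edge' IH Gen.e 199 246 (by decide +kernel)
theorem F_123 (IH : D.IHyp) : ed Gen.d (D.P 246) = (D.P 190) :=
  D.real_edge' IH Gen.d 246 190 (by decide +kernel)
theorem F_126 (IH : D.IHyp) : ed Gen.d (D.P 108) = (D.P 108) :=
  D.real_edge' IH Gen.d 108 108 (by decide +kernel)
theorem F_127 (IH : D.IHyp) : ed Gen.i (D.P 108) = (D.P 108) :=
  D.real_edge' IH Gen.i 108 108 (by decide +kernel)
theorem F_130 (IH : D.IHyp) : ed Gen.f (D.P 171) = (D.P 221) :=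
  D.real_edge' IH Gen.f 171 221 (by decide +kernel)
theorem F_131 (IH : D.IHyp) : ed Gen.e (D.P 221) = (D.P 221) :=
  D.real_edge' IH Gen.e 221 221 (by decide +kernel)
theorem F_132 (IH : D.IHyp) : ed Gen.d (D.P 221) = (D.P 179) :=
  D.real_edge' IH Gen.d 221 179 (by decide +kernel)
theorem F_133 (IH : D.IHyp) : ed Gen.b (D.P 179) = (D.P 179) :=
  D.real_edge' IH Gen.b 179 179 (by decide +kernel)
theorem F_137 (IH : D.IHyp) : ed Gen.h (D.P 357) = (D.P 430) :=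
  D.real_edge' IH Gen.h 357 430 (by decide +kernel)
theorem F_138 (IH : D.IHyp) : ed Gen.d (D.P 430) = (D.P 430) :=
  D.real_edge' IH Gen.d 430 430 (by decide +kernel)
theorem F_139 (IH : D.IHyp) : ed Gen.f (D.P 430) = (D.P 358) :=
  D.real_edge' IH Gen.f 430 358 (by decide +kernel)
theorem F_140 (IH : D.IHyp) : ed Gen.e (D.P 358) = (D.P 358) :=
  D.real_edge' IH Gen.e 358 358 (by decide +kernel)
theorem F_141 (IH : D.IHyp) : ed Gen.d (D.P 358) = (D.P 358) :=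
  D.real_edge' IH Gen.d 358 358 (by decide +kernel)
theorem F_142 (IH : D.IHyp) : ed Gen.b (D.P 199) = (D.P 153) :=
  D.real_edge' IH Gen.b 199 153 (by decide +kernel)
theorem F_143 (IH : D.IHyp) : ed Gen.d (D.P 153) = (D.P 116) :=
  D.real_edge' IH Gen.d 153 116 (by decide +kernel)
theorem F_146 (IH : D.IHyp) : ed Gen.d (D.P 66) = (D.P 82) :=
  D.real_edge' IH Gen.d 66 82 (by decide +kernel)
theorem F_149 (IH : D.IHyp) : ed Gen.b (D.P 103) = (D.P 103) :=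
  D.real_edge' IH Gen.b 103 103 (by decide +kernel)
theorem F_151 (IH : D.IHyp) : ed Gen.e (D.P 78) = (D.P 78) :=
  D.real_edge' IH Gen.e 78 78 (by decide +kernel)
theorem F_153 (IH : D.IHyp) : ed Gen.d (D.P 101) = (D.P 133) :=
  D.real_edge' IH Gen.d 101 133 (by decide +kernel)
theorem F_154 (IH : D.IHyp) : ed Gen.h (D.P 133) = (D.P 133) :=
  D.real_edge' IH Gen.h 133 133 (by decide +kernel)
theorem F_156 (IH : D.IHyp) : ed Gen.c (D.P 77) = (D.P 77) :=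
  D.real_edge' IH Gen.c 77 77 (by decide +kernel)
theorem F_157 (IH : D.IHyp) : ed Gen.b (D.P 77) = (D.P 77) :=
  D.real_edge' IH Gen.b 77 77 (by decide +kernel)
theorem F_158 (IH : D.IHyp) : ed Gen.d (D.P 77) = (D.P 102) :=
  D.real_edge' IH Gen.d 77 102 (by decide +kernel)
theorem F_161 (IH : D.IHyp) : ed Gen.d (D.P 179) = (D.P 221) :=
  D.real_edge' IH Gen.d 179 221 (by decide +kernel)
theorem F_162 (IH : D.IHyp) : ed Gen.h (D.P 221) = (D.P 221) :=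
  D.real_edge' IH Gen.h 221 221 (by decide +kernel)
theorem F_167 (IH : D.IHyp) : ed Gen.d (D.P 356) = (D.P 426) :=
  D.real_edge' IH Gen.d 356 426 (by decide +kernel)
theorem F_169 (IH : D.IHyp) : ed Gen.f (D.P 496) = (D.P 496) :=
  D.real_edge' IH Gen.f 496 496 (by decide +kernel)
theorem F_170 (IH : D.IHyp) : ed Gen.d (D.P 496) = (D.P 438) :=
  D.real_edge' IH Gen.d 496 438 (by decide +kernel)
theorem F_172 (IH : D.IHyp) : ed Gen.i (D.P 509) = (D.P 509) :=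
  D.real_edge' IH Gen.i 509 509 (by decide +kernel)
theorem F_177 (IH : D.IHyp) : ed Gen.b (D.P 153) = (D.P 199) :=
  D.real_edge' IH Gen.b 153 199 (by decide +kernel)
theorem F_178 (IH : D.IHyp) : ed Gen.b (D.P 116) = (D.P 152) :=
  D.real_edge' IH Gen.b 116 152 (by decide +kernel)
theorem F_180 (IH : D.IHyp) : ed Gen.b (D.P 191) = (D.P 246) :=
  D.real_edge' IH Gen.b 191 246 (by decide +kernel)
theorem F_181 (IH : D.IHyp) : ed Gen.e (D.P 246) = (D.P 199) :=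
  D.real_edge' IH Gen.e 246 199 (by decide +kernel)
theorem F_186 (IH : D.IHyp) : ed Gen.h (D.P 153) = (D.P 200) :=
  D.real_edge' IH Gen.h 153 200 (by decide +kernel)
theorem F_188 (IH : D.IHyp) : ed Gen.b (D.P 152) = (D.P 116) :=
  D.real_edge' IH Gen.b 152 116 (by decide +kernel)
theorem F_189 (IH : D.IHyp) : ed Gen.d (D.P 116) = (D.P 153) :=
  D.real_edge' IH Gen.d 116 153 (by decide +kernel)
theorem F_193 (IH : D.IHyp) : ed Gen.b (D.P 246) = (D.P 191) :=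
  D.real_edge' IH Gen.b 246 191 (by decide +kernel)
theorem F_194 (IH : D.IHyp) : ed Gen.e (D.P 191) = (D.P 153) :=
  D.real_edge' IH Gen.e 191 153 (by decide +kernel)
theorem F_206 (IH : D.IHyp) : ed Gen.d (D.P 115) = (D.P 143) :=
  D.real_edge' IH Gen.d 115 143 (by decide +kernel)
theorem F_208 (IH : D.IHyp) : ed Gen.d (D.P 190) = (D.P 246) :=
  D.real_edge' IH Gen.d 190 246 (by decide +kernel)
theorem F_213 (IH : D.IHyp) : ed Gen.e (D.P 311) = (D.P 311) :=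
  D.real_edge' IH Gen.e 311 311 (by decide +kernel)
theorem F_214 (IH : D.IHyp) : ed Gen.f (D.P 311) = (D.P 246) :=
  D.real_edge' IH Gen.f 311 246 (by decide +kernel)
theorem F_221 (IH : D.IHyp) : ed Gen.b (D.P 144) = (D.P 190) :=
  D.real_edge' IH Gen.b 144 190 (by decide +kernel)
theorem F_240 (IH : D.IHyp) : ed Gen.c (D.P 116) = (D.P 87) :=
  D.real_edge' IH Gen.c 116 87 (by decide +kernel)
theorem F_241 (IH : D.IHyp) : ed Gen.d (D.P 87) = (D.P 87) :=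
  D.real_edge' IH Gen.d 87 87 (by decide +kernel)
theorem F_242 (IH : D.IHyp) : ed Gen.i (D.P 87) = (D.P 87) :=
  D.real_edge' IH Gen.i 87 87 (by decide +kernel)
theorem F_243 (IH : D.IHyp) : ed Gen.h (D.P 87) = (D.P 87) :=
  D.real_edge' IH Gen.h 87 87 (by decide +kernel)
theorem F_244 (IH : D.IHyp) : ed Gen.f (D.P 87) = (D.P 87) :=
  D.real_edge' IH Gen.f 87 87 (by decide +kernel)
theorem F_245 (IH : D.IHyp) : ed Gen.e (D.P 87) = (D.P 65) :=
  D.real_edge' IH Gen.e 87 65 (by decide +kernel)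
theorem F_246 (IH : D.IHyp) : ed Gen.d (D.P 65) = (D.P 49) :=
  D.real_edge' IH Gen.d 65 49 (by decide +kernel)
theorem F_247 (IH : D.IHyp) : ed Gen.b (D.P 49) = (D.P 39) :=
  D.real_edge' IH Gen.b 49 39 (by decide +kernel)
theorem F_248 (IH : D.IHyp) : ed Gen.c (D.P 39) = (D.P 39) :=
  D.real_edge' IH Gen.c 39 39 (by decide +kernel)
theorem F_249 (IH : D.IHyp) : ed Gen.d (D.P 39) = (D.P 52) :=
  D.real_edge' IH Gen.d 39 52 (by decide +kernel)
theorem F_250 (IH : D.IHyp) : ed Gen.i (D.P 52) = (D.P 52) :=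
  D.real_edge' IH Gen.i 52 52 (by decide +kernel)
theorem F_251 (IH : D.IHyp) : ed Gen.h (D.P 52) = (D.P 52) :=
  D.real_edge' IH Gen.h 52 52 (by decide +kernel)
theorem F_252 (IH : D.IHyp) : ed Gen.f (D.P 39) = (D.P 30) :=
  D.real_edge' IH Gen.f 39 30 (by decide +kernel)
theorem F_253 (IH : D.IHyp) : ed Gen.e (D.P 30) = (D.P 22) :=
  D.real_edge' IH Gen.e 30 22 (by decide +kernel)
theorem F_254 (IH : D.IHyp) : ed Gen.d (D.P 22) = (D.P 22) :=
  D.real_edge' IH Gen.d 22 22 (by decide +kernel)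
theorem F_255 (IH : D.IHyp) : ed Gen.b (D.P 22) = (D.P 27) :=
  D.real_edge' IH Gen.b 22 27 (by decide +kernel)
theorem F_256 (IH : D.IHyp) : ed Gen.c (D.P 27) = (D.P 34) :=
  D.real_edge' IH Gen.c 27 34 (by decide +kernel)
theorem F_257 (IH : D.IHyp) : ed Gen.d (D.P 34) = (D.P 47) :=
  D.real_edge' IH Gen.d 34 47 (by decide +kernel)
theorem F_258 (IH : D.IHyp) : ed Gen.i (D.P 47) = (D.P 47) :=
  D.real_edge' IH Gen.i 47 47 (by decide +kernel)
theorem F_259 (IH : D.IHyp) : ed Gen.h (D.P 47) = (D.P 47) :=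
  D.real_edge' IH Gen.h 47 47 (by decide +kernel)
theorem F_260 (IH : D.IHyp) : ed Gen.d (D.P 47) = (D.P 34) :=
  D.real_edge' IH Gen.d 47 34 (by decide +kernel)
theorem F_261 (IH : D.IHyp) : ed Gen.f (D.P 34) = (D.P 34) :=
  D.real_edge' IH Gen.f 34 34 (by decide +kernel)
theorem F_262 (IH : D.IHyp) : ed Gen.e (D.P 34) = (D.P 46) :=
  D.real_edge' IH Gen.e 34 46 (by decide +kernel)
theorem F_263 (IH : D.IHyp) : ed Gen.d (D.P 46) = (D.P 62) :=
  D.real_edge' IH Gen.d 46 62 (by decide +kernel)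
theorem F_264 (IH : D.IHyp) : ed Gen.b (D.P 62) = (D.P 62) :=
  D.real_edge' IH Gen.b 62 62 (by decide +kernel)
theorem F_265 (IH : D.IHyp) : ed Gen.c (D.P 62) = (D.P 82) :=
  D.real_edge' IH Gen.c 62 82 (by decide +kernel)
theorem F_266 (IH : D.IHyp) : ed Gen.d (D.P 82) = (D.P 66) :=
  D.real_edge' IH Gen.d 82 66 (by decide +kernel)
theorem F_267 (IH : D.IHyp) : ed Gen.i (D.P 66) = (D.P 66) :=
  D.real_edge' IH Gen.i 66 66 (by decide +kernel)
theorem F_268 (IH : D.IHyp) : ed Gen.h (D.P 66) = (D.P 66) :=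
  D.real_edge' IH Gen.h 66 66 (by decide +kernel)
theorem F_269 (IH : D.IHyp) : ed Gen.f (D.P 82) = (D.P 107) :=
  D.real_edge' IH Gen.f 82 107 (by decide +kernel)
theorem F_270 (IH : D.IHyp) : ed Gen.e (D.P 107) = (D.P 144) :=
  D.real_edge' IH Gen.e 107 144 (by decide +kernel)
theorem F_271 (IH : D.IHyp) : ed Gen.d (D.P 144) = (D.P 191) :=
  D.real_edge' IH Gen.d 144 191 (by decide +kernel)
theorem F_275 (IH : D.IHyp) : ed Gen.d (D.P 92) = (D.P 121) :=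
  D.real_edge' IH Gen.d 92 121 (by decide +kernel)
theorem F_280 (IH : D.IHyp) : ed Gen.e (D.P 120) = (D.P 91) :=
  D.real_edge' IH Gen.e 120 91 (by decide +kernel)
theorem F_286 (IH : D.IHyp) : ed Gen.b (D.P 88) = (D.P 66) :=
  D.real_edge' IH Gen.b 88 66 (by decide +kernel)
theorem F_294 (IH : D.IHyp) : ed Gen.d (D.P 366) = (D.P 297) :=
  D.real_edge' IH Gen.d 366 297 (by decide +kernel)
theorem F_297 (IH : D.IHyp) : ed Gen.d (D.P 287) = (D.P 355) :=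
  D.real_edge' IH Gen.d 287 355 (by decide +kernel)
theorem F_303 (IH : D.IHyp) : ed Gen.d (D.P 45) = (D.P 57) :=
  D.real_edge' IH Gen.d 45 57 (by decide +kernel)
theorem F_320 (IH : D.IHyp) : ed Gen.d (D.P 40) = (D.P 30) :=
  D.real_edge' IH Gen.d 40 30 (by decide +kernel)
theorem F_328 (IH : D.IHyp) : ed Gen.d (D.P 98) = (D.P 130) :=
  D.real_edge' IH Gen.d 98 130 (by decide +kernel)
theorem F_460 (IH : D.IHyp) : ed Gen.h V_728 = V_732 :=
  rfl
theorem F_461 (IH : D.IHyp) : ed Gen.h V_732 = V_728 :=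
  flipE D.rels D.S (hinv Gen.h) (F_460 IH)
theorem F_462 (IH : D.IHyp) : ed Gen.b V_732 = V_732 :=
  gap_rel RW_8 (path_edge (F_460 IH) (path_edge (F_21 IH) (path_edge (F_461 IH) (path_nil _))))
theorem F_463 (IH : D.IHyp) : ed Gen.e V_732 = V_732 :=
  gap_rel RW_9 (path_edge (F_460 IH) (path_edge (F_5 IH) (path_edge (F_461 IH) (path_nil _))))
theorem F_464 (IH : D.IHyp) : ed Gen.f V_732 = V_732 :=
  gap_rel RW_10 (path_edge (F_460 IH) (path_edge (F_7 IH) (path_edge (F_461 IH) (path_nil _))))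
theorem F_465 (IH : D.IHyp) : ed Gen.h (D.P 157) = V_733 :=
  rfl
theorem F_466 (IH : D.IHyp) : ed Gen.h V_733 = (D.P 157) :=
  flipE D.rels D.S (hinv Gen.h) (F_465 IH)
theorem F_468 (IH : D.IHyp) : ed Gen.h (D.P 121) = (D.P 158) :=
  D.real_edge' IH Gen.h 121 158 (by decide +kernel)
theorem F_469 (IH : D.IHyp) : ed Gen.b (D.P 158) = V_733 :=
  gap_rel RW_8 (path_edge (F_468 IH) (path_edge (F_14 IH) (path_edge (F_466 IH) (path_nil _))))
theorem F_470 (IH : D.IHyp) : ed Gen.b V_733 = (D.P 158) :=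
  flipE D.rels D.S (hinv Gen.b) (F_469 IH)
theorem F_472 (IH : D.IHyp) : ed Gen.c V_732 = V_733 :=
  gap_rel RW_11 (path_edge (F_460 IH) (path_edge (F_0 IH) (path_edge (F_466 IH) (path_nil _))))
theorem F_473 (IH : D.IHyp) : ed Gen.c V_733 = V_732 :=
  flipE D.rels D.S (hinv Gen.c) (F_472 IH)
theorem F_474 (IH : D.IHyp) : ed Gen.f (D.P 120) = (D.P 120) :=
  D.real_edge' IH Gen.f 120 120 (by decide +kernel)
theorem F_475 (IH : D.IHyp) : ed Gen.e V_733 = V_733 :=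
  gap_rel RW_9 (path_edge (F_465 IH) (path_edge (F_4 IH) (path_edge (F_466 IH) (path_nil _))))
theorem F_476 (IH : D.IHyp) : ed Gen.f V_733 = V_733 :=
  gap_rel RW_10 (path_edge (F_465 IH) (path_edge (F_6 IH) (path_edge (F_466 IH) (path_nil _))))
theorem F_477 (IH : D.IHyp) : ed Gen.h (D.P 158) = (D.P 121) :=
  D.real_edge' IH Gen.h 158 121 (by decide +kernel)
theorem F_478 (IH : D.IHyp) : ed Gen.d (D.P 91) = (D.P 91) :=
  D.real_edge' IH Gen.d 91 91 (by decide +kernel)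
theorem F_480 (IH : D.IHyp) : ed Gen.d V_733 = V_733 :=
  gap_rel RW_12 (path_edge (F_465 IH) (path_edge (F_34 IH) (path_edge (F_33 IH) (path_edge (F_29 IH) (path_edge (F_466 IH) (path_nil _))))))
theorem F_487 (IH : D.IHyp) : ed Gen.c (D.P 158) = (D.P 158) :=
  D.real_edge' IH Gen.c 158 158 (by decide +kernel)
theorem F_488 (IH : D.IHyp) : ed Gen.d (D.P 158) = (D.P 158) :=
  D.real_edge' IH Gen.d 158 158 (by decide +kernel)
theorem F_489 (IH : D.IHyp) : ed Gen.b (D.P 91) = (D.P 68) :=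
  D.real_edge' IH Gen.b 91 68 (by decide +kernel)
theorem F_490 (IH : D.IHyp) : ed Gen.c (D.P 68) = (D.P 52) :=
  D.real_edge' IH Gen.c 68 52 (by decide +kernel)
theorem F_491 (IH : D.IHyp) : ed Gen.i (D.P 39) = (D.P 39) :=
  D.real_edge' IH Gen.i 39 39 (by decide +kernel)
theorem F_492 (IH : D.IHyp) : ed Gen.h (D.P 39) = (D.P 29) :=
  D.real_edge' IH Gen.h 39 29 (by decide +kernel)
theorem F_493 (IH : D.IHyp) : ed Gen.f (D.P 29) = (D.P 21) :=
  D.real_edge' IH Gen.f 29 21 (by decide +kernel)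
theorem F_494 (IH : D.IHyp) : ed Gen.e (D.P 21) = (D.P 16) :=
  D.real_edge' IH Gen.e 21 16 (by decide +kernel)
theorem F_495 (IH : D.IHyp) : ed Gen.d (D.P 16) = (D.P 12) :=
  D.real_edge' IH Gen.d 16 12 (by decide +kernel)
theorem F_496 (IH : D.IHyp) : ed Gen.b (D.P 12) = (D.P 14) :=
  D.real_edge' IH Gen.b 12 14 (by decide +kernel)
theorem F_497 (IH : D.IHyp) : ed Gen.c (D.P 14) = (D.P 14) :=
  D.real_edge' IH Gen.c 14 14 (by decide +kernel)
theorem F_498 (IH : D.IHyp) : ed Gen.d (D.P 14) = (D.P 19) :=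
  D.real_edge' IH Gen.d 14 19 (by decide +kernel)
theorem F_499 (IH : D.IHyp) : ed Gen.h (D.P 13) = (D.P 13) :=
  D.real_edge' IH Gen.h 13 13 (by decide +kernel)
theorem F_500 (IH : D.IHyp) : ed Gen.f (D.P 10) = (D.P 10) :=
  D.real_edge' IH Gen.f 10 10 (by decide +kernel)
theorem F_501 (IH : D.IHyp) : ed Gen.e (D.P 10) = (D.P 10) :=
  D.real_edge' IH Gen.e 10 10 (by decide +kernel)
theorem F_502 (IH : D.IHyp) : ed Gen.d (D.P 10) = (D.P 13) :=
  D.real_edge' IH Gen.d 10 13 (by decide +kernel)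
theorem F_503 (IH : D.IHyp) : ed Gen.b (D.P 13) = (D.P 11) :=
  D.real_edge' IH Gen.b 13 11 (by decide +kernel)
theorem F_504 (IH : D.IHyp) : ed Gen.c (D.P 11) = (D.P 11) :=
  D.real_edge' IH Gen.c 11 11 (by decide +kernel)
theorem F_505 (IH : D.IHyp) : ed Gen.d (D.P 11) = (D.P 8) :=
  D.real_edge' IH Gen.d 11 8 (by decide +kernel)
theorem F_506 (IH : D.IHyp) : ed Gen.i (D.P 8) = (D.P 12) :=
  D.real_edge' IH Gen.i 8 12 (by decide +kernel)
theorem F_507 (IH : D.IHyp) : ed Gen.h (D.P 12) = (D.P 12) :=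
  D.real_edge' IH Gen.h 12 12 (by decide +kernel)
theorem F_508 (IH : D.IHyp) : ed Gen.d (D.P 12) = (D.P 16) :=
  D.real_edge' IH Gen.d 12 16 (by decide +kernel)
theorem F_509 (IH : D.IHyp) : ed Gen.f (D.P 16) = (D.P 16) :=
  D.real_edge' IH Gen.f 16 16 (by decide +kernel)
theorem F_510 (IH : D.IHyp) : ed Gen.e (D.P 16) = (D.P 21) :=
  D.real_edge' IH Gen.e 16 21 (by decide +kernel)
theorem F_511 (IH : D.IHyp) : ed Gen.d (D.P 21) = (D.P 21) :=
  D.real_edge' IH Gen.d 21 21 (by decide +kernel)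
theorem F_512 (IH : D.IHyp) : ed Gen.b (D.P 21) = (D.P 26) :=
  D.real_edge' IH Gen.b 21 26 (by decide +kernel)
theorem F_513 (IH : D.IHyp) : ed Gen.c (D.P 26) = (D.P 33) :=
  D.real_edge' IH Gen.c 26 33 (by decide +kernel)
theorem F_514 (IH : D.IHyp) : ed Gen.d (D.P 33) = (D.P 43) :=
  D.real_edge' IH Gen.d 33 43 (by decide +kernel)
theorem F_515 (IH : D.IHyp) : ed Gen.i (D.P 43) = (D.P 31) :=
  D.real_edge' IH Gen.i 43 31 (by decide +kernel)
theorem F_516 (IH : D.IHyp) : ed Gen.h (D.P 31) = (D.P 42) :=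
  D.real_edge' IH Gen.h 31 42 (by decide +kernel)
theorem F_517 (IH : D.IHyp) : ed Gen.d (D.P 42) = (D.P 42) :=
  D.real_edge' IH Gen.d 42 42 (by decide +kernel)
theorem F_518 (IH : D.IHyp) : ed Gen.f (D.P 42) = (D.P 56) :=
  D.real_edge' IH Gen.f 42 56 (by decide +kernel)
theorem F_519 (IH : D.IHyp) : ed Gen.e (D.P 56) = (D.P 72) :=
  D.real_edge' IH Gen.e 56 72 (by decide +kernel)
theorem F_520 (IH : D.IHyp) : ed Gen.d (D.P 72) = (D.P 96) :=
  D.real_edge' IH Gen.d 72 96 (by decide +kernel)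
theorem F_521 (IH : D.IHyp) : ed Gen.b (D.P 96) = (D.P 96) :=
  D.real_edge' IH Gen.b 96 96 (by decide +kernel)
theorem F_522 (IH : D.IHyp) : ed Gen.c (D.P 96) = (D.P 127) :=
  D.real_edge' IH Gen.c 96 127 (by decide +kernel)
theorem F_523 (IH : D.IHyp) : ed Gen.d (D.P 127) = (D.P 127) :=
  D.real_edge' IH Gen.d 127 127 (by decide +kernel)
theorem F_524 (IH : D.IHyp) : ed Gen.i (D.P 127) = (D.P 167) :=
  D.real_edge' IH Gen.i 127 167 (by decide +kernel)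
theorem F_530 (IH : D.IHyp) : ed Gen.h (D.P 37) = (D.P 26) :=
  D.real_edge' IH Gen.h 37 26 (by decide +kernel)
theorem F_546 (IH : D.IHyp) : ed Gen.d (D.P 78) = (D.P 103) :=
  D.real_edge' IH Gen.d 78 103 (by decide +kernel)
theorem F_547 (IH : D.IHyp) : ed Gen.c (D.P 103) = (D.P 136) :=
  D.real_edge' IH Gen.c 103 136 (by decide +kernel)
theorem F_564 (IH : D.IHyp) : ed Gen.f (D.P 92) = (D.P 92) :=
  D.real_edge' IH Gen.f 92 92 (by decide +kernel)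
theorem F_565 (IH : D.IHyp) : ed Gen.d (D.P 68) = (D.P 68) :=
  D.real_edge' IH Gen.d 68 68 (by decide +kernel)
theorem F_566 (IH : D.IHyp) : ed Gen.b (D.P 68) = (D.P 91) :=
  D.real_edge' IH Gen.b 68 91 (by decide +kernel)
theorem F_567 (IH : D.IHyp) : ed Gen.c (D.P 91) = (D.P 115) :=
  D.real_edge' IH Gen.c 91 115 (by decide +kernel)
theorem F_568 (IH : D.IHyp) : ed Gen.i (D.P 143) = (D.P 143) :=
  D.real_edge' IH Gen.i 143 143 (by decide +kernel)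
theorem F_569 (IH : D.IHyp) : ed Gen.h (D.P 143) = (D.P 177) :=
  D.real_edge' IH Gen.h 143 177 (by decide +kernel)
theorem F_570 (IH : D.IHyp) : ed Gen.d (D.P 177) = (D.P 177) :=
  D.real_edge' IH Gen.d 177 177 (by decide +kernel)
theorem F_571 (IH : D.IHyp) : ed Gen.f (D.P 177) = (D.P 138) :=
  D.real_edge' IH Gen.f 177 138 (by decide +kernel)
theorem F_572 (IH : D.IHyp) : ed Gen.e (D.P 138) = (D.P 183) :=
  D.real_edge' IH Gen.e 138 183 (by decide +kernel)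
theorem F_573 (IH : D.IHyp) : ed Gen.d (D.P 183) = (D.P 238) :=
  D.real_edge' IH Gen.d 183 238 (by decide +kernel)
theorem F_574 (IH : D.IHyp) : ed Gen.b (D.P 238) = (D.P 184) :=
  D.real_edge' IH Gen.b 238 184 (by decide +kernel)
theorem F_575 (IH : D.IHyp) : ed Gen.c (D.P 184) = (D.P 184) :=
  D.real_edge' IH Gen.c 184 184 (by decide +kernel)
theorem F_576 (IH : D.IHyp) : ed Gen.d (D.P 184) = (D.P 139) :=
  D.real_edge' IH Gen.d 184 139 (by decide +kernel)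
theorem F_577 (IH : D.IHyp) : ed Gen.i (D.P 139) = (D.P 181) :=
  D.real_edge' IH Gen.i 139 181 (by decide +kernel)
theorem F_578 (IH : D.IHyp) : ed Gen.h (D.P 181) = (D.P 181) :=
  D.real_edge' IH Gen.h 181 181 (by decide +kernel)
theorem F_579 (IH : D.IHyp) : ed Gen.d (D.P 181) = (D.P 235) :=
  D.real_edge' IH Gen.d 181 235 (by decide +kernel)
theorem F_580 (IH : D.IHyp) : ed Gen.f (D.P 235) = (D.P 298) :=
  D.real_edge' IH Gen.f 235 298 (by decide +kernel)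
theorem F_581 (IH : D.IHyp) : ed Gen.e (D.P 298) = (D.P 369) :=
  D.real_edge' IH Gen.e 298 369 (by decide +kernel)
theorem F_582 (IH : D.IHyp) : ed Gen.d (D.P 369) = (D.P 428) :=
  D.real_edge' IH Gen.d 369 428 (by decide +kernel)
theorem F_583 (IH : D.IHyp) : ed Gen.b (D.P 428) = (D.P 496) :=
  D.real_edge' IH Gen.b 428 496 (by decide +kernel)
theorem F_711 (IH : D.IHyp) : ed Gen.e V_730 = V_736 :=
  rfl
theorem F_712 (IH : D.IHyp) : ed Gen.e V_736 = V_730 :=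
  flipE D.rels D.S (hinv Gen.e) (F_711 IH)
theorem F_713 (IH : D.IHyp) : ed Gen.b V_736 = V_736 :=
  gap_rel RW_13 (path_edge (F_711 IH) (path_edge (F_112 IH) (path_edge (F_712 IH) (path_nil _))))
theorem F_714 (IH : D.IHyp) : ed Gen.c (D.P 246) = V_736 :=
  gap_rel RW_14 (path_edge (F_122 IH) (path_edge (F_116 IH) (path_edge (F_712 IH) (path_nil _))))
theorem F_716 (IH : D.IHyp) : ed Gen.i V_736 = V_736 :=
  gap_rel RW_15 (path_edge (F_711 IH) (path_edge (F_114 IH) (path_edge (F_712 IH) (path_nil _))))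
theorem F_717 (IH : D.IHyp) : ed Gen.d V_736 = V_736 :=
  gap_rel RW_16 (path_edge (F_711 IH) (path_edge (F_110 IH) (path_edge (F_5 IH) (path_edge (F_111 IH) (path_edge (F_712 IH) (path_nil _))))))
theorem F_718 (IH : D.IHyp) : ed Gen.i (D.P 190) = (D.P 190) :=
  D.real_edge' IH Gen.i 190 190 (by decide +kernel)
theorem F_719 (IH : D.IHyp) : ed Gen.h (D.P 190) = (D.P 230) :=
  D.real_edge' IH Gen.h 190 230 (by decide +kernel)
theorem F_720 (IH : D.IHyp) : ed Gen.d (D.P 230) = (D.P 291) :=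
  D.real_edge' IH Gen.d 230 291 (by decide +kernel)
theorem F_721 (IH : D.IHyp) : ed Gen.f (D.P 291) = (D.P 360) :=
  D.real_edge' IH Gen.f 291 360 (by decide +kernel)
theorem F_725 (IH : D.IHyp) : ed Gen.c (D.P 304) = (D.P 304) :=
  D.real_edge' IH Gen.c 304 304 (by decide +kernel)
theorem F_726 (IH : D.IHyp) : ed Gen.d (D.P 304) = (D.P 362) :=
  D.real_edge' IH Gen.d 304 362 (by decide +kernel)
theorem F_727 (IH : D.IHyp) : ed Gen.i (D.P 362) = (D.P 428) :=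
  D.real_edge' IH Gen.i 362 428 (by decide +kernel)
theorem F_728 (IH : D.IHyp) : ed Gen.h (D.P 428) = (D.P 499) :=
  D.real_edge' IH Gen.h 428 499 (by decide +kernel)
theorem F_729 (IH : D.IHyp) : ed Gen.d (D.P 499) = (D.P 563) :=
  D.real_edge' IH Gen.d 499 563 (by decide +kernel)
theorem F_730 (IH : D.IHyp) : ed Gen.f (D.P 563) = (D.P 563) :=
  D.real_edge' IH Gen.f 563 563 (by decide +kernel)
theorem F_731 (IH : D.IHyp) : ed Gen.e (D.P 563) = (D.P 563) :=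
  D.real_edge' IH Gen.e 563 563 (by decide +kernel)
theorem F_732 (IH : D.IHyp) : ed Gen.d (D.P 563) = (D.P 499) :=
  D.real_edge' IH Gen.d 563 499 (by decide +kernel)
theorem F_748 (IH : D.IHyp) : ed Gen.h (D.P 191) = (D.P 249) :=
  D.real_edge' IH Gen.h 191 249 (by decide +kernel)
theorem F_751 (IH : D.IHyp) : ed Gen.d (D.P 247) = (D.P 311) :=
  D.real_edge' IH Gen.d 247 311 (by decide +kernel)
theorem F_754 (IH : D.IHyp) : ed Gen.f (D.P 248) = (D.P 191) :=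
  D.real_edge' IH Gen.f 248 191 (by decide +kernel)
theorem F_770 (IH : D.IHyp) : ed Gen.d (D.P 362) = (D.P 304) :=
  D.real_edge' IH Gen.d 362 304 (by decide +kernel)
theorem F_771 (IH : D.IHyp) : ed Gen.b (D.P 304) = (D.P 373) :=
  D.real_edge' IH Gen.b 304 373 (by decide +kernel)
theorem F_776 (IH : D.IHyp) : ed Gen.d (D.P 109) = (D.P 88) :=
  D.real_edge' IH Gen.d 109 88 (by decide +kernel)
theorem F_782 (IH : D.IHyp) : ed Gen.f (D.P 66) = (D.P 86) :=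
  D.real_edge' IH Gen.f 66 86 (by decide +kernel)
theorem F_789 (IH : D.IHyp) : ed Gen.d (D.P 133) = (D.P 101) :=
  D.real_edge' IH Gen.d 133 101 (by decide +kernel)
theorem F_794 (IH : D.IHyp) : ed Gen.i (D.P 216) = (D.P 216) :=
  D.real_edge' IH Gen.i 216 216 (by decide +kernel)
theorem F_795 (IH : D.IHyp) : ed Gen.d (D.P 216) = (D.P 168) :=
  D.real_edge' IH Gen.d 216 168 (by decide +kernel)
theorem F_821 (IH : D.IHyp) : ed Gen.b (D.P 291) = (D.P 231) :=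
  D.real_edge' IH Gen.b 291 231 (by decide +kernel)
theorem F_825 (IH : D.IHyp) : ed Gen.i (D.P 230) = (D.P 287) :=
  D.real_edge' IH Gen.i 230 287 (by decide +kernel)
theorem F_828 (IH : D.IHyp) : ed Gen.d (D.P 145) = (D.P 145) :=
  D.real_edge' IH Gen.d 145 145 (by decide +kernel)
theorem F_829 (IH : D.IHyp) : ed Gen.i (D.P 145) = (D.P 145) :=
  D.real_edge' IH Gen.i 145 145 (by decide +kernel)
theorem F_831 (IH : D.IHyp) : ed Gen.f (D.P 221) = (D.P 171) :=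
  D.real_edge' IH Gen.f 221 171 (by decide +kernel)
theorem F_833 (IH : D.IHyp) : ed Gen.d (D.P 130) = (D.P 98) :=
  D.real_edge' IH Gen.d 130 98 (by decide +kernel)
theorem F_834 (IH : D.IHyp) : ed Gen.b (D.P 98) = (D.P 98) :=
  D.real_edge' IH Gen.b 98 98 (by decide +kernel)
theorem F_835 (IH : D.IHyp) : ed Gen.c (D.P 98) = (D.P 98) :=
  D.real_edge' IH Gen.c 98 98 (by decide +kernel)
theorem F_837 (IH : D.IHyp) : ed Gen.f (D.P 168) = (D.P 168) :=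
  D.real_edge' IH Gen.f 168 168 (by decide +kernel)
theorem F_838 (IH : D.IHyp) : ed Gen.e (D.P 168) = (D.P 168) :=
  D.real_edge' IH Gen.e 168 168 (by decide +kernel)
theorem F_839 (IH : D.IHyp) : ed Gen.d (D.P 168) = (D.P 216) :=
  D.real_edge' IH Gen.d 168 216 (by decide +kernel)
theorem F_840 (IH : D.IHyp) : ed Gen.b (D.P 216) = (D.P 216) :=
  D.real_edge' IH Gen.b 216 216 (by decide +kernel)
theorem F_841 (IH : D.IHyp) : ed Gen.h V_730 = V_737 :=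
  rfl
theorem F_842 (IH : D.IHyp) : ed Gen.h V_737 = V_730 :=
  flipE D.rels D.S (hinv Gen.h) (F_841 IH)
theorem F_843 (IH : D.IHyp) : ed Gen.b V_737 = V_737 :=
  gap_rel RW_8 (path_edge (F_841 IH) (path_edge (F_112 IH) (path_edge (F_842 IH) (path_nil _))))
theorem F_844 (IH : D.IHyp) : ed Gen.f V_737 = V_737 :=
  gap_rel RW_10 (path_edge (F_841 IH) (path_edge (F_113 IH) (path_edge (F_842 IH) (path_nil _))))
theorem F_845 (IH : D.IHyp) : ed Gen.d V_737 = V_738 :=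
  rfl
theorem F_846 (IH : D.IHyp) : ed Gen.d V_738 = V_737 :=
  flipE D.rels D.S (hinv Gen.d) (F_845 IH)
theorem F_847 (IH : D.IHyp) : ed Gen.b V_738 = V_738 :=
  gap_rel RW_4 (path_edge (F_845 IH) (path_edge (F_843 IH) (path_edge (F_846 IH) (path_nil _))))
theorem F_848 (IH : D.IHyp) : ed Gen.f V_738 = V_738 :=
  gap_rel RW_5 (path_edge (F_845 IH) (path_edge (F_844 IH) (path_edge (F_846 IH) (path_nil _))))
theorem F_849 (IH : D.IHyp) : ed Gen.h V_738 = V_739 :=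
  rfl
theorem F_850 (IH : D.IHyp) : ed Gen.h V_739 = V_738 :=
  flipE D.rels D.S (hinv Gen.h) (F_849 IH)
theorem F_851 (IH : D.IHyp) : ed Gen.b V_739 = V_739 :=
  gap_rel RW_8 (path_edge (F_849 IH) (path_edge (F_847 IH) (path_edge (F_850 IH) (path_nil _))))
theorem F_852 (IH : D.IHyp) : ed Gen.f V_739 = V_739 :=
  gap_rel RW_10 (path_edge (F_849 IH) (path_edge (F_848 IH) (path_edge (F_850 IH) (path_nil _))))
theorem F_853 (IH : D.IHyp) : ed Gen.d V_732 = V_739 :=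
  gap_rel RW_12 (path_edge (F_460 IH) (path_edge (F_111 IH) (path_edge (F_842 IH) (path_edge (F_846 IH) (path_edge (F_850 IH) (path_nil _))))))
theorem F_854 (IH : D.IHyp) : ed Gen.d V_739 = V_732 :=
  flipE D.rels D.S (hinv Gen.d) (F_853 IH)
theorem F_855 (IH : D.IHyp) : ed Gen.c V_739 = V_739 :=
  gap_rel RW_7 (path_edge (F_853 IH) (path_edge (F_473 IH) (path_edge (F_480 IH) (path_edge (F_472 IH) (path_edge (F_854 IH) (path_nil _))))))
theorem F_856 (IH : D.IHyp) : ed Gen.c V_738 = V_738 :=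
  gap_rel RW_11 (path_edge (F_850 IH) (path_edge (F_855 IH) (path_edge (F_849 IH) (path_nil _))))
theorem F_914 (IH : D.IHyp) : ed Gen.i V_732 = V_741 :=
  rfl
theorem F_915 (IH : D.IHyp) : ed Gen.i V_741 = V_732 :=
  flipE D.rels D.S (hinv Gen.i) (F_914 IH)
theorem F_916 (IH : D.IHyp) : ed Gen.b V_741 = V_741 :=
  gap_rel RW_17 (path_edge (F_914 IH) (path_edge (F_462 IH) (path_edge (F_915 IH) (path_nil _))))
theorem F_917 (IH : D.IHyp) : ed Gen.e V_741 = V_741 :=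
  gap_rel RW_18 (path_edge (F_914 IH) (path_edge (F_463 IH) (path_edge (F_915 IH) (path_nil _))))
theorem F_918 (IH : D.IHyp) : ed Gen.f V_741 = V_741 :=
  gap_rel RW_19 (path_edge (F_914 IH) (path_edge (F_464 IH) (path_edge (F_915 IH) (path_nil _))))
theorem F_919 (IH : D.IHyp) : ed Gen.h V_741 = V_741 :=
  gap_rel RW_20 (path_edge (F_914 IH) (path_edge (F_460 IH) (path_edge (F_10 IH) (path_edge (F_461 IH) (path_edge (F_915 IH) (path_nil _))))))
theorem F_920 (IH : D.IHyp) : ed Gen.c (D.P 355) = V_742 :=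
  rfl
theorem F_921 (IH : D.IHyp) : ed Gen.c V_742 = (D.P 355) :=
  flipE D.rels D.S (hinv Gen.c) (F_920 IH)
theorem F_922 (IH : D.IHyp) : ed Gen.b (D.P 355) = (D.P 288) :=
  D.real_edge' IH Gen.b 355 288 (by decide +kernel)
theorem F_926 (IH : D.IHyp) : ed Gen.e (D.P 355) = (D.P 355) :=
  D.real_edge' IH Gen.e 355 355 (by decide +kernel)
theorem F_928 (IH : D.IHyp) : ed Gen.b (D.P 357) = (D.P 426) :=
  D.real_edge' IH Gen.b 357 426 (by decide +kernel)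
theorem F_929 (IH : D.IHyp) : ed Gen.f (D.P 426) = (D.P 355) :=
  D.real_edge' IH Gen.f 426 355 (by decide +kernel)
theorem F_933 (IH : D.IHyp) : ed Gen.h (D.P 288) = (D.P 358) :=
  D.real_edge' IH Gen.h 288 358 (by decide +kernel)
theorem F_935 (IH : D.IHyp) : ed Gen.b (D.P 231) = (D.P 291) :=
  D.real_edge' IH Gen.b 231 291 (by decide +kernel)
theorem F_937 (IH : D.IHyp) : ed Gen.e V_742 = V_742 :=
  gap_rel RW_0 (path_edge (F_920 IH) (path_edge (F_926 IH) (path_edge (F_921 IH) (path_nil _))))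
theorem F_938 (IH : D.IHyp) : ed Gen.f (D.P 355) = (D.P 426) :=
  D.real_edge' IH Gen.f 355 426 (by decide +kernel)
theorem F_940 (IH : D.IHyp) : ed Gen.i (D.P 355) = (D.P 291) :=
  D.real_edge' IH Gen.i 355 291 (by decide +kernel)
theorem F_941 (IH : D.IHyp) : ed Gen.d (D.P 355) = (D.P 287) :=
  D.real_edge' IH Gen.d 355 287 (by decide +kernel)
theorem F_943 (IH : D.IHyp) : ed Gen.f (D.P 287) = (D.P 356) :=
  D.real_edge' IH Gen.f 287 356 (by decide +kernel)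
theorem F_946 (IH : D.IHyp) : ed Gen.i (D.P 287) = (D.P 230) :=
  D.real_edge' IH Gen.i 287 230 (by decide +kernel)
theorem F_948 (IH : D.IHyp) : ed Gen.e (D.P 291) = (D.P 291) :=
  D.real_edge' IH Gen.e 291 291 (by decide +kernel)
theorem F_951 (IH : D.IHyp) : ed Gen.d (D.P 426) = (D.P 356) :=
  D.real_edge' IH Gen.d 426 356 (by decide +kernel)
theorem F_953 (IH : D.IHyp) : ed Gen.f (D.P 360) = (D.P 291) :=
  D.real_edge' IH Gen.f 360 291 (by decide +kernel)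
theorem F_961 (IH : D.IHyp) : ed Gen.d (D.P 291) = (D.P 230) :=
  D.real_edge' IH Gen.d 291 230 (by decide +kernel)
theorem F_966 (IH : D.IHyp) : ed Gen.c (D.P 287) = (D.P 287) :=
  D.real_edge' IH Gen.c 287 287 (by decide +kernel)
theorem F_967 (IH : D.IHyp) : ed Gen.d V_742 = V_742 :=
  gap_rel RW_21 (path_edge (F_920 IH) (path_edge (F_297 IH) (path_edge (F_966 IH) (path_edge (F_941 IH) (path_edge (F_921 IH) (path_nil _))))))
theorem F_969 (IH : D.IHyp) : ed Gen.d (D.P 227) = (D.P 227) :=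
  D.real_edge' IH Gen.d 227 227 (by decide +kernel)
theorem F_970 (IH : D.IHyp) : ed Gen.e (D.P 227) = (D.P 287) :=
  D.real_edge' IH Gen.e 227 287 (by decide +kernel)
theorem F_971 (IH : D.IHyp) : ed Gen.h (D.P 287) = (D.P 287) :=
  D.real_edge' IH Gen.h 287 287 (by decide +kernel)
theorem F_972 (IH : D.IHyp) : ed Gen.e (D.P 496) = (D.P 426) :=
  D.real_edge' IH Gen.e 496 426 (by decide +kernel)
theorem F_981 (IH : D.IHyp) : ed Gen.d (D.P 338) = (D.P 274) :=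
  D.real_edge' IH Gen.d 338 274 (by decide +kernel)
theorem F_984 (IH : D.IHyp) : ed Gen.d (D.P 220) = (D.P 277) :=
  D.real_edge' IH Gen.d 220 277 (by decide +kernel)
theorem F_988 (IH : D.IHyp) : ed Gen.b (D.P 413) = (D.P 480) :=
  D.real_edge' IH Gen.b 413 480 (by decide +kernel)
theorem F_1010 (IH : D.IHyp) : ed Gen.d (D.P 273) = (D.P 273) :=
  D.real_edge' IH Gen.d 273 273 (by decide +kernel)
theorem F_1013 (IH : D.IHyp) : ed Gen.i (D.P 136) = (D.P 104) :=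
  D.real_edge' IH Gen.i 136 104 (by decide +kernel)
theorem F_1019 (IH : D.IHyp) : ed Gen.h (D.P 230) = (D.P 190) :=
  D.real_edge' IH Gen.h 230 190 (by decide +kernel)
theorem F_1021 (IH : D.IHyp) : ed Gen.i (D.P 218) = (D.P 171) :=
  D.real_edge' IH Gen.i 218 171 (by decide +kernel)
theorem F_1023 (IH : D.IHyp) : ed Gen.d (D.P 171) = (D.P 135) :=
  D.real_edge' IH Gen.d 171 135 (by decide +kernel)
theorem F_1040 (IH : D.IHyp) : ed Gen.i (D.P 356) = (D.P 292) :=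
  D.real_edge' IH Gen.i 356 292 (by decide +kernel)
theorem F_1042 (IH : D.IHyp) : ed Gen.d (D.P 357) = (D.P 289) :=
  D.real_edge' IH Gen.d 357 289 (by decide +kernel)
theorem F_1044 (IH : D.IHyp) : ed Gen.i (D.P 289) = (D.P 232) :=
  D.real_edge' IH Gen.i 289 232 (by decide +kernel)
theorem F_1046 (IH : D.IHyp) : ed Gen.b (D.P 343) = (D.P 410) :=
  D.real_edge' IH Gen.b 343 410 (by decide +kernel)
theorem F_1049 (IH : D.IHyp) : ed Gen.f (D.P 342) = (D.P 276) :=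
  D.real_edge' IH Gen.f 342 276 (by decide +kernel)
theorem F_1050 (IH : D.IHyp) : ed Gen.d (D.P 276) = (D.P 341) :=
  D.real_edge' IH Gen.d 276 341 (by decide +kernel)
theorem F_1051 (IH : D.IHyp) : ed Gen.h (D.P 341) = (D.P 411) :=
  D.real_edge' IH Gen.h 341 411 (by decide +kernel)
theorem F_1061 (IH : D.IHyp) : ed Gen.c (D.P 369) = (D.P 369) :=
  D.real_edge' IH Gen.c 369 369 (by decide +kernel)
theorem F_1062 (IH : D.IHyp) : ed Gen.i (D.P 428) = (D.P 362) :=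
  D.real_edge' IH Gen.i 428 362 (by decide +kernel)
theorem F_1064 (IH : D.IHyp) : ed Gen.d (D.P 434) = (D.P 434) :=
  D.real_edge' IH Gen.d 434 434 (by decide +kernel)
theorem F_1065 (IH : D.IHyp) : ed Gen.f (D.P 434) = (D.P 434) :=
  D.real_edge' IH Gen.f 434 434 (by decide +kernel)
theorem F_1066 (IH : D.IHyp) : ed Gen.e (D.P 434) = (D.P 364) :=
  D.real_edge' IH Gen.e 434 364 (by decide +kernel)
theorem F_1067 (IH : D.IHyp) : ed Gen.d (D.P 364) = (D.P 314) :=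
  D.real_edge' IH Gen.d 364 314 (by decide +kernel)
theorem F_1071 (IH : D.IHyp) : ed Gen.d (D.P 293) = (D.P 232) :=
  D.real_edge' IH Gen.d 293 232 (by decide +kernel)
theorem F_1072 (IH : D.IHyp) : ed Gen.h (D.P 232) = (D.P 192) :=
  D.real_edge' IH Gen.h 232 192 (by decide +kernel)
theorem F_1074 (IH : D.IHyp) : ed Gen.d (D.P 192) = (D.P 248) :=
  D.real_edge' IH Gen.d 192 248 (by decide +kernel)
theorem F_1076 (IH : D.IHyp) : ed Gen.f (D.P 194) = (D.P 146) :=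
  D.real_edge' IH Gen.f 194 146 (by decide +kernel)
theorem F_1092 (IH : D.IHyp) : ed Gen.i V_742 = V_743 :=
  rfl
theorem F_1093 (IH : D.IHyp) : ed Gen.i V_743 = V_742 :=
  flipE D.rels D.S (hinv Gen.i) (F_1092 IH)
theorem F_1094 (IH : D.IHyp) : ed Gen.c (D.P 291) = V_743 :=
  gap_rel RW_22 (path_edge (F_940 IH) (path_edge (F_921 IH) (path_edge (F_1093 IH) (path_nil _))))
theorem F_1095 (IH : D.IHyp) : ed Gen.c V_743 = (D.P 291) :=
  flipE D.rels D.S (hinv Gen.c) (F_1094 IH)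
theorem F_1096 (IH : D.IHyp) : ed Gen.d V_743 = V_743 :=
  gap_rel RW_23 (path_edge (F_1092 IH) (path_edge (F_967 IH) (path_edge (F_1093 IH) (path_nil _))))
theorem F_1097 (IH : D.IHyp) : ed Gen.e V_743 = V_743 :=
  gap_rel RW_18 (path_edge (F_1092 IH) (path_edge (F_937 IH) (path_edge (F_1093 IH) (path_nil _))))
theorem F_1098 (IH : D.IHyp) : ed Gen.d (D.P 231) = (D.P 178) :=
  D.real_edge' IH Gen.d 231 178 (by decide +kernel)
theorem F_1099 (IH : D.IHyp) : ed Gen.e (D.P 178) = (D.P 134) :=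
  D.real_edge' IH Gen.e 178 134 (by decide +kernel)
theorem F_1100 (IH : D.IHyp) : ed Gen.f (D.P 134) = (D.P 104) :=
  D.real_edge' IH Gen.f 134 104 (by decide +kernel)
theorem F_1101 (IH : D.IHyp) : ed Gen.h (D.P 104) = (D.P 82) :=
  D.real_edge' IH Gen.h 104 82 (by decide +kernel)
theorem F_1102 (IH : D.IHyp) : ed Gen.i (D.P 82) = (D.P 82) :=
  D.real_edge' IH Gen.i 82 82 (by decide +kernel)
theorem F_1103 (IH : D.IHyp) : ed Gen.c (D.P 66) = (D.P 50) :=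
  D.real_edge' IH Gen.c 66 50 (by decide +kernel)
theorem F_1104 (IH : D.IHyp) : ed Gen.b (D.P 50) = (D.P 40) :=
  D.real_edge' IH Gen.b 50 40 (by decide +kernel)
theorem F_1105 (IH : D.IHyp) : ed Gen.f (D.P 22) = (D.P 22) :=
  D.real_edge' IH Gen.f 22 22 (by decide +kernel)
theorem F_1106 (IH : D.IHyp) : ed Gen.h (D.P 22) = (D.P 16) :=
  D.real_edge' IH Gen.h 22 16 (by decide +kernel)
theorem F_1107 (IH : D.IHyp) : ed Gen.i (D.P 16) = (D.P 11) :=
  D.real_edge' IH Gen.i 16 11 (by decide +kernel)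
theorem F_1108 (IH : D.IHyp) : ed Gen.c (D.P 8) = (D.P 6) :=
  D.real_edge' IH Gen.c 8 6 (by decide +kernel)
theorem F_1109 (IH : D.IHyp) : ed Gen.b (D.P 6) = (D.P 6) :=
  D.real_edge' IH Gen.b 6 6 (by decide +kernel)
theorem F_1110 (IH : D.IHyp) : ed Gen.d (D.P 6) = (D.P 6) :=
  D.real_edge' IH Gen.d 6 6 (by decide +kernel)
theorem F_1111 (IH : D.IHyp) : ed Gen.e (D.P 6) = (D.P 6) :=
  D.real_edge' IH Gen.e 6 6 (by decide +kernel)
theorem F_1112 (IH : D.IHyp) : ed Gen.f (D.P 6) = (D.P 6) :=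
  D.real_edge' IH Gen.f 6 6 (by decide +kernel)
theorem F_1113 (IH : D.IHyp) : ed Gen.h (D.P 6) = (D.P 4) :=
  D.real_edge' IH Gen.h 6 4 (by decide +kernel)
theorem F_1114 (IH : D.IHyp) : ed Gen.i (D.P 4) = (D.P 4) :=
  D.real_edge' IH Gen.i 4 4 (by decide +kernel)
theorem F_1115 (IH : D.IHyp) : ed Gen.d (D.P 4) = (D.P 3) :=
  D.real_edge' IH Gen.d 4 3 (by decide +kernel)
theorem F_1116 (IH : D.IHyp) : ed Gen.c (D.P 3) = (D.P 3) :=
  D.real_edge' IH Gen.c 3 3 (by decide +kernel)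
theorem F_1117 (IH : D.IHyp) : ed Gen.b (D.P 3) = (D.P 3) :=
  D.real_edge' IH Gen.b 3 3 (by decide +kernel)
theorem F_1118 (IH : D.IHyp) : ed Gen.d (D.P 3) = (D.P 4) :=
  D.real_edge' IH Gen.d 3 4 (by decide +kernel)
theorem F_1119 (IH : D.IHyp) : ed Gen.e (D.P 4) = (D.P 4) :=
  D.real_edge' IH Gen.e 4 4 (by decide +kernel)
theorem F_1120 (IH : D.IHyp) : ed Gen.f (D.P 4) = (D.P 4) :=
  D.real_edge' IH Gen.f 4 4 (by decide +kernel)
theorem F_1121 (IH : D.IHyp) : ed Gen.h (D.P 3) = (D.P 3) :=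
  D.real_edge' IH Gen.h 3 3 (by decide +kernel)
theorem F_1122 (IH : D.IHyp) : ed Gen.i (D.P 3) = (D.P 3) :=
  D.real_edge' IH Gen.i 3 3 (by decide +kernel)
theorem F_1123 (IH : D.IHyp) : ed Gen.c (D.P 4) = (D.P 5) :=
  D.real_edge' IH Gen.c 4 5 (by decide +kernel)
theorem F_1124 (IH : D.IHyp) : ed Gen.b (D.P 5) = (D.P 7) :=
  D.real_edge' IH Gen.b 5 7 (by decide +kernel)
theorem F_1125 (IH : D.IHyp) : ed Gen.d (D.P 7) = (D.P 7) :=
  D.real_edge' IH Gen.d 7 7 (by decide +kernel)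
theorem F_1126 (IH : D.IHyp) : ed Gen.e (D.P 7) = (D.P 7) :=
  D.real_edge' IH Gen.e 7 7 (by decide +kernel)
theorem F_1127 (IH : D.IHyp) : ed Gen.f (D.P 7) = (D.P 7) :=
  D.real_edge' IH Gen.f 7 7 (by decide +kernel)
theorem F_1128 (IH : D.IHyp) : ed Gen.h (D.P 7) = (D.P 10) :=
  D.real_edge' IH Gen.h 7 10 (by decide +kernel)
theorem F_1129 (IH : D.IHyp) : ed Gen.i (D.P 10) = (D.P 14) :=
  D.real_edge' IH Gen.i 10 14 (by decide +kernel)
theorem F_1130 (IH : D.IHyp) : ed Gen.c (D.P 19) = (D.P 24) :=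
  D.real_edge' IH Gen.c 19 24 (by decide +kernel)
theorem F_1131 (IH : D.IHyp) : ed Gen.b (D.P 24) = (D.P 24) :=
  D.real_edge' IH Gen.b 24 24 (by decide +kernel)
theorem F_1132 (IH : D.IHyp) : ed Gen.d (D.P 24) = (D.P 24) :=
  D.real_edge' IH Gen.d 24 24 (by decide +kernel)
theorem F_1133 (IH : D.IHyp) : ed Gen.e (D.P 24) = (D.P 33) :=
  D.real_edge' IH Gen.e 24 33 (by decide +kernel)
theorem F_1134 (IH : D.IHyp) : ed Gen.f (D.P 33) = (D.P 45) :=
  D.real_edge' IH Gen.f 33 45 (by decide +kernel)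
theorem F_1135 (IH : D.IHyp) : ed Gen.h (D.P 57) = (D.P 77) :=
  D.real_edge' IH Gen.h 57 77 (by decide +kernel)
theorem F_1136 (IH : D.IHyp) : ed Gen.i (D.P 77) = (D.P 101) :=
  D.real_edge' IH Gen.i 77 101 (by decide +kernel)
theorem F_1137 (IH : D.IHyp) : ed Gen.c (D.P 133) = (D.P 175) :=
  D.real_edge' IH Gen.c 133 175 (by decide +kernel)
theorem F_1138 (IH : D.IHyp) : ed Gen.b (D.P 175) = (D.P 227) :=
  D.real_edge' IH Gen.b 175 227 (by decide +kernel)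
theorem F_1140 (IH : D.IHyp) : ed Gen.c (D.P 341) = (D.P 409) :=
  D.real_edge' IH Gen.c 341 409 (by decide +kernel)
theorem F_1141 (IH : D.IHyp) : ed Gen.c (D.P 409) = (D.P 341) :=
  D.real_edge' IH Gen.c 409 341 (by decide +kernel)
theorem F_1142 (IH : D.IHyp) : ed Gen.b (D.P 341) = (D.P 277) :=
  D.real_edge' IH Gen.b 341 277 (by decide +kernel)
theorem F_1143 (IH : D.IHyp) : ed Gen.c (D.P 277) = (D.P 231) :=
  D.real_edge' IH Gen.c 277 231 (by decide +kernel)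
theorem F_1144 (IH : D.IHyp) : ed Gen.b V_743 = (D.P 409) :=
  gap_rel RW_24 (path_edge (F_1094 IH) (path_edge (F_935 IH) (path_edge (F_1143 IH) (path_edge (F_1142 IH) (path_edge (F_1141 IH) (path_nil _))))))
theorem F_1145 (IH : D.IHyp) : ed Gen.b (D.P 409) = V_743 :=
  flipE D.rels D.S (hinv Gen.b) (F_1144 IH)
theorem F_1146 (IH : D.IHyp) : ed Gen.d (D.P 341) = (D.P 276) :=
  D.real_edge' IH Gen.d 341 276 (by decide +kernel)
theorem F_1147 (IH : D.IHyp) : ed Gen.d (D.P 409) = (D.P 409) :=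
  D.real_edge' IH Gen.d 409 409 (by decide +kernel)
theorem F_1148 (IH : D.IHyp) : ed Gen.e (D.P 409) = (D.P 409) :=
  D.real_edge' IH Gen.e 409 409 (by decide +kernel)
theorem F_1149 (IH : D.IHyp) : ed Gen.f (D.P 409) = (D.P 479) :=
  D.real_edge' IH Gen.f 409 479 (by decide +kernel)
theorem F_1150 (IH : D.IHyp) : ed Gen.d (D.P 479) = (D.P 479) :=
  D.real_edge' IH Gen.d 479 479 (by decide +kernel)
theorem F_1151 (IH : D.IHyp) : ed Gen.b (D.P 178) = (D.P 230) :=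
  D.real_edge' IH Gen.b 178 230 (by decide +kernel)
theorem F_1155 (IH : D.IHyp) : ed Gen.h (D.P 231) = (D.P 294) :=
  D.real_edge' IH Gen.h 231 294 (by decide +kernel)
theorem F_1162 (IH : D.IHyp) : ed Gen.d (D.P 360) = (D.P 292) :=
  D.real_edge' IH Gen.d 360 292 (by decide +kernel)
theorem F_1170 (IH : D.IHyp) : ed Gen.e (D.P 431) = (D.P 360) :=
  D.real_edge' IH Gen.e 431 360 (by decide +kernel)
theorem F_1181 (IH : D.IHyp) : ed Gen.f (D.P 53) = (D.P 68) :=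
  D.real_edge' IH Gen.f 53 68 (by decide +kernel)
theorem F_1192 (IH : D.IHyp) : ed Gen.e (D.P 337) = (D.P 337) :=
  D.real_edge' IH Gen.e 337 337 (by decide +kernel)
theorem F_1193 (IH : D.IHyp) : ed Gen.d (D.P 337) = (D.P 337) :=
  D.real_edge' IH Gen.d 337 337 (by decide +kernel)
theorem F_1194 (IH : D.IHyp) : ed Gen.b (D.P 337) = (D.P 337) :=
  D.real_edge' IH Gen.b 337 337 (by decide +kernel)
theorem F_1195 (IH : D.IHyp) : ed Gen.h (D.P 292) = (D.P 247) :=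
  D.real_edge' IH Gen.h 292 247 (by decide +kernel)
theorem F_1196 (IH : D.IHyp) : ed Gen.i (D.P 247) = (D.P 247) :=
  D.real_edge' IH Gen.i 247 247 (by decide +kernel)
theorem F_1213 (IH : D.IHyp) : ed Gen.d (D.P 343) = (D.P 278) :=
  D.real_edge' IH Gen.d 343 278 (by decide +kernel)
theorem F_1218 (IH : D.IHyp) : ed Gen.c (D.P 410) = (D.P 479) :=
  D.real_edge' IH Gen.c 410 479 (by decide +kernel)
theorem F_1219 (IH : D.IHyp) : ed Gen.f (D.P 479) = (D.P 409) :=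
  D.real_edge' IH Gen.f 479 409 (by decide +kernel)
theorem F_1225 (IH : D.IHyp) : ed Gen.c (D.P 479) = (D.P 410) :=
  D.real_edge' IH Gen.c 479 410 (by decide +kernel)
theorem F_1226 (IH : D.IHyp) : ed Gen.f (D.P 410) = (D.P 341) :=
  D.real_edge' IH Gen.f 410 341 (by decide +kernel)
theorem F_1230 (IH : D.IHyp) : ed Gen.e (D.P 479) = (D.P 543) :=
  D.real_edge' IH Gen.e 479 543 (by decide +kernel)
theorem F_1231 (IH : D.IHyp) : ed Gen.f (D.P 543) = (D.P 543) :=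
  D.real_edge' IH Gen.f 543 543 (by decide +kernel)
theorem F_1232 (IH : D.IHyp) : ed Gen.e (D.P 543) = (D.P 479) :=
  D.real_edge' IH Gen.e 543 479 (by decide +kernel)
theorem F_1244 (IH : D.IHyp) : ed Gen.d (D.P 217) = (D.P 217) :=
  D.real_edge' IH Gen.d 217 217 (by decide +kernel)
theorem F_1249 (IH : D.IHyp) : ed Gen.f (D.P 101) = (D.P 78) :=
  D.real_edge' IH Gen.f 101 78 (by decide +kernel)
theorem F_1264 (IH : D.IHyp) : ed Gen.h V_743 = V_744 :=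
  rfl
theorem F_1265 (IH : D.IHyp) : ed Gen.h V_744 = V_743 :=
  flipE D.rels D.S (hinv Gen.h) (F_1264 IH)
theorem F_1266 (IH : D.IHyp) : ed Gen.e V_744 = V_744 :=
  gap_rel RW_9 (path_edge (F_1264 IH) (path_edge (F_1097 IH) (path_edge (F_1265 IH) (path_nil _))))
theorem F_1267 (IH : D.IHyp) : ed Gen.d V_744 = V_745 :=
  rfl
theorem F_1268 (IH : D.IHyp) : ed Gen.d V_745 = V_744 :=
  flipE D.rels D.S (hinv Gen.d) (F_1267 IH)
theorem F_1270 (IH : D.IHyp) : ed Gen.f V_745 = V_746 :=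
  rfl
theorem F_1271 (IH : D.IHyp) : ed Gen.f V_746 = V_745 :=
  flipE D.rels D.S (hinv Gen.f) (F_1270 IH)
theorem F_1273 (IH : D.IHyp) : ed Gen.e V_746 = V_747 :=
  rfl
theorem F_1274 (IH : D.IHyp) : ed Gen.e V_747 = V_746 :=
  flipE D.rels D.S (hinv Gen.e) (F_1273 IH)
theorem F_1276 (IH : D.IHyp) : ed Gen.d V_747 = V_748 :=
  rfl
theorem F_1278 (IH : D.IHyp) : ed Gen.b V_748 = V_749 :=
  rfl
theorem F_1279 (IH : D.IHyp) : ed Gen.b V_749 = V_748 :=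
  flipE D.rels D.S (hinv Gen.b) (F_1278 IH)
theorem F_1280 (IH : D.IHyp) : ed Gen.c V_749 = V_750 :=
  rfl
theorem F_1282 (IH : D.IHyp) : ed Gen.d V_750 = V_751 :=
  rfl
theorem F_1284 (IH : D.IHyp) : ed Gen.i V_751 = V_752 :=
  rfl
theorem F_1286 (IH : D.IHyp) : ed Gen.h V_752 = V_753 :=
  rfl
theorem F_1287 (IH : D.IHyp) : ed Gen.h V_753 = V_752 :=
  flipE D.rels D.S (hinv Gen.h) (F_1286 IH)
theorem F_1288 (IH : D.IHyp) : ed Gen.d V_753 = V_754 :=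
  rfl
theorem F_1289 (IH : D.IHyp) : ed Gen.d V_754 = V_753 :=
  flipE D.rels D.S (hinv Gen.d) (F_1288 IH)
theorem F_1290 (IH : D.IHyp) : ed Gen.f V_754 = V_755 :=
  rfl
theorem F_1292 (IH : D.IHyp) : ed Gen.e V_755 = V_756 :=
  rfl
theorem F_1294 (IH : D.IHyp) : ed Gen.d V_756 = V_757 :=
  rfl
theorem F_1296 (IH : D.IHyp) : ed Gen.b V_757 = V_758 :=
  rfl
theorem F_1298 (IH : D.IHyp) : ed Gen.c V_758 = V_759 :=
  rfl
theorem F_1300 (IH : D.IHyp) : ed Gen.d V_759 = V_760 :=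
  rfl
theorem F_1302 (IH : D.IHyp) : ed Gen.i V_760 = V_761 :=
  rfl
theorem F_1304 (IH : D.IHyp) : ed Gen.h V_761 = V_762 :=
  rfl
theorem F_1306 (IH : D.IHyp) : ed Gen.d V_762 = V_763 :=
  rfl
theorem F_1308 (IH : D.IHyp) : ed Gen.f V_763 = V_764 :=
  rfl
theorem F_1310 (IH : D.IHyp) : ed Gen.e V_764 = V_765 :=
  rfl
theorem F_1312 (IH : D.IHyp) : ed Gen.d V_765 = V_766 :=
  rfl
theorem F_1314 (IH : D.IHyp) : ed Gen.b V_766 = V_767 :=
  rfl
theorem F_1316 (IH : D.IHyp) : ed Gen.c V_767 = V_768 :=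
  rfl
theorem F_1318 (IH : D.IHyp) : ed Gen.d V_768 = V_769 :=
  rfl
theorem F_1320 (IH : D.IHyp) : ed Gen.i V_769 = V_770 :=
  rfl
theorem F_1322 (IH : D.IHyp) : ed Gen.h V_770 = V_771 :=
  rfl
theorem F_1324 (IH : D.IHyp) : ed Gen.d V_771 = V_772 :=
  rfl
theorem F_1326 (IH : D.IHyp) : ed Gen.f V_772 = V_773 :=
  rfl
theorem F_1328 (IH : D.IHyp) : ed Gen.e V_773 = V_774 :=
  rfl
theorem F_1330 (IH : D.IHyp) : ed Gen.d V_774 = V_775 :=
  rfl
theorem F_1332 (IH : D.IHyp) : ed Gen.b V_775 = V_776 :=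
  rfl
theorem F_1334 (IH : D.IHyp) : ed Gen.c V_776 = V_777 :=
  rfl
theorem F_1336 (IH : D.IHyp) : ed Gen.d V_777 = V_778 :=
  rfl
theorem F_1337 (IH : D.IHyp) : ed Gen.d V_778 = V_777 :=
  flipE D.rels D.S (hinv Gen.d) (F_1336 IH)
theorem F_1338 (IH : D.IHyp) : ed Gen.i V_778 = V_779 :=
  rfl
theorem F_1339 (IH : D.IHyp) : ed Gen.i V_779 = V_778 :=
  flipE D.rels D.S (hinv Gen.i) (F_1338 IH)
theorem F_1340 (IH : D.IHyp) : ed Gen.h V_779 = V_780 :=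
  rfl
theorem F_1341 (IH : D.IHyp) : ed Gen.h V_780 = V_779 :=
  flipE D.rels D.S (hinv Gen.h) (F_1340 IH)
theorem F_1342 (IH : D.IHyp) : ed Gen.d V_780 = V_781 :=
  rfl
theorem F_1343 (IH : D.IHyp) : ed Gen.d V_781 = V_780 :=
  flipE D.rels D.S (hinv Gen.d) (F_1342 IH)
theorem F_1344 (IH : D.IHyp) : ed Gen.f V_781 = V_782 :=
  rfl
theorem F_1345 (IH : D.IHyp) : ed Gen.f V_782 = V_781 :=
  flipE D.rels D.S (hinv Gen.f) (F_1344 IH)
theorem F_1346 (IH : D.IHyp) : ed Gen.e V_782 = V_783 :=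
  rfl
theorem F_1347 (IH : D.IHyp) : ed Gen.e V_783 = V_782 :=
  flipE D.rels D.S (hinv Gen.e) (F_1346 IH)
theorem F_1348 (IH : D.IHyp) : ed Gen.d V_783 = V_784 :=
  rfl
theorem F_1350 (IH : D.IHyp) : ed Gen.b V_784 = V_785 :=
  rfl
theorem F_1351 (IH : D.IHyp) : ed Gen.b V_785 = V_784 :=
  flipE D.rels D.S (hinv Gen.b) (F_1350 IH)
theorem F_1352 (IH : D.IHyp) : ed Gen.c V_785 = V_786 :=
  rfl
theorem F_1353 (IH : D.IHyp) : ed Gen.c V_786 = V_785 :=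
  flipE D.rels D.S (hinv Gen.c) (F_1352 IH)
theorem F_1354 (IH : D.IHyp) : ed Gen.d V_786 = V_787 :=
  rfl
theorem F_1355 (IH : D.IHyp) : ed Gen.d V_787 = V_786 :=
  flipE D.rels D.S (hinv Gen.d) (F_1354 IH)
theorem F_1356 (IH : D.IHyp) : ed Gen.i V_787 = V_788 :=
  rfl
theorem F_1357 (IH : D.IHyp) : ed Gen.i V_788 = V_787 :=
  flipE D.rels D.S (hinv Gen.i) (F_1356 IH)
theorem F_1358 (IH : D.IHyp) : ed Gen.h V_788 = V_789 :=
  rfl
theorem F_1359 (IH : D.IHyp) : ed Gen.h V_789 = V_788 :=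
  flipE D.rels D.S (hinv Gen.h) (F_1358 IH)
theorem F_1360 (IH : D.IHyp) : ed Gen.d V_789 = V_790 :=
  rfl
theorem F_1361 (IH : D.IHyp) : ed Gen.d V_790 = V_789 :=
  flipE D.rels D.S (hinv Gen.d) (F_1360 IH)
theorem F_1362 (IH : D.IHyp) : ed Gen.f V_790 = V_736 :=
  gap_rel RW_25 (path_edge (F_1360 IH) (path_edge (F_1358 IH) (path_edge (F_1356 IH) (path_edge (F_1354 IH) (path_edge (F_1352 IH) (path_edge (F_1350 IH) (path_edge (F_1348 IH) (path_edge (F_1346 IH) (path_edge (F_1344 IH) (path_edge (F_1342 IH) (path_edge (F_1340 IH) (path_edge (F_1338 IH) (path_edge (F_1336 IH) (path_edge (F_1334 IH) (path_edge (F_1332 IH) (path_edge (F_1330 IH) (path_edge (F_1328 IH) (path_edge (F_1326 IH) (path_edge (F_1324 IH) (path_edge (F_1322 IH) (path_edge (F_1320 IH) (path_edge (F_1318 IH) (path_edge (F_1316 IH) (path_edge (F_1314 IH) (path_edge (F_1312 IH) (path_edge (F_1310 IH) (path_edge (F_1308 IH) (path_edge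 (F_1306 IH) (path_edge (F_1304 IH) (path_edge (F_1302 IH) (path_edge (F_1300 IH) (path_edge (F_1298 IH) (path_edge (F_1296 IH) (path_edge (F_1294 IH) (path_edge (F_1292 IH) (path_edge (F_1290 IH) (path_edge (F_1288 IH) (path_edge (F_1286 IH) (path_edge (F_1284 IH) (path_edge (F_1282 IH) (path_edge (F_1280 IH) (path_edge (F_1278 IH) (path_edge (F_1276 IH) (path_edge (F_1273 IH) (path_edge (F_1270 IH) (path_edge (F_1267 IH) (path_edge (F_1264 IH) (path_edge (F_1092 IH) (path_edge (F_967 IH) (path_edge (F_920 IH) (path_edge (F_61 IH) (path_edge (F_60 IH) (path_edge (F_59 IH) (path_edge (F_58 IH) (path_edge (F_57 IH) (path_edge (F_56 IH) (path_edge (F_55 IH) (path_edge (F_54 IH) (path_edge (F_53 IH) (path_edge (F_52 IH) (path_edge (F_51 IH) (path_edge (F_50 IH) (path_edge (F_49 IH) (path_edge (F_48 IH) (path_edge (F_47 IH) (path_edge (F_46 IH) (path_edge (F_45 IH) (path_edge (F_44 IH) (path_edge (F_43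 IH) (path_edge (F_42 IH) (path_edge (F_41 IH) (path_edge (F_40 IH) (path_edge (F_37 IH) (path_edge (F_39 IH) (path_edge (F_38 IH) (path_edge (F_37 IH) (path_edge (F_36 IH) (path_edge (F_35 IH) (path_edge (F_29 IH) (path_edge (F_4 IH) (path_edge (F_6 IH) (path_edge (F_34 IH) (path_edge (F_33 IH) (path_edge (F_32 IH) (path_edge (F_29 IH) (path_edge (F_1 IH) (path_edge (F_21 IH) (path_edge (F_111 IH) (path_edge (F_712 IH) (path_nil _))))))))))))))))))))))))))))))))))))))))))))))))))))))))))))))))))))))))))))))))))))))))))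
theorem F_1363 (IH : D.IHyp) : ed Gen.f V_736 = V_790 :=
  flipE D.rels D.S (hinv Gen.f) (F_1362 IH)
theorem F_1364 (IH : D.IHyp) : ed Gen.b V_790 = V_790 :=
  gap_rel RW_26 (path_edge (F_1363 IH) (path_edge (F_713 IH) (path_edge (F_1362 IH) (path_nil _))))
theorem F_1365 (IH : D.IHyp) : ed Gen.c V_790 = (D.P 311) :=
  gap_rel RW_27 (path_edge (F_1363 IH) (path_edge (F_714 IH) (path_edge (F_214 IH) (path_nil _))))
theorem F_1368 (IH : D.IHyp) : ed Gen.b V_789 = V_789 :=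
  gap_rel RW_4 (path_edge (F_1361 IH) (path_edge (F_1364 IH) (path_edge (F_1360 IH) (path_nil _))))
theorem F_1369 (IH : D.IHyp) : ed Gen.f V_789 = V_736 :=
  gap_rel RW_5 (path_edge (F_1361 IH) (path_edge (F_1363 IH) (path_edge (F_717 IH) (path_nil _))))
theorem F_1370 (IH : D.IHyp) : ed Gen.f V_736 = V_789 :=
  flipE D.rels D.S (hinv Gen.f) (F_1369 IH)
theorem F_1371 (IH : D.IHyp) : V_790 = V_789 :=
  edge_fun (F_1363 IH) (F_1370 IH)
theorem F_1374 (IH : D.IHyp) : ed Gen.c V_789 = (D.P 311) :=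
  edge_congr (F_1365 IH) (F_1371 IH)
theorem F_1375 (IH : D.IHyp) : ed Gen.c (D.P 311) = V_789 :=
  flipE D.rels D.S (hinv Gen.c) (F_1374 IH)
theorem F_1376 (IH : D.IHyp) : ed Gen.d V_789 = V_789 :=
  edge_congr (F_1361 IH) (F_1371 IH)
theorem F_1377 (IH : D.IHyp) : ed Gen.f V_789 = V_736 :=
  edge_congr (F_1362 IH) (F_1371 IH)
theorem F_1378 (IH : D.IHyp) : ed Gen.f V_736 = V_789 :=
  flipE D.rels D.S (hinv Gen.f) (F_1377 IH)
theorem F_1381 (IH : D.IHyp) : ed Gen.e V_789 = V_789 :=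
  gap_rel RW_0 (path_edge (F_1375 IH) (path_edge (F_213 IH) (path_edge (F_1374 IH) (path_nil _))))
theorem F_1382 (IH : D.IHyp) : ed Gen.e V_788 = V_788 :=
  gap_rel RW_9 (path_edge (F_1359 IH) (path_edge (F_1381 IH) (path_edge (F_1358 IH) (path_nil _))))
theorem F_1383 (IH : D.IHyp) : ed Gen.b V_788 = V_788 :=
  gap_rel RW_8 (path_edge (F_1359 IH) (path_edge (F_1368 IH) (path_edge (F_1358 IH) (path_nil _))))
theorem F_1401 (IH : D.IHyp) : ed Gen.h (D.P 293) = (D.P 364) :=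
  D.real_edge' IH Gen.h 293 364 (by decide +kernel)
theorem F_1402 (IH : D.IHyp) : ed Gen.b (D.P 192) = (D.P 247) :=
  D.real_edge' IH Gen.b 192 247 (by decide +kernel)
theorem F_1455 (IH : D.IHyp) : ed Gen.b V_787 = V_787 :=
  gap_rel RW_17 (path_edge (F_1357 IH) (path_edge (F_1383 IH) (path_edge (F_1356 IH) (path_nil _))))
theorem F_1456 (IH : D.IHyp) : ed Gen.e V_787 = V_787 :=
  gap_rel RW_18 (path_edge (F_1357 IH) (path_edge (F_1382 IH) (path_edge (F_1356 IH) (path_nil _))))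
theorem F_1457 (IH : D.IHyp) : ed Gen.b V_786 = V_786 :=
  gap_rel RW_4 (path_edge (F_1355 IH) (path_edge (F_1455 IH) (path_edge (F_1354 IH) (path_nil _))))
theorem F_1458 (IH : D.IHyp) : ed Gen.c V_784 = V_784 :=
  gap_rel RW_3 (path_edge (F_1351 IH) (path_edge (F_1353 IH) (path_edge (F_1457 IH) (path_edge (F_1352 IH) (path_edge (F_1350 IH) (path_nil _))))))
theorem F_1459 (IH : D.IHyp) : ed Gen.h (D.P 566) = V_791 :=
  rfl
theorem F_1460 (IH : D.IHyp) : ed Gen.h V_791 = (D.P 566) :=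
  flipE D.rels D.S (hinv Gen.h) (F_1459 IH)
theorem F_1462 (IH : D.IHyp) : ed Gen.d (D.P 566) = (D.P 504) :=
  D.real_edge' IH Gen.d 566 504 (by decide +kernel)
theorem F_1464 (IH : D.IHyp) : ed Gen.e (D.P 566) = (D.P 566) :=
  D.real_edge' IH Gen.e 566 566 (by decide +kernel)
theorem F_1465 (IH : D.IHyp) : ed Gen.f (D.P 566) = (D.P 566) :=
  D.real_edge' IH Gen.f 566 566 (by decide +kernel)
theorem F_1476 (IH : D.IHyp) : ed Gen.e V_791 = V_791 :=
  gap_rel RW_9 (path_edge (F_1459 IH) (path_edge (F_1464 IH) (path_edge (F_1460 IH) (path_nil _))))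
theorem F_1478 (IH : D.IHyp) : ed Gen.f V_791 = V_791 :=
  gap_rel RW_10 (path_edge (F_1459 IH) (path_edge (F_1465 IH) (path_edge (F_1460 IH) (path_nil _))))
theorem F_1489 (IH : D.IHyp) : ed Gen.d (D.P 438) = (D.P 496) :=
  D.real_edge' IH Gen.d 438 496 (by decide +kernel)
theorem F_1490 (IH : D.IHyp) : ed Gen.e (D.P 504) = (D.P 436) :=
  D.real_edge' IH Gen.e 504 436 (by decide +kernel)
theorem F_1507 (IH : D.IHyp) : ed Gen.d (D.P 442) = (D.P 513) :=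
  D.real_edge' IH Gen.d 442 513 (by decide +kernel)
theorem F_1512 (IH : D.IHyp) : ed Gen.d (D.P 373) = (D.P 431) :=
  D.real_edge' IH Gen.d 373 431 (by decide +kernel)
theorem F_1515 (IH : D.IHyp) : ed Gen.i (D.P 568) = (D.P 568) :=
  D.real_edge' IH Gen.i 568 568 (by decide +kernel)
theorem F_1523 (IH : D.IHyp) : ed Gen.c (D.P 436) = (D.P 366) :=
  D.real_edge' IH Gen.c 436 366 (by decide +kernel)
theorem F_1524 (IH : D.IHyp) : ed Gen.i (D.P 297) = (D.P 239) :=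
  D.real_edge' IH Gen.i 297 239 (by decide +kernel)
theorem F_1525 (IH : D.IHyp) : ed Gen.h (D.P 239) = (D.P 194) :=
  D.real_edge' IH Gen.h 239 194 (by decide +kernel)
theorem F_1526 (IH : D.IHyp) : ed Gen.e (D.P 146) = (D.P 109) :=
  D.real_edge' IH Gen.e 146 109 (by decide +kernel)
theorem F_1527 (IH : D.IHyp) : ed Gen.f (D.P 26) = (D.P 36) :=
  D.real_edge' IH Gen.f 26 36 (by decide +kernel)
theorem F_1528 (IH : D.IHyp) : ed Gen.b (D.P 36) = (D.P 29) :=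
  D.real_edge' IH Gen.b 36 29 (by decide +kernel)
theorem F_1529 (IH : D.IHyp) : ed Gen.i (D.P 29) = (D.P 20) :=
  D.real_edge' IH Gen.i 29 20 (by decide +kernel)
theorem F_1530 (IH : D.IHyp) : ed Gen.f (D.P 20) = (D.P 15) :=
  D.real_edge' IH Gen.f 20 15 (by decide +kernel)
theorem F_1531 (IH : D.IHyp) : ed Gen.e (D.P 15) = (D.P 11) :=
  D.real_edge' IH Gen.e 15 11 (by decide +kernel)
theorem F_1532 (IH : D.IHyp) : ed Gen.b (D.P 8) = (D.P 10) :=
  D.real_edge' IH Gen.b 8 10 (by decide +kernel)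
theorem F_1533 (IH : D.IHyp) : ed Gen.i (D.P 13) = (D.P 19) :=
  D.real_edge' IH Gen.i 13 19 (by decide +kernel)
theorem F_1534 (IH : D.IHyp) : ed Gen.h (D.P 19) = (D.P 27) :=
  D.real_edge' IH Gen.h 19 27 (by decide +kernel)
theorem F_1535 (IH : D.IHyp) : ed Gen.e (D.P 27) = (D.P 37) :=
  D.real_edge' IH Gen.e 27 37 (by decide +kernel)
theorem F_1536 (IH : D.IHyp) : ed Gen.c (D.P 40) = (D.P 53) :=
  D.real_edge' IH Gen.c 40 53 (by decide +kernel)
theorem F_1537 (IH : D.IHyp) : ed Gen.e (D.P 68) = (D.P 92) :=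
  D.real_edge' IH Gen.e 68 92 (by decide +kernel)
theorem F_1540 (IH : D.IHyp) : ed Gen.i V_791 = V_792 :=
  rfl
theorem F_1541 (IH : D.IHyp) : ed Gen.i V_792 = V_791 :=
  flipE D.rels D.S (hinv Gen.i) (F_1540 IH)
theorem F_1545 (IH : D.IHyp) : ed Gen.d V_792 = V_793 :=
  rfl
theorem F_1546 (IH : D.IHyp) : ed Gen.d V_793 = V_792 :=
  flipE D.rels D.S (hinv Gen.d) (F_1545 IH)
theorem F_1549 (IH : D.IHyp) : ed Gen.c V_793 = V_794 :=
  rfl
theorem F_1550 (IH : D.IHyp) : ed Gen.c V_794 = V_793 :=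
  flipE D.rels D.S (hinv Gen.c) (F_1549 IH)
theorem F_1552 (IH : D.IHyp) : ed Gen.b V_794 = V_795 :=
  rfl
theorem F_1553 (IH : D.IHyp) : ed Gen.b V_795 = V_794 :=
  flipE D.rels D.S (hinv Gen.b) (F_1552 IH)
theorem F_1556 (IH : D.IHyp) : ed Gen.d V_795 = V_796 :=
  rfl
theorem F_1557 (IH : D.IHyp) : ed Gen.d V_796 = V_795 :=
  flipE D.rels D.S (hinv Gen.d) (F_1556 IH)
theorem F_1559 (IH : D.IHyp) : ed Gen.e V_796 = V_797 :=
  rfl
theorem F_1560 (IH : D.IHyp) : ed Gen.e V_797 = V_796 :=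
  flipE D.rels D.S (hinv Gen.e) (F_1559 IH)
theorem F_1561 (IH : D.IHyp) : ed Gen.f V_797 = V_798 :=
  rfl
theorem F_1562 (IH : D.IHyp) : ed Gen.f V_798 = V_797 :=
  flipE D.rels D.S (hinv Gen.f) (F_1561 IH)
theorem F_1564 (IH : D.IHyp) : ed Gen.d V_798 = V_799 :=
  rfl
theorem F_1565 (IH : D.IHyp) : ed Gen.d V_799 = V_798 :=
  flipE D.rels D.S (hinv Gen.d) (F_1564 IH)
theorem F_1566 (IH : D.IHyp) : ed Gen.h V_799 = V_800 :=
  rfl
theorem F_1567 (IH : D.IHyp) : ed Gen.h V_800 = V_799 :=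
  flipE D.rels D.S (hinv Gen.h) (F_1566 IH)
theorem F_1568 (IH : D.IHyp) : ed Gen.i V_800 = V_801 :=
  rfl
theorem F_1569 (IH : D.IHyp) : ed Gen.i V_801 = V_800 :=
  flipE D.rels D.S (hinv Gen.i) (F_1568 IH)
theorem F_1570 (IH : D.IHyp) : ed Gen.d V_801 = V_802 :=
  rfl
theorem F_1571 (IH : D.IHyp) : ed Gen.d V_802 = V_801 :=
  flipE D.rels D.S (hinv Gen.d) (F_1570 IH)
theorem F_1572 (IH : D.IHyp) : ed Gen.c V_802 = V_803 :=
  rfl
theorem F_1573 (IH : D.IHyp) : ed Gen.c V_803 = V_802 :=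
  flipE D.rels D.S (hinv Gen.c) (F_1572 IH)
theorem F_1574 (IH : D.IHyp) : ed Gen.b V_803 = V_804 :=
  rfl
theorem F_1575 (IH : D.IHyp) : ed Gen.b V_804 = V_803 :=
  flipE D.rels D.S (hinv Gen.b) (F_1574 IH)
theorem F_1576 (IH : D.IHyp) : ed Gen.d V_804 = V_805 :=
  rfl
theorem F_1577 (IH : D.IHyp) : ed Gen.d V_805 = V_804 :=
  flipE D.rels D.S (hinv Gen.d) (F_1576 IH)
theorem F_1578 (IH : D.IHyp) : ed Gen.e V_805 = V_806 :=
  rfl
theorem F_1579 (IH : D.IHyp) : ed Gen.e V_806 = V_805 :=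
  flipE D.rels D.S (hinv Gen.e) (F_1578 IH)
theorem F_1580 (IH : D.IHyp) : ed Gen.f V_806 = V_807 :=
  rfl
theorem F_1581 (IH : D.IHyp) : ed Gen.f V_807 = V_806 :=
  flipE D.rels D.S (hinv Gen.f) (F_1580 IH)
theorem F_1582 (IH : D.IHyp) : ed Gen.d V_807 = V_808 :=
  rfl
theorem F_1583 (IH : D.IHyp) : ed Gen.d V_808 = V_807 :=
  flipE D.rels D.S (hinv Gen.d) (F_1582 IH)
theorem F_1584 (IH : D.IHyp) : ed Gen.h V_808 = V_809 :=
  rfl
theorem F_1585 (IH : D.IHyp) : ed Gen.h V_809 = V_808 :=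
  flipE D.rels D.S (hinv Gen.h) (F_1584 IH)
theorem F_1586 (IH : D.IHyp) : ed Gen.i V_809 = V_810 :=
  rfl
theorem F_1587 (IH : D.IHyp) : ed Gen.i V_810 = V_809 :=
  flipE D.rels D.S (hinv Gen.i) (F_1586 IH)
theorem F_1588 (IH : D.IHyp) : ed Gen.d V_810 = V_811 :=
  rfl
theorem F_1589 (IH : D.IHyp) : ed Gen.d V_811 = V_810 :=
  flipE D.rels D.S (hinv Gen.d) (F_1588 IH)
theorem F_1590 (IH : D.IHyp) : ed Gen.c V_811 = V_812 :=
  rfl
theorem F_1591 (IH : D.IHyp) : ed Gen.c V_812 = V_811 :=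
  flipE D.rels D.S (hinv Gen.c) (F_1590 IH)
theorem F_1592 (IH : D.IHyp) : ed Gen.b V_812 = V_813 :=
  rfl
theorem F_1593 (IH : D.IHyp) : ed Gen.b V_813 = V_812 :=
  flipE D.rels D.S (hinv Gen.b) (F_1592 IH)
theorem F_1594 (IH : D.IHyp) : ed Gen.d V_813 = V_814 :=
  rfl
theorem F_1595 (IH : D.IHyp) : ed Gen.d V_814 = V_813 :=
  flipE D.rels D.S (hinv Gen.d) (F_1594 IH)
theorem F_1596 (IH : D.IHyp) : ed Gen.e V_814 = V_815 :=
  rfl
theorem F_1597 (IH : D.IHyp) : ed Gen.e V_815 = V_814 :=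
  flipE D.rels D.S (hinv Gen.e) (F_1596 IH)
theorem F_1598 (IH : D.IHyp) : ed Gen.f V_815 = V_816 :=
  rfl
theorem F_1599 (IH : D.IHyp) : ed Gen.f V_816 = V_815 :=
  flipE D.rels D.S (hinv Gen.f) (F_1598 IH)
theorem F_1600 (IH : D.IHyp) : ed Gen.d V_816 = V_817 :=
  rfl
theorem F_1601 (IH : D.IHyp) : ed Gen.d V_817 = V_816 :=
  flipE D.rels D.S (hinv Gen.d) (F_1600 IH)
theorem F_1602 (IH : D.IHyp) : ed Gen.h V_817 = V_818 :=
  rfl
theorem F_1603 (IH : D.IHyp) : ed Gen.h V_818 = V_817 :=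
  flipE D.rels D.S (hinv Gen.h) (F_1602 IH)
theorem F_1604 (IH : D.IHyp) : ed Gen.i V_818 = V_819 :=
  rfl
theorem F_1605 (IH : D.IHyp) : ed Gen.i V_819 = V_818 :=
  flipE D.rels D.S (hinv Gen.i) (F_1604 IH)
theorem F_1606 (IH : D.IHyp) : ed Gen.d V_819 = V_820 :=
  rfl
theorem F_1607 (IH : D.IHyp) : ed Gen.d V_820 = V_819 :=
  flipE D.rels D.S (hinv Gen.d) (F_1606 IH)
theorem F_1608 (IH : D.IHyp) : ed Gen.c V_820 = V_821 :=
  rfl
theorem F_1609 (IH : D.IHyp) : ed Gen.c V_821 = V_820 :=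
  flipE D.rels D.S (hinv Gen.c) (F_1608 IH)
theorem F_1610 (IH : D.IHyp) : ed Gen.b V_821 = V_822 :=
  rfl
theorem F_1611 (IH : D.IHyp) : ed Gen.b V_822 = V_821 :=
  flipE D.rels D.S (hinv Gen.b) (F_1610 IH)
theorem F_1612 (IH : D.IHyp) : ed Gen.d V_822 = V_823 :=
  rfl
theorem F_1613 (IH : D.IHyp) : ed Gen.d V_823 = V_822 :=
  flipE D.rels D.S (hinv Gen.d) (F_1612 IH)
theorem F_1614 (IH : D.IHyp) : ed Gen.e V_738 = V_823 :=
  gap_rel RW_28 (path_edge (F_848 IH) (path_edge (F_845 IH) (path_edge (F_841 IH) (path_edge (F_114 IH) (path_edge (F_110 IH) (path_edge (F_0 IH) (path_edge (F_16 IH) (path_edge (F_275 IH) (path_edge (F_1537 IH) (path_edge (F_1181 IH) (path_edge (F_65 IH) (path_edge (F_66 IH) (path_edge (F_67 IH) (path_edge (F_65 IH) (path_edge (F_1536 IH) (path_edge (F_1104 IH) (path_edge (F_94 IH) (path_edge (F_1535 IH) (path_edge (F_72 IH) (path_edge (F_73 IH) (path_edge (F_1534 IH) (path_edge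 (F_1533 IH) (path_edge (F_502 IH) (path_edge (F_77 IH) (path_edge (F_1532 IH) (path_edge (F_505 IH) (path_edge (F_1531 IH) (path_edge (F_1530 IH) (path_edge (F_82 IH) (path_edge (F_83 IH) (path_edge (F_1529 IH) (path_edge (F_85 IH) (path_edge (F_86 IH) (path_edge (F_1528 IH) (path_edge (F_88 IH) (path_edge (F_89 IH) (path_edge (F_1527 IH) (path_edge (F_91 IH) (path_edge (F_530 IH) (path_edge (F_93 IH) (path_edge (F_70 IH) (path_edge (F_1103 IH) (path_edge (F_286 IH) (path_edge (F_776 IH) (path_edge (F_1526 IH) (path_edge (F_1076 IH) (path_edge (F_100 IH) (path_edge (F_1525 IH) (path_edge (F_1524 IH) (path_edge (F_294 IH) (path_edge (F_1523 IH) (path_edge (F_105 IH) (path_edge (F_106 IH) (path_edge (F_1490 IH) (path_edge (F_108 IH) (path_edge (F_1462 IH) (path_edge (F_1460 IH) (path_edge (F_1541 IH) (path_edge (F_1546 IH) (path_edge (F_1550 IH) (path_edge (F_1553 IH) (path_edge (F_1557 IH) (path_edge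 (F_1560 IH) (path_edge (F_1562 IH) (path_edge (F_1565 IH) (path_edge (F_1567 IH) (path_edge (F_1569 IH) (path_edge (F_1571 IH) (path_edge (F_1573 IH) (path_edge (F_1575 IH) (path_edge (F_1577 IH) (path_edge (F_1579 IH) (path_edge (F_1581 IH) (path_edge (F_1583 IH) (path_edge (F_1585 IH) (path_edge (F_1587 IH) (path_edge (F_1589 IH) (path_edge (F_1591 IH) (path_edge (F_1593 IH) (path_edge (F_1595 IH) (path_edge (F_1597 IH) (path_edge (F_1599 IH) (path_edge (F_1601 IH) (path_edge (F_1603 IH) (path_edge (F_1605 IH) (path_edge (F_1607 IH) (path_edge (F_1609 IH) (path_edge (F_1611 IH) (path_edge (F_1613 IH) (path_nil _))))))))))))))))))))))))))))))))))))))))))))))))))))))))))))))))))))))))))))))))))))))))))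
theorem F_1615 (IH : D.IHyp) : ed Gen.e V_823 = V_738 :=
  flipE D.rels D.S (hinv Gen.e) (F_1614 IH)
theorem F_1616 (IH : D.IHyp) : ed Gen.b V_823 = V_823 :=
  gap_rel RW_13 (path_edge (F_1614 IH) (path_edge (F_847 IH) (path_edge (F_1615 IH) (path_nil _))))
theorem F_1617 (IH : D.IHyp) : ed Gen.c V_823 = V_823 :=
  gap_rel RW_14 (path_edge (F_1614 IH) (path_edge (F_856 IH) (path_edge (F_1615 IH) (path_nil _))))
theorem F_1618 (IH : D.IHyp) : ed Gen.d V_821 = V_823 :=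
  gap_rel RW_29 (path_edge (F_1611 IH) (path_edge (F_1613 IH) (path_edge (F_1616 IH) (path_nil _))))
theorem F_1619 (IH : D.IHyp) : ed Gen.d V_823 = V_821 :=
  flipE D.rels D.S (hinv Gen.d) (F_1618 IH)
theorem F_1620 (IH : D.IHyp) : V_822 = V_821 :=
  edge_fun (F_1613 IH) (F_1619 IH)
theorem F_1621 (IH : D.IHyp) : ed Gen.b V_821 = V_821 :=
  edge_congr (F_1611 IH) (F_1620 IH)
theorem F_1622 (IH : D.IHyp) : ed Gen.d V_821 = V_823 :=
  edge_congr (F_1612 IH) (F_1620 IH)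
theorem F_1623 (IH : D.IHyp) : ed Gen.d V_823 = V_821 :=
  flipE D.rels D.S (hinv Gen.d) (F_1622 IH)
theorem F_1624 (IH : D.IHyp) : ed Gen.c V_819 = V_821 :=
  gap_rel RW_7 (path_edge (F_1607 IH) (path_edge (F_1609 IH) (path_edge (F_1623 IH) (path_edge (F_1617 IH) (path_edge (F_1618 IH) (path_nil _))))))
theorem F_1625 (IH : D.IHyp) : ed Gen.c V_821 = V_819 :=
  flipE D.rels D.S (hinv Gen.c) (F_1624 IH)
theorem F_1626 (IH : D.IHyp) : V_820 = V_819 :=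
  edge_fun (F_1609 IH) (F_1625 IH)
theorem F_1627 (IH : D.IHyp) : ed Gen.c V_819 = V_821 :=
  edge_congr (F_1608 IH) (F_1626 IH)
theorem F_1628 (IH : D.IHyp) : ed Gen.c V_821 = V_819 :=
  flipE D.rels D.S (hinv Gen.c) (F_1627 IH)
theorem F_1629 (IH : D.IHyp) : ed Gen.d V_819 = V_819 :=
  edge_congr (F_1607 IH) (F_1626 IH)
theorem F_1630 (IH : D.IHyp) : ed Gen.d V_818 = V_818 :=
  gap_rel RW_23 (path_edge (F_1605 IH) (path_edge (F_1629 IH) (path_edge (F_1604 IH) (path_nil _))))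
theorem F_1634 (IH : D.IHyp) : ed Gen.b (D.P 358) = V_824 :=
  rfl
theorem F_1635 (IH : D.IHyp) : ed Gen.b V_824 = (D.P 358) :=
  flipE D.rels D.S (hinv Gen.b) (F_1634 IH)
theorem F_1636 (IH : D.IHyp) : ed Gen.d V_824 = V_824 :=
  gap_rel RW_29 (path_edge (F_1634 IH) (path_edge (F_141 IH) (path_edge (F_1635 IH) (path_nil _))))
theorem F_1637 (IH : D.IHyp) : ed Gen.e V_824 = V_824 :=
  gap_rel RW_30 (path_edge (F_1634 IH) (path_edge (F_140 IH) (path_edge (F_1635 IH) (path_nil _))))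
theorem F_1638 (IH : D.IHyp) : ed Gen.f (D.P 358) = (D.P 430) :=
  D.real_edge' IH Gen.f 358 430 (by decide +kernel)
theorem F_1641 (IH : D.IHyp) : ed Gen.h V_824 = (D.P 355) :=
  gap_rel RW_31 (path_edge (F_1634 IH) (path_edge (F_933 IH) (path_edge (F_922 IH) (path_nil _))))
theorem F_1642 (IH : D.IHyp) : ed Gen.h (D.P 355) = V_824 :=
  flipE D.rels D.S (hinv Gen.h) (F_1641 IH)
theorem F_1646 (IH : D.IHyp) : ed Gen.h (D.P 430) = (D.P 357) :=
  D.real_edge' IH Gen.h 430 357 (by decide +kernel)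
theorem F_1650 (IH : D.IHyp) : ed Gen.f (D.P 499) = (D.P 499) :=
  D.real_edge' IH Gen.f 499 499 (by decide +kernel)
theorem F_1660 (IH : D.IHyp) : ed Gen.i (D.P 357) = (D.P 293) :=
  D.real_edge' IH Gen.i 357 293 (by decide +kernel)
theorem F_1661 (IH : D.IHyp) : ed Gen.c (D.P 232) = (D.P 179) :=
  D.real_edge' IH Gen.c 232 179 (by decide +kernel)
theorem F_1662 (IH : D.IHyp) : ed Gen.h (D.P 135) = (D.P 108) :=
  D.real_edge' IH Gen.h 135 108 (by decide +kernel)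
theorem F_1663 (IH : D.IHyp) : ed Gen.c (D.P 108) = (D.P 144) :=
  D.real_edge' IH Gen.c 108 144 (by decide +kernel)
theorem F_1685 (IH : D.IHyp) : ed Gen.i (D.P 102) = (D.P 133) :=
  D.real_edge' IH Gen.i 102 133 (by decide +kernel)
theorem F_1690 (IH : D.IHyp) : ed Gen.d (D.P 229) = (D.P 275) :=
  D.real_edge' IH Gen.d 229 275 (by decide +kernel)
theorem F_1691 (IH : D.IHyp) : ed Gen.h (D.P 275) = (D.P 337) :=
  D.real_edge' IH Gen.h 275 337 (by decide +kernel)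
theorem F_1692 (IH : D.IHyp) : ed Gen.i (D.P 337) = (D.P 337) :=
  D.real_edge' IH Gen.i 337 337 (by decide +kernel)
theorem F_1706 (IH : D.IHyp) : ed Gen.b (D.P 496) = (D.P 428) :=
  D.real_edge' IH Gen.b 496 428 (by decide +kernel)
theorem F_1711 (IH : D.IHyp) : ed Gen.d (D.P 484) = (D.P 550) :=
  D.real_edge' IH Gen.d 484 550 (by decide +kernel)
theorem F_1714 (IH : D.IHyp) : ed Gen.d (D.P 550) = (D.P 484) :=
  D.real_edge' IH Gen.d 550 484 (by decide +kernel)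
theorem F_1716 (IH : D.IHyp) : ed Gen.c V_824 = V_825 :=
  rfl
theorem F_1717 (IH : D.IHyp) : ed Gen.c V_825 = V_824 :=
  flipE D.rels D.S (hinv Gen.c) (F_1716 IH)
theorem F_1718 (IH : D.IHyp) : ed Gen.e V_825 = V_825 :=
  gap_rel RW_0 (path_edge (F_1716 IH) (path_edge (F_1637 IH) (path_edge (F_1717 IH) (path_nil _))))
theorem F_1719 (IH : D.IHyp) : ed Gen.h V_825 = V_742 :=
  gap_rel RW_32 (path_edge (F_1716 IH) (path_edge (F_1642 IH) (path_edge (F_921 IH) (path_nil _))))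
theorem F_1720 (IH : D.IHyp) : ed Gen.h V_742 = V_825 :=
  flipE D.rels D.S (hinv Gen.h) (F_1719 IH)
theorem F_1721 (IH : D.IHyp) : ed Gen.d V_825 = V_826 :=
  rfl
theorem F_1722 (IH : D.IHyp) : ed Gen.d V_826 = V_825 :=
  flipE D.rels D.S (hinv Gen.d) (F_1721 IH)
theorem F_1723 (IH : D.IHyp) : ed Gen.c V_826 = V_826 :=
  gap_rel RW_7 (path_edge (F_1721 IH) (path_edge (F_1716 IH) (path_edge (F_1636 IH) (path_edge (F_1717 IH) (path_edge (F_1722 IH) (path_nil _))))))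
theorem F_1724 (IH : D.IHyp) : ed Gen.h V_826 = V_826 :=
  gap_rel RW_33 (path_edge (F_1721 IH) (path_edge (F_1720 IH) (path_edge (F_967 IH) (path_edge (F_1719 IH) (path_edge (F_1722 IH) (path_nil _))))))
theorem F_1725 (IH : D.IHyp) : ed Gen.i V_826 = V_827 :=
  rfl
theorem F_1726 (IH : D.IHyp) : ed Gen.i V_827 = V_826 :=
  flipE D.rels D.S (hinv Gen.i) (F_1725 IH)
theorem F_1727 (IH : D.IHyp) : ed Gen.c V_827 = V_827 :=
  gap_rel RW_22 (path_edge (F_1725 IH) (path_edge (F_1723 IH) (path_edge (F_1726 IH) (path_nil _))))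
theorem F_1728 (IH : D.IHyp) : ed Gen.h V_827 = V_828 :=
  rfl
theorem F_1729 (IH : D.IHyp) : ed Gen.h V_828 = V_827 :=
  flipE D.rels D.S (hinv Gen.h) (F_1728 IH)
theorem F_1731 (IH : D.IHyp) : ed Gen.i V_828 = V_828 :=
  gap_rel RW_34 (path_edge (F_1728 IH) (path_edge (F_1725 IH) (path_edge (F_1724 IH) (path_edge (F_1726 IH) (path_edge (F_1729 IH) (path_nil _))))))
theorem F_1732 (IH : D.IHyp) : ed Gen.d V_828 = V_829 :=
  rfl
theorem F_1733 (IH : D.IHyp) : ed Gen.d V_829 = V_828 :=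
  flipE D.rels D.S (hinv Gen.d) (F_1732 IH)
theorem F_1734 (IH : D.IHyp) : ed Gen.i V_829 = V_829 :=
  gap_rel RW_6 (path_edge (F_1732 IH) (path_edge (F_1731 IH) (path_edge (F_1733 IH) (path_nil _))))
theorem F_1735 (IH : D.IHyp) : ed Gen.f V_829 = V_830 :=
  rfl
theorem F_1736 (IH : D.IHyp) : ed Gen.f V_830 = V_829 :=
  flipE D.rels D.S (hinv Gen.f) (F_1735 IH)
theorem F_1737 (IH : D.IHyp) : ed Gen.i V_830 = V_830 :=
  gap_rel RW_35 (path_edge (F_1735 IH) (path_edge (F_1734 IH) (path_edge (F_1736 IH) (path_nil _))))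
theorem F_1738 (IH : D.IHyp) : ed Gen.e V_830 = V_831 :=
  rfl
theorem F_1739 (IH : D.IHyp) : ed Gen.e V_831 = V_830 :=
  flipE D.rels D.S (hinv Gen.e) (F_1738 IH)
theorem F_1740 (IH : D.IHyp) : ed Gen.i V_831 = V_831 :=
  gap_rel RW_15 (path_edge (F_1738 IH) (path_edge (F_1737 IH) (path_edge (F_1739 IH) (path_nil _))))
theorem F_1741 (IH : D.IHyp) : ed Gen.d V_831 = V_832 :=
  rfl
theorem F_1742 (IH : D.IHyp) : ed Gen.d V_832 = V_831 :=
  flipE D.rels D.S (hinv Gen.d) (F_1741 IH)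
theorem F_1743 (IH : D.IHyp) : ed Gen.i V_832 = V_832 :=
  gap_rel RW_6 (path_edge (F_1741 IH) (path_edge (F_1740 IH) (path_edge (F_1742 IH) (path_nil _))))
theorem F_1744 (IH : D.IHyp) : ed Gen.b V_832 = V_833 :=
  rfl
theorem F_1745 (IH : D.IHyp) : ed Gen.b V_833 = V_832 :=
  flipE D.rels D.S (hinv Gen.b) (F_1744 IH)
theorem F_1746 (IH : D.IHyp) : ed Gen.i V_833 = V_833 :=
  gap_rel RW_36 (path_edge (F_1744 IH) (path_edge (F_1743 IH) (path_edge (F_1745 IH) (path_nil _))))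
theorem F_1747 (IH : D.IHyp) : ed Gen.c V_833 = V_834 :=
  rfl
theorem F_1748 (IH : D.IHyp) : ed Gen.c V_834 = V_833 :=
  flipE D.rels D.S (hinv Gen.c) (F_1747 IH)
theorem F_1749 (IH : D.IHyp) : ed Gen.i V_834 = V_834 :=
  gap_rel RW_2 (path_edge (F_1747 IH) (path_edge (F_1746 IH) (path_edge (F_1748 IH) (path_nil _))))
theorem F_1750 (IH : D.IHyp) : ed Gen.d V_834 = V_835 :=
  rfl
theorem F_1751 (IH : D.IHyp) : ed Gen.d V_835 = V_834 :=
  flipE D.rels D.S (hinv Gen.d) (F_1750 IH)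
theorem F_1752 (IH : D.IHyp) : ed Gen.i V_835 = V_835 :=
  gap_rel RW_6 (path_edge (F_1750 IH) (path_edge (F_1749 IH) (path_edge (F_1751 IH) (path_nil _))))
theorem F_1753 (IH : D.IHyp) : ed Gen.h V_835 = V_836 :=
  rfl
theorem F_1754 (IH : D.IHyp) : ed Gen.h V_836 = V_835 :=
  flipE D.rels D.S (hinv Gen.h) (F_1753 IH)
theorem F_1755 (IH : D.IHyp) : ed Gen.d V_836 = V_837 :=
  rfl
theorem F_1756 (IH : D.IHyp) : ed Gen.d V_837 = V_836 :=
  flipE D.rels D.S (hinv Gen.d) (F_1755 IH)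
theorem F_1757 (IH : D.IHyp) : ed Gen.f V_837 = V_838 :=
  rfl
theorem F_1758 (IH : D.IHyp) : ed Gen.f V_838 = V_837 :=
  flipE D.rels D.S (hinv Gen.f) (F_1757 IH)
theorem F_1759 (IH : D.IHyp) : ed Gen.e V_838 = V_839 :=
  rfl
theorem F_1760 (IH : D.IHyp) : ed Gen.e V_839 = V_838 :=
  flipE D.rels D.S (hinv Gen.e) (F_1759 IH)
theorem F_1761 (IH : D.IHyp) : ed Gen.d V_839 = V_840 :=
  rfl
theorem F_1762 (IH : D.IHyp) : ed Gen.d V_840 = V_839 :=
  flipE D.rels D.S (hinv Gen.d) (F_1761 IH)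
theorem F_1763 (IH : D.IHyp) : ed Gen.b V_840 = V_841 :=
  rfl
theorem F_1764 (IH : D.IHyp) : ed Gen.b V_841 = V_840 :=
  flipE D.rels D.S (hinv Gen.b) (F_1763 IH)
theorem F_1765 (IH : D.IHyp) : ed Gen.c V_841 = V_842 :=
  rfl
theorem F_1766 (IH : D.IHyp) : ed Gen.c V_842 = V_841 :=
  flipE D.rels D.S (hinv Gen.c) (F_1765 IH)
theorem F_1767 (IH : D.IHyp) : ed Gen.d V_842 = V_843 :=
  rfl
theorem F_1768 (IH : D.IHyp) : ed Gen.d V_843 = V_842 :=
  flipE D.rels D.S (hinv Gen.d) (F_1767 IH)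
theorem F_1769 (IH : D.IHyp) : ed Gen.i V_843 = V_844 :=
  rfl
theorem F_1770 (IH : D.IHyp) : ed Gen.i V_844 = V_843 :=
  flipE D.rels D.S (hinv Gen.i) (F_1769 IH)
theorem F_1771 (IH : D.IHyp) : ed Gen.h V_844 = V_845 :=
  rfl
theorem F_1772 (IH : D.IHyp) : ed Gen.h V_845 = V_844 :=
  flipE D.rels D.S (hinv Gen.h) (F_1771 IH)
theorem F_1773 (IH : D.IHyp) : ed Gen.d V_845 = V_846 :=
  rfl
theorem F_1774 (IH : D.IHyp) : ed Gen.d V_846 = V_845 :=
  flipE D.rels D.S (hinv Gen.d) (F_1773 IH)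
theorem F_1775 (IH : D.IHyp) : ed Gen.f V_846 = V_847 :=
  rfl
theorem F_1776 (IH : D.IHyp) : ed Gen.f V_847 = V_846 :=
  flipE D.rels D.S (hinv Gen.f) (F_1775 IH)
theorem F_1777 (IH : D.IHyp) : ed Gen.e V_847 = V_848 :=
  rfl
theorem F_1778 (IH : D.IHyp) : ed Gen.e V_848 = V_847 :=
  flipE D.rels D.S (hinv Gen.e) (F_1777 IH)
theorem F_1779 (IH : D.IHyp) : ed Gen.d V_848 = V_849 :=
  rfl
theorem F_1780 (IH : D.IHyp) : ed Gen.d V_849 = V_848 :=
  flipE D.rels D.S (hinv Gen.d) (F_1779 IH)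
theorem F_1781 (IH : D.IHyp) : ed Gen.b V_849 = V_850 :=
  rfl
theorem F_1782 (IH : D.IHyp) : ed Gen.b V_850 = V_849 :=
  flipE D.rels D.S (hinv Gen.b) (F_1781 IH)
theorem F_1783 (IH : D.IHyp) : ed Gen.c V_850 = V_851 :=
  rfl
theorem F_1784 (IH : D.IHyp) : ed Gen.c V_851 = V_850 :=
  flipE D.rels D.S (hinv Gen.c) (F_1783 IH)
theorem F_1785 (IH : D.IHyp) : ed Gen.d V_851 = V_852 :=
  rfl
theorem F_1786 (IH : D.IHyp) : ed Gen.d V_852 = V_851 :=
  flipE D.rels D.S (hinv Gen.d) (F_1785 IH)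
theorem F_1787 (IH : D.IHyp) : ed Gen.i V_852 = V_853 :=
  rfl
theorem F_1788 (IH : D.IHyp) : ed Gen.i V_853 = V_852 :=
  flipE D.rels D.S (hinv Gen.i) (F_1787 IH)
theorem F_1789 (IH : D.IHyp) : ed Gen.h V_853 = V_854 :=
  rfl
theorem F_1790 (IH : D.IHyp) : ed Gen.h V_854 = V_853 :=
  flipE D.rels D.S (hinv Gen.h) (F_1789 IH)
theorem F_1791 (IH : D.IHyp) : ed Gen.d V_854 = V_855 :=
  rfl
theorem F_1792 (IH : D.IHyp) : ed Gen.d V_855 = V_854 :=
  flipE D.rels D.S (hinv Gen.d) (F_1791 IH)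
theorem F_1793 (IH : D.IHyp) : ed Gen.f V_855 = V_856 :=
  rfl
theorem F_1794 (IH : D.IHyp) : ed Gen.f V_856 = V_855 :=
  flipE D.rels D.S (hinv Gen.f) (F_1793 IH)
theorem F_1795 (IH : D.IHyp) : ed Gen.e V_856 = V_857 :=
  rfl
theorem F_1796 (IH : D.IHyp) : ed Gen.e V_857 = V_856 :=
  flipE D.rels D.S (hinv Gen.e) (F_1795 IH)
theorem F_1797 (IH : D.IHyp) : ed Gen.d V_857 = V_858 :=
  rfl
theorem F_1798 (IH : D.IHyp) : ed Gen.d V_858 = V_857 :=
  flipE D.rels D.S (hinv Gen.d) (F_1797 IH)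
theorem F_1799 (IH : D.IHyp) : ed Gen.b V_858 = V_859 :=
  rfl
theorem F_1800 (IH : D.IHyp) : ed Gen.b V_859 = V_858 :=
  flipE D.rels D.S (hinv Gen.b) (F_1799 IH)
theorem F_1801 (IH : D.IHyp) : ed Gen.c V_859 = V_860 :=
  rfl
theorem F_1802 (IH : D.IHyp) : ed Gen.c V_860 = V_859 :=
  flipE D.rels D.S (hinv Gen.c) (F_1801 IH)
theorem F_1803 (IH : D.IHyp) : ed Gen.d V_860 = V_861 :=
  rfl
theorem F_1804 (IH : D.IHyp) : ed Gen.d V_861 = V_860 :=
  flipE D.rels D.S (hinv Gen.d) (F_1803 IH)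
theorem F_1805 (IH : D.IHyp) : ed Gen.i V_861 = V_862 :=
  rfl
theorem F_1806 (IH : D.IHyp) : ed Gen.i V_862 = V_861 :=
  flipE D.rels D.S (hinv Gen.i) (F_1805 IH)
theorem F_1807 (IH : D.IHyp) : ed Gen.h V_862 = V_863 :=
  rfl
theorem F_1808 (IH : D.IHyp) : ed Gen.h V_863 = V_862 :=
  flipE D.rels D.S (hinv Gen.h) (F_1807 IH)
theorem F_1809 (IH : D.IHyp) : ed Gen.d V_863 = V_864 :=
  rfl
theorem F_1810 (IH : D.IHyp) : ed Gen.d V_864 = V_863 :=
  flipE D.rels D.S (hinv Gen.d) (F_1809 IH)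
theorem F_1811 (IH : D.IHyp) : ed Gen.f V_864 = V_865 :=
  rfl
theorem F_1812 (IH : D.IHyp) : ed Gen.f V_865 = V_864 :=
  flipE D.rels D.S (hinv Gen.f) (F_1811 IH)
theorem F_1813 (IH : D.IHyp) : ed Gen.e V_865 = V_866 :=
  rfl
theorem F_1814 (IH : D.IHyp) : ed Gen.e V_866 = V_865 :=
  flipE D.rels D.S (hinv Gen.e) (F_1813 IH)
theorem F_1815 (IH : D.IHyp) : ed Gen.d V_866 = V_867 :=
  rfl
theorem F_1816 (IH : D.IHyp) : ed Gen.d V_867 = V_866 :=
  flipE D.rels D.S (hinv Gen.d) (F_1815 IH)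
theorem F_1817 (IH : D.IHyp) : ed Gen.b V_867 = V_868 :=
  rfl
theorem F_1818 (IH : D.IHyp) : ed Gen.b V_868 = V_867 :=
  flipE D.rels D.S (hinv Gen.b) (F_1817 IH)
theorem F_1819 (IH : D.IHyp) : ed Gen.c V_868 = V_869 :=
  rfl
theorem F_1820 (IH : D.IHyp) : ed Gen.c V_869 = V_868 :=
  flipE D.rels D.S (hinv Gen.c) (F_1819 IH)
theorem F_1821 (IH : D.IHyp) : ed Gen.d V_869 = V_870 :=
  rfl
theorem F_1822 (IH : D.IHyp) : ed Gen.d V_870 = V_869 :=
  flipE D.rels D.S (hinv Gen.d) (F_1821 IH)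
theorem F_1823 (IH : D.IHyp) : ed Gen.i V_870 = V_871 :=
  rfl
theorem F_1824 (IH : D.IHyp) : ed Gen.i V_871 = V_870 :=
  flipE D.rels D.S (hinv Gen.i) (F_1823 IH)
theorem F_1825 (IH : D.IHyp) : ed Gen.h V_871 = V_872 :=
  rfl
theorem F_1826 (IH : D.IHyp) : ed Gen.h V_872 = V_871 :=
  flipE D.rels D.S (hinv Gen.h) (F_1825 IH)
theorem F_1827 (IH : D.IHyp) : ed Gen.d V_872 = V_873 :=
  rfl
theorem F_1828 (IH : D.IHyp) : ed Gen.d V_873 = V_872 :=
  flipE D.rels D.S (hinv Gen.d) (F_1827 IH)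
theorem F_1829 (IH : D.IHyp) : ed Gen.f V_873 = V_874 :=
  rfl
theorem F_1830 (IH : D.IHyp) : ed Gen.f V_874 = V_873 :=
  flipE D.rels D.S (hinv Gen.f) (F_1829 IH)
theorem F_1831 (IH : D.IHyp) : ed Gen.e V_874 = V_875 :=
  rfl
theorem F_1832 (IH : D.IHyp) : ed Gen.e V_875 = V_874 :=
  flipE D.rels D.S (hinv Gen.e) (F_1831 IH)
theorem F_1833 (IH : D.IHyp) : ed Gen.d V_875 = V_876 :=
  rfl
theorem F_1834 (IH : D.IHyp) : ed Gen.d V_876 = V_875 :=
  flipE D.rels D.S (hinv Gen.d) (F_1833 IH)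
theorem F_1835 (IH : D.IHyp) : ed Gen.b V_876 = V_877 :=
  rfl
theorem F_1836 (IH : D.IHyp) : ed Gen.b V_877 = V_876 :=
  flipE D.rels D.S (hinv Gen.b) (F_1835 IH)
theorem F_1837 (IH : D.IHyp) : ed Gen.c V_877 = V_878 :=
  rfl
theorem F_1838 (IH : D.IHyp) : ed Gen.c V_878 = V_877 :=
  flipE D.rels D.S (hinv Gen.c) (F_1837 IH)
theorem F_1839 (IH : D.IHyp) : ed Gen.d V_878 = V_879 :=
  rfl
theorem F_1840 (IH : D.IHyp) : ed Gen.d V_879 = V_878 :=
  flipE D.rels D.S (hinv Gen.d) (F_1839 IH)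
theorem F_1841 (IH : D.IHyp) : ed Gen.i V_737 = V_879 :=
  gap_rel RW_37 (path_edge (F_841 IH) (path_edge (F_110 IH) (path_edge (F_7 IH) (path_edge (F_5 IH) (path_edge (F_111 IH) (path_edge (F_112 IH) (path_edge (F_115 IH) (path_edge (F_31 IH) (path_edge (F_119 IH) (path_edge (F_120 IH) (path_edge (F_117 IH) (path_edge (F_121 IH) (path_edge (F_181 IH) (path_edge (F_208 IH) (path_edge (F_221 IH) (path_edge (F_1663 IH) (path_edge (F_126 IH) (path_edge (F_127 IH) (path_edge (F_1662 IH) (path_edge (F_1023 IH) (path_edge (F_831 IH) (path_edge (F_131 IH) (path_edge (F_161 IH) (path_edge (F_133 IH) (path_edge (F_1661 IH) (path_edge (F_1071 IH) (path_edge (F_1660 IH) (path_edge (F_1646 IH) (path_edge (F_138 IH) (path_edge (F_1638 IH) (path_edge (F_140 IH) (path_edge (F_141 IH) (path_edge (F_1635 IH) (path_edge (F_1717 IH) (path_edge (F_1722 IH) (path_edge (F_1726 IH) (path_edge (F_1729 IH) (path_edge (F_1733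 IH) (path_edge (F_1736 IH) (path_edge (F_1739 IH) (path_edge (F_1742 IH) (path_edge (F_1745 IH) (path_edge (F_1748 IH) (path_edge (F_1751 IH) (path_edge (F_1752 IH) (path_edge (F_1754 IH) (path_edge (F_1756 IH) (path_edge (F_1758 IH) (path_edge (F_1760 IH) (path_edge (F_1762 IH) (path_edge (F_1764 IH) (path_edge (F_1766 IH) (path_edge (F_1768 IH) (path_edge (F_1770 IH) (path_edge (F_1772 IH) (path_edge (F_1774 IH) (path_edge (F_1776 IH) (path_edge (F_1778 IH) (path_edge (F_1780 IH) (path_edge (F_1782 IH) (path_edge (F_1784 IH) (path_edge (F_1786 IH) (path_edge (F_1788 IH) (path_edge (F_1790 IH) (path_edge (F_1792 IH) (path_edge (F_1794 IH) (path_edge (F_1796 IH) (path_edge (F_1798 IH) (path_edge (F_1800 IH) (path_edge (F_1802 IH) (path_edge (F_1804 IH) (path_edge (F_1806 IH) (path_edge (F_1808 IH) (path_edge (F_1810 IH) (path_edge (F_1812 IH) (path_edge (F_1814 IH) (path_edge (F_1816 IH) (path_edge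 (F_1818 IH) (path_edge (F_1820 IH) (path_edge (F_1822 IH) (path_edge (F_1824 IH) (path_edge (F_1826 IH) (path_edge (F_1828 IH) (path_edge (F_1830 IH) (path_edge (F_1832 IH) (path_edge (F_1834 IH) (path_edge (F_1836 IH) (path_edge (F_1838 IH) (path_edge (F_1840 IH) (path_nil _))))))))))))))))))))))))))))))))))))))))))))))))))))))))))))))))))))))))))))))))))))))))))
theorem F_1842 (IH : D.IHyp) : ed Gen.i V_879 = V_737 :=
  flipE D.rels D.S (hinv Gen.i) (F_1841 IH)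
theorem F_1843 (IH : D.IHyp) : ed Gen.b V_879 = V_879 :=
  gap_rel RW_17 (path_edge (F_1841 IH) (path_edge (F_843 IH) (path_edge (F_1842 IH) (path_nil _))))
theorem F_1844 (IH : D.IHyp) : ed Gen.b V_878 = V_878 :=
  gap_rel RW_4 (path_edge (F_1840 IH) (path_edge (F_1843 IH) (path_edge (F_1839 IH) (path_nil _))))
theorem F_1845 (IH : D.IHyp) : ed Gen.i V_878 = V_738 :=
  gap_rel RW_6 (path_edge (F_1840 IH) (path_edge (F_1841 IH) (path_edge (F_846 IH) (path_nil _))))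
theorem F_1846 (IH : D.IHyp) : ed Gen.i V_738 = V_878 :=
  flipE D.rels D.S (hinv Gen.i) (F_1845 IH)
theorem F_1847 (IH : D.IHyp) : ed Gen.f V_879 = V_879 :=
  gap_rel RW_19 (path_edge (F_1841 IH) (path_edge (F_844 IH) (path_edge (F_1842 IH) (path_nil _))))
theorem F_1848 (IH : D.IHyp) : ed Gen.h V_879 = V_879 :=
  gap_rel RW_20 (path_edge (F_1841 IH) (path_edge (F_841 IH) (path_edge (F_114 IH) (path_edge (F_842 IH) (path_edge (F_1842 IH) (path_nil _))))))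
theorem F_1849 (IH : D.IHyp) : ed Gen.f V_878 = V_878 :=
  gap_rel RW_5 (path_edge (F_1840 IH) (path_edge (F_1847 IH) (path_edge (F_1839 IH) (path_nil _))))
theorem F_1850 (IH : D.IHyp) : ed Gen.f V_877 = V_877 :=
  gap_rel RW_1 (path_edge (F_1838 IH) (path_edge (F_1849 IH) (path_edge (F_1837 IH) (path_nil _))))
theorem F_1851 (IH : D.IHyp) : ed Gen.i V_877 = V_738 :=
  gap_rel RW_2 (path_edge (F_1838 IH) (path_edge (F_1846 IH) (path_edge (F_856 IH) (path_nil _))))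
theorem F_1852 (IH : D.IHyp) : ed Gen.i V_738 = V_877 :=
  flipE D.rels D.S (hinv Gen.i) (F_1851 IH)
theorem F_1853 (IH : D.IHyp) : V_878 = V_877 :=
  edge_fun (F_1846 IH) (F_1852 IH)
theorem F_1854 (IH : D.IHyp) : ed Gen.b V_878 = V_877 :=
  (F_1844 IH).trans (F_1853 IH)
theorem F_1855 (IH : D.IHyp) : ed Gen.b V_877 = V_877 :=
  edge_congr (F_1854 IH) (F_1853 IH)
theorem F_1856 (IH : D.IHyp) : V_876 = V_877 :=
  edge_fun (F_1836 IH) (F_1855 IH)
theorem F_1860 (IH : D.IHyp) : ed Gen.d V_877 = V_879 :=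
  edge_congr (F_1839 IH) (F_1853 IH)
theorem F_1866 (IH : D.IHyp) : V_877 = V_876 :=
  (F_1856 IH).symm
theorem F_1867 (IH : D.IHyp) : ed Gen.b V_876 = V_876 :=
  edge_congr (F_1836 IH) (F_1866 IH)
theorem F_1870 (IH : D.IHyp) : ed Gen.d V_876 = V_879 :=
  edge_congr (F_1860 IH) (F_1866 IH)
theorem F_1871 (IH : D.IHyp) : V_875 = V_879 :=
  edge_fun (F_1834 IH) (F_1870 IH)
theorem F_1873 (IH : D.IHyp) : ed Gen.f V_877 = V_876 :=
  (F_1850 IH).trans (F_1866 IH)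
theorem F_1874 (IH : D.IHyp) : ed Gen.f V_876 = V_876 :=
  edge_congr (F_1873 IH) (F_1866 IH)
theorem F_1875 (IH : D.IHyp) : ed Gen.i V_876 = V_738 :=
  edge_congr (F_1851 IH) (F_1866 IH)
theorem F_1877 (IH : D.IHyp) : V_879 = V_875 :=
  (F_1871 IH).symm
theorem F_1878 (IH : D.IHyp) : ed Gen.b V_879 = V_875 :=
  (F_1843 IH).trans (F_1877 IH)
theorem F_1879 (IH : D.IHyp) : ed Gen.b V_875 = V_875 :=
  edge_congr (F_1878 IH) (F_1877 IH)
theorem F_1881 (IH : D.IHyp) : ed Gen.f V_879 = V_875 :=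
  (F_1847 IH).trans (F_1877 IH)
theorem F_1882 (IH : D.IHyp) : ed Gen.f V_875 = V_875 :=
  edge_congr (F_1881 IH) (F_1877 IH)
theorem F_1883 (IH : D.IHyp) : ed Gen.h V_879 = V_875 :=
  (F_1848 IH).trans (F_1877 IH)
theorem F_1884 (IH : D.IHyp) : ed Gen.h V_875 = V_875 :=
  edge_congr (F_1883 IH) (F_1877 IH)
theorem F_1885 (IH : D.IHyp) : ed Gen.i V_875 = V_737 :=
  edge_congr (F_1842 IH) (F_1877 IH)
theorem F_1886 (IH : D.IHyp) : ed Gen.i V_737 = V_875 :=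
  flipE D.rels D.S (hinv Gen.i) (F_1885 IH)
theorem F_1888 (IH : D.IHyp) : ed Gen.h V_874 = V_874 :=
  gap_rel RW_38 (path_edge (F_1832 IH) (path_edge (F_1884 IH) (path_edge (F_1831 IH) (path_nil _))))
theorem F_1891 (IH : D.IHyp) : ed Gen.h V_873 = V_873 :=
  gap_rel RW_39 (path_edge (F_1830 IH) (path_edge (F_1888 IH) (path_edge (F_1829 IH) (path_nil _))))
theorem F_1893 (IH : D.IHyp) : ed Gen.d V_871 = V_871 :=
  gap_rel RW_12 (path_edge (F_1826 IH) (path_edge (F_1828 IH) (path_edge (F_1891 IH) (path_edge (F_1827 IH) (path_edge (F_1825 IH) (path_nil _))))))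
theorem F_1896 (IH : D.IHyp) : ed Gen.i V_869 = V_871 :=
  gap_rel RW_6 (path_edge (F_1822 IH) (path_edge (F_1824 IH) (path_edge (F_1893 IH) (path_nil _))))
theorem F_1897 (IH : D.IHyp) : ed Gen.i V_871 = V_869 :=
  flipE D.rels D.S (hinv Gen.i) (F_1896 IH)
theorem F_1898 (IH : D.IHyp) : V_870 = V_869 :=
  edge_fun (F_1824 IH) (F_1897 IH)
theorem F_1902 (IH : D.IHyp) : ed Gen.i V_869 = V_871 :=
  edge_congr (F_1823 IH) (F_1898 IH)
theorem F_1903 (IH : D.IHyp) : ed Gen.i V_871 = V_869 :=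
  flipE D.rels D.S (hinv Gen.i) (F_1902 IH)
theorem F_1905 (IH : D.IHyp) : ed Gen.c (D.P 574) = V_880 :=
  rfl
theorem F_1906 (IH : D.IHyp) : ed Gen.c V_880 = (D.P 574) :=
  flipE D.rels D.S (hinv Gen.c) (F_1905 IH)
theorem F_1908 (IH : D.IHyp) : ed Gen.d (D.P 513) = (D.P 442) :=
  D.real_edge' IH Gen.d 513 442 (by decide +kernel)
theorem F_1910 (IH : D.IHyp) : ed Gen.e (D.P 513) = (D.P 513) :=
  D.real_edge' IH Gen.e 513 513 (by decide +kernel)
theorem F_1912 (IH : D.IHyp) : ed Gen.e (D.P 574) = (D.P 574) :=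
  D.real_edge' IH Gen.e 574 574 (by decide +kernel)
theorem F_1913 (IH : D.IHyp) : ed Gen.f (D.P 513) = (D.P 513) :=
  D.real_edge' IH Gen.f 513 513 (by decide +kernel)
theorem F_1920 (IH : D.IHyp) : ed Gen.e V_880 = V_880 :=
  gap_rel RW_0 (path_edge (F_1905 IH) (path_edge (F_1912 IH) (path_edge (F_1906 IH) (path_nil _))))
theorem F_1924 (IH : D.IHyp) : ed Gen.d (D.P 574) = (D.P 509) :=
  D.real_edge' IH Gen.d 574 509 (by decide +kernel)
theorem F_1925 (IH : D.IHyp) : ed Gen.b (D.P 509) = (D.P 442) :=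
  D.real_edge' IH Gen.b 509 442 (by decide +kernel)
theorem F_1937 (IH : D.IHyp) : ed Gen.h (D.P 509) = (D.P 438) :=
  D.real_edge' IH Gen.h 509 438 (by decide +kernel)
theorem F_1999 (IH : D.IHyp) : ed Gen.b (D.P 356) = (D.P 289) :=
  D.real_edge' IH Gen.b 356 289 (by decide +kernel)
theorem F_2000 (IH : D.IHyp) : ed Gen.c (D.P 289) = (D.P 229) :=
  D.real_edge' IH Gen.c 289 229 (by decide +kernel)
theorem F_2001 (IH : D.IHyp) : ed Gen.i (D.P 275) = (D.P 221) :=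
  D.real_edge' IH Gen.i 275 221 (by decide +kernel)
theorem F_2002 (IH : D.IHyp) : ed Gen.f (D.P 179) = (D.P 135) :=
  D.real_edge' IH Gen.f 179 135 (by decide +kernel)
theorem F_2003 (IH : D.IHyp) : ed Gen.e (D.P 135) = (D.P 102) :=
  D.real_edge' IH Gen.e 135 102 (by decide +kernel)
theorem F_2004 (IH : D.IHyp) : ed Gen.e (D.P 86) = (D.P 116) :=
  D.real_edge' IH Gen.e 86 116 (by decide +kernel)
theorem F_2007 (IH : D.IHyp) : ed Gen.b (D.P 568) = (D.P 568) :=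
  D.real_edge' IH Gen.b 568 568 (by decide +kernel)
theorem F_2012 (IH : D.IHyp) : ed Gen.b V_880 = V_881 :=
  rfl
theorem F_2013 (IH : D.IHyp) : ed Gen.b V_881 = V_880 :=
  flipE D.rels D.S (hinv Gen.b) (F_2012 IH)
theorem F_2014 (IH : D.IHyp) : ed Gen.e V_881 = V_881 :=
  gap_rel RW_30 (path_edge (F_2012 IH) (path_edge (F_1920 IH) (path_edge (F_2013 IH) (path_nil _))))
theorem F_2017 (IH : D.IHyp) : ed Gen.d V_881 = V_882 :=
  rfl
theorem F_2018 (IH : D.IHyp) : ed Gen.d V_882 = V_881 :=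
  flipE D.rels D.S (hinv Gen.d) (F_2017 IH)
theorem F_2021 (IH : D.IHyp) : ed Gen.e V_882 = V_883 :=
  rfl
theorem F_2022 (IH : D.IHyp) : ed Gen.e V_883 = V_882 :=
  flipE D.rels D.S (hinv Gen.e) (F_2021 IH)
theorem F_2024 (IH : D.IHyp) : ed Gen.d V_883 = V_883 :=
  gap_rel RW_16 (path_edge (F_2021 IH) (path_edge (F_2017 IH) (path_edge (F_2014 IH) (path_edge (F_2018 IH) (path_edge (F_2022 IH) (path_nil _))))))
theorem F_2025 (IH : D.IHyp) : ed Gen.f V_883 = V_884 :=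
  rfl
theorem F_2026 (IH : D.IHyp) : ed Gen.f V_884 = V_883 :=
  flipE D.rels D.S (hinv Gen.f) (F_2025 IH)
theorem F_2027 (IH : D.IHyp) : ed Gen.d V_884 = V_884 :=
  gap_rel RW_40 (path_edge (F_2025 IH) (path_edge (F_2024 IH) (path_edge (F_2026 IH) (path_nil _))))
theorem F_2030 (IH : D.IHyp) : ed Gen.h V_884 = V_885 :=
  rfl
theorem F_2031 (IH : D.IHyp) : ed Gen.h V_885 = V_884 :=
  flipE D.rels D.S (hinv Gen.h) (F_2030 IH)
theorem F_2033 (IH : D.IHyp) : ed Gen.i V_885 = V_886 :=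
  rfl
theorem F_2034 (IH : D.IHyp) : ed Gen.i V_886 = V_885 :=
  flipE D.rels D.S (hinv Gen.i) (F_2033 IH)
theorem F_2037 (IH : D.IHyp) : ed Gen.d V_886 = V_887 :=
  rfl
theorem F_2038 (IH : D.IHyp) : ed Gen.d V_887 = V_886 :=
  flipE D.rels D.S (hinv Gen.d) (F_2037 IH)
theorem F_2039 (IH : D.IHyp) : ed Gen.c V_887 = V_888 :=
  rfl
theorem F_2040 (IH : D.IHyp) : ed Gen.c V_888 = V_887 :=
  flipE D.rels D.S (hinv Gen.c) (F_2039 IH)
theorem F_2041 (IH : D.IHyp) : ed Gen.b V_888 = V_889 :=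
  rfl
theorem F_2042 (IH : D.IHyp) : ed Gen.b V_889 = V_888 :=
  flipE D.rels D.S (hinv Gen.b) (F_2041 IH)
theorem F_2043 (IH : D.IHyp) : ed Gen.d V_889 = V_890 :=
  rfl
theorem F_2044 (IH : D.IHyp) : ed Gen.d V_890 = V_889 :=
  flipE D.rels D.S (hinv Gen.d) (F_2043 IH)
theorem F_2045 (IH : D.IHyp) : ed Gen.e V_890 = V_891 :=
  rfl
theorem F_2046 (IH : D.IHyp) : ed Gen.e V_891 = V_890 :=
  flipE D.rels D.S (hinv Gen.e) (F_2045 IH)
theorem F_2047 (IH : D.IHyp) : ed Gen.f V_891 = V_892 :=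
  rfl
theorem F_2048 (IH : D.IHyp) : ed Gen.f V_892 = V_891 :=
  flipE D.rels D.S (hinv Gen.f) (F_2047 IH)
theorem F_2049 (IH : D.IHyp) : ed Gen.d V_892 = V_893 :=
  rfl
theorem F_2050 (IH : D.IHyp) : ed Gen.d V_893 = V_892 :=
  flipE D.rels D.S (hinv Gen.d) (F_2049 IH)
theorem F_2051 (IH : D.IHyp) : ed Gen.h V_893 = V_894 :=
  rfl
theorem F_2052 (IH : D.IHyp) : ed Gen.h V_894 = V_893 :=
  flipE D.rels D.S (hinv Gen.h) (F_2051 IH)
theorem F_2053 (IH : D.IHyp) : ed Gen.i V_894 = V_895 :=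
  rfl
theorem F_2054 (IH : D.IHyp) : ed Gen.i V_895 = V_894 :=
  flipE D.rels D.S (hinv Gen.i) (F_2053 IH)
theorem F_2055 (IH : D.IHyp) : ed Gen.d V_895 = V_896 :=
  rfl
theorem F_2056 (IH : D.IHyp) : ed Gen.d V_896 = V_895 :=
  flipE D.rels D.S (hinv Gen.d) (F_2055 IH)
theorem F_2057 (IH : D.IHyp) : ed Gen.c V_896 = V_897 :=
  rfl
theorem F_2058 (IH : D.IHyp) : ed Gen.c V_897 = V_896 :=
  flipE D.rels D.S (hinv Gen.c) (F_2057 IH)
theorem F_2059 (IH : D.IHyp) : ed Gen.b V_897 = V_898 :=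
  rfl
theorem F_2060 (IH : D.IHyp) : ed Gen.b V_898 = V_897 :=
  flipE D.rels D.S (hinv Gen.b) (F_2059 IH)
theorem F_2061 (IH : D.IHyp) : ed Gen.d V_898 = V_899 :=
  rfl
theorem F_2062 (IH : D.IHyp) : ed Gen.d V_899 = V_898 :=
  flipE D.rels D.S (hinv Gen.d) (F_2061 IH)
theorem F_2063 (IH : D.IHyp) : ed Gen.e V_899 = V_900 :=
  rfl
theorem F_2064 (IH : D.IHyp) : ed Gen.e V_900 = V_899 :=
  flipE D.rels D.S (hinv Gen.e) (F_2063 IH)
theorem F_2065 (IH : D.IHyp) : ed Gen.f V_900 = V_901 :=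
  rfl
theorem F_2066 (IH : D.IHyp) : ed Gen.f V_901 = V_900 :=
  flipE D.rels D.S (hinv Gen.f) (F_2065 IH)
theorem F_2067 (IH : D.IHyp) : ed Gen.d V_901 = V_902 :=
  rfl
theorem F_2068 (IH : D.IHyp) : ed Gen.d V_902 = V_901 :=
  flipE D.rels D.S (hinv Gen.d) (F_2067 IH)
theorem F_2069 (IH : D.IHyp) : ed Gen.h V_902 = V_903 :=
  rfl
theorem F_2070 (IH : D.IHyp) : ed Gen.h V_903 = V_902 :=
  flipE D.rels D.S (hinv Gen.h) (F_2069 IH)
theorem F_2071 (IH : D.IHyp) : ed Gen.i V_903 = V_904 :=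
  rfl
theorem F_2072 (IH : D.IHyp) : ed Gen.i V_904 = V_903 :=
  flipE D.rels D.S (hinv Gen.i) (F_2071 IH)
theorem F_2073 (IH : D.IHyp) : ed Gen.d V_904 = V_905 :=
  rfl
theorem F_2074 (IH : D.IHyp) : ed Gen.d V_905 = V_904 :=
  flipE D.rels D.S (hinv Gen.d) (F_2073 IH)
theorem F_2075 (IH : D.IHyp) : ed Gen.c V_905 = V_906 :=
  rfl
theorem F_2076 (IH : D.IHyp) : ed Gen.c V_906 = V_905 :=
  flipE D.rels D.S (hinv Gen.c) (F_2075 IH)
theorem F_2077 (IH : D.IHyp) : ed Gen.b V_906 = V_907 :=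
  rfl
theorem F_2078 (IH : D.IHyp) : ed Gen.b V_907 = V_906 :=
  flipE D.rels D.S (hinv Gen.b) (F_2077 IH)
theorem F_2079 (IH : D.IHyp) : ed Gen.d V_907 = V_908 :=
  rfl
theorem F_2080 (IH : D.IHyp) : ed Gen.d V_908 = V_907 :=
  flipE D.rels D.S (hinv Gen.d) (F_2079 IH)
theorem F_2081 (IH : D.IHyp) : ed Gen.e V_908 = V_909 :=
  rfl
theorem F_2082 (IH : D.IHyp) : ed Gen.e V_909 = V_908 :=
  flipE D.rels D.S (hinv Gen.e) (F_2081 IH)
theorem F_2083 (IH : D.IHyp) : ed Gen.f V_909 = V_910 :=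
  rfl
theorem F_2084 (IH : D.IHyp) : ed Gen.f V_910 = V_909 :=
  flipE D.rels D.S (hinv Gen.f) (F_2083 IH)
theorem F_2085 (IH : D.IHyp) : ed Gen.d V_910 = V_911 :=
  rfl
theorem F_2086 (IH : D.IHyp) : ed Gen.d V_911 = V_910 :=
  flipE D.rels D.S (hinv Gen.d) (F_2085 IH)
theorem F_2087 (IH : D.IHyp) : ed Gen.h V_911 = V_912 :=
  rfl
theorem F_2088 (IH : D.IHyp) : ed Gen.h V_912 = V_911 :=
  flipE D.rels D.S (hinv Gen.h) (F_2087 IH)
theorem F_2089 (IH : D.IHyp) : ed Gen.i V_912 = V_913 :=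
  rfl
theorem F_2090 (IH : D.IHyp) : ed Gen.i V_913 = V_912 :=
  flipE D.rels D.S (hinv Gen.i) (F_2089 IH)
theorem F_2091 (IH : D.IHyp) : ed Gen.d V_913 = V_914 :=
  rfl
theorem F_2092 (IH : D.IHyp) : ed Gen.d V_914 = V_913 :=
  flipE D.rels D.S (hinv Gen.d) (F_2091 IH)
theorem F_2093 (IH : D.IHyp) : ed Gen.c V_914 = V_915 :=
  rfl
theorem F_2094 (IH : D.IHyp) : ed Gen.c V_915 = V_914 :=
  flipE D.rels D.S (hinv Gen.c) (F_2093 IH)
theorem F_2095 (IH : D.IHyp) : ed Gen.b V_915 = V_916 :=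
  rfl
theorem F_2096 (IH : D.IHyp) : ed Gen.b V_916 = V_915 :=
  flipE D.rels D.S (hinv Gen.b) (F_2095 IH)
theorem F_2097 (IH : D.IHyp) : ed Gen.d V_916 = V_917 :=
  rfl
theorem F_2098 (IH : D.IHyp) : ed Gen.d V_917 = V_916 :=
  flipE D.rels D.S (hinv Gen.d) (F_2097 IH)
theorem F_2099 (IH : D.IHyp) : ed Gen.e V_917 = V_918 :=
  rfl
theorem F_2100 (IH : D.IHyp) : ed Gen.e V_918 = V_917 :=
  flipE D.rels D.S (hinv Gen.e) (F_2099 IH)
theorem F_2101 (IH : D.IHyp) : ed Gen.f V_918 = V_919 :=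
  rfl
theorem F_2102 (IH : D.IHyp) : ed Gen.f V_919 = V_918 :=
  flipE D.rels D.S (hinv Gen.f) (F_2101 IH)
theorem F_2103 (IH : D.IHyp) : ed Gen.d V_919 = V_920 :=
  rfl
theorem F_2104 (IH : D.IHyp) : ed Gen.d V_920 = V_919 :=
  flipE D.rels D.S (hinv Gen.d) (F_2103 IH)
theorem F_2105 (IH : D.IHyp) : ed Gen.h V_920 = V_921 :=
  rfl
theorem F_2106 (IH : D.IHyp) : ed Gen.h V_921 = V_920 :=
  flipE D.rels D.S (hinv Gen.h) (F_2105 IH)
theorem F_2107 (IH : D.IHyp) : ed Gen.i V_921 = V_922 :=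
  rfl
theorem F_2108 (IH : D.IHyp) : ed Gen.i V_922 = V_921 :=
  flipE D.rels D.S (hinv Gen.i) (F_2107 IH)
theorem F_2109 (IH : D.IHyp) : ed Gen.d V_922 = V_923 :=
  rfl
theorem F_2110 (IH : D.IHyp) : ed Gen.d V_923 = V_922 :=
  flipE D.rels D.S (hinv Gen.d) (F_2109 IH)
theorem F_2111 (IH : D.IHyp) : ed Gen.c V_923 = V_924 :=
  rfl
theorem F_2112 (IH : D.IHyp) : ed Gen.c V_924 = V_923 :=
  flipE D.rels D.S (hinv Gen.c) (F_2111 IH)
theorem F_2113 (IH : D.IHyp) : ed Gen.b V_924 = V_925 :=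
  rfl
theorem F_2114 (IH : D.IHyp) : ed Gen.b V_925 = V_924 :=
  flipE D.rels D.S (hinv Gen.b) (F_2113 IH)
theorem F_2115 (IH : D.IHyp) : ed Gen.d V_925 = V_926 :=
  rfl
theorem F_2116 (IH : D.IHyp) : ed Gen.d V_926 = V_925 :=
  flipE D.rels D.S (hinv Gen.d) (F_2115 IH)
theorem F_2117 (IH : D.IHyp) : ed Gen.e V_739 = V_926 :=
  gap_rel RW_28 (path_edge (F_852 IH) (path_edge (F_853 IH) (path_edge (F_460 IH) (path_edge (F_10 IH) (path_edge (F_111 IH) (path_edge (F_115 IH) (path_edge (F_177 IH) (path_edge (F_189 IH) (path_edge (F_2004 IH) (path_edge (F_782 IH) (path_edge (F_266 IH) (path_edge (F_1101 IH) (path_edge (F_1013 IH) (path_edge (F_57 IH) (path_edge (F_547 IH) (path_edge (F_149 IH) (path_edge (F_546 IH) (path_edge (F_151 IH) (path_edge (F_1249 IH) (path_edge (F_789 IH) (path_edge (F_154 IH) (path_edge (F_1685 IH) (path_edge (F_158 IH) (path_edge (F_156 IH) (path_edge (F_157 IH) (path_edge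 (F_48 IH) (path_edge (F_2003 IH) (path_edge (F_2002 IH) (path_edge (F_132 IH) (path_edge (F_162 IH) (path_edge (F_2001 IH) (path_edge (F_1690 IH) (path_edge (F_2000 IH) (path_edge (F_1999 IH) (path_edge (F_951 IH) (path_edge (F_972 IH) (path_edge (F_169 IH) (path_edge (F_1489 IH) (path_edge (F_1937 IH) (path_edge (F_172 IH) (path_edge (F_1924 IH) (path_edge (F_1906 IH) (path_edge (F_2013 IH) (path_edge (F_2018 IH) (path_edge (F_2022 IH) (path_edge (F_2026 IH) (path_edge (F_2027 IH) (path_edge (F_2031 IH) (path_edge (F_2034 IH) (path_edge (F_2038 IH) (path_edge (F_2040 IH) (path_edge (F_2042 IH) (path_edge (F_2044 IH) (path_edge (F_2046 IH) (path_edge (F_2048 IH) (path_edge (F_2050 IH) (path_edge (F_2052 IH) (path_edge (F_2054 IH) (path_edge (F_2056 IH) (path_edge (F_2058 IH) (path_edge (F_2060 IH) (path_edge (F_2062 IH) (path_edge (F_2064 IH) (path_edge (F_2066 IH) (path_edge (F_2068 IH) (path_edge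 (F_2070 IH) (path_edge (F_2072 IH) (path_edge (F_2074 IH) (path_edge (F_2076 IH) (path_edge (F_2078 IH) (path_edge (F_2080 IH) (path_edge (F_2082 IH) (path_edge (F_2084 IH) (path_edge (F_2086 IH) (path_edge (F_2088 IH) (path_edge (F_2090 IH) (path_edge (F_2092 IH) (path_edge (F_2094 IH) (path_edge (F_2096 IH) (path_edge (F_2098 IH) (path_edge (F_2100 IH) (path_edge (F_2102 IH) (path_edge (F_2104 IH) (path_edge (F_2106 IH) (path_edge (F_2108 IH) (path_edge (F_2110 IH) (path_edge (F_2112 IH) (path_edge (F_2114 IH) (path_edge (F_2116 IH) (path_nil _))))))))))))))))))))))))))))))))))))))))))))))))))))))))))))))))))))))))))))))))))))))))))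
theorem F_2118 (IH : D.IHyp) : ed Gen.e V_926 = V_739 :=
  flipE D.rels D.S (hinv Gen.e) (F_2117 IH)
theorem F_2119 (IH : D.IHyp) : ed Gen.b V_926 = V_926 :=
  gap_rel RW_13 (path_edge (F_2117 IH) (path_edge (F_851 IH) (path_edge (F_2118 IH) (path_nil _))))
theorem F_2120 (IH : D.IHyp) : ed Gen.c V_926 = V_926 :=
  gap_rel RW_14 (path_edge (F_2117 IH) (path_edge (F_855 IH) (path_edge (F_2118 IH) (path_nil _))))
theorem F_2121 (IH : D.IHyp) : ed Gen.d V_924 = V_926 :=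
  gap_rel RW_29 (path_edge (F_2114 IH) (path_edge (F_2116 IH) (path_edge (F_2119 IH) (path_nil _))))
theorem F_2122 (IH : D.IHyp) : ed Gen.d V_926 = V_924 :=
  flipE D.rels D.S (hinv Gen.d) (F_2121 IH)
theorem F_2123 (IH : D.IHyp) : V_925 = V_924 :=
  edge_fun (F_2116 IH) (F_2122 IH)
theorem F_2124 (IH : D.IHyp) : ed Gen.b V_924 = V_924 :=
  edge_congr (F_2114 IH) (F_2123 IH)
theorem F_2125 (IH : D.IHyp) : ed Gen.d V_924 = V_926 :=
  edge_congr (F_2115 IH) (F_2123 IH)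
theorem F_2126 (IH : D.IHyp) : ed Gen.d V_926 = V_924 :=
  flipE D.rels D.S (hinv Gen.d) (F_2125 IH)
theorem F_2127 (IH : D.IHyp) : ed Gen.h V_823 = V_926 :=
  gap_rel RW_38 (path_edge (F_1614 IH) (path_edge (F_850 IH) (path_edge (F_2118 IH) (path_nil _))))
theorem F_2128 (IH : D.IHyp) : ed Gen.h V_926 = V_823 :=
  flipE D.rels D.S (hinv Gen.h) (F_2127 IH)
theorem F_2129 (IH : D.IHyp) : ed Gen.c V_922 = V_924 :=
  gap_rel RW_7 (path_edge (F_2110 IH) (path_edge (F_2112 IH) (path_edge (F_2126 IH) (path_edge (F_2120 IH) (path_edge (F_2121 IH) (path_nil _))))))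
theorem F_2130 (IH : D.IHyp) : ed Gen.c V_924 = V_922 :=
  flipE D.rels D.S (hinv Gen.c) (F_2129 IH)
theorem F_2131 (IH : D.IHyp) : V_923 = V_922 :=
  edge_fun (F_2112 IH) (F_2130 IH)
theorem F_2132 (IH : D.IHyp) : ed Gen.c V_922 = V_924 :=
  edge_congr (F_2111 IH) (F_2131 IH)
theorem F_2133 (IH : D.IHyp) : ed Gen.c V_924 = V_922 :=
  flipE D.rels D.S (hinv Gen.c) (F_2132 IH)
theorem F_2134 (IH : D.IHyp) : ed Gen.d V_922 = V_922 :=
  edge_congr (F_2110 IH) (F_2131 IH)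
theorem F_2135 (IH : D.IHyp) : ed Gen.e V_924 = V_739 :=
  gap_rel RW_41 (path_edge (F_2126 IH) (path_edge (F_2117 IH) (path_edge (F_853 IH) (path_edge (F_463 IH) (path_edge (F_854 IH) (path_nil _))))))
theorem F_2136 (IH : D.IHyp) : ed Gen.e V_739 = V_924 :=
  flipE D.rels D.S (hinv Gen.e) (F_2135 IH)
theorem F_2137 (IH : D.IHyp) : V_926 = V_924 :=
  edge_fun (F_2117 IH) (F_2136 IH)
theorem F_2140 (IH : D.IHyp) : ed Gen.c V_926 = V_924 :=
  (F_2120 IH).trans (F_2137 IH)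
theorem F_2141 (IH : D.IHyp) : ed Gen.c V_924 = V_924 :=
  edge_congr (F_2140 IH) (F_2137 IH)
theorem F_2142 (IH : D.IHyp) : V_922 = V_924 :=
  edge_fun (F_2133 IH) (F_2141 IH)
theorem F_2148 (IH : D.IHyp) : ed Gen.h V_924 = V_823 :=
  edge_congr (F_2128 IH) (F_2137 IH)
theorem F_2150 (IH : D.IHyp) : V_924 = V_922 :=
  (F_2142 IH).symm
theorem F_2151 (IH : D.IHyp) : ed Gen.b V_924 = V_922 :=
  (F_2124 IH).trans (F_2150 IH)
theorem F_2152 (IH : D.IHyp) : ed Gen.b V_922 = V_922 :=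
  edge_congr (F_2151 IH) (F_2150 IH)
theorem F_2153 (IH : D.IHyp) : ed Gen.c V_922 = V_922 :=
  edge_congr (F_2133 IH) (F_2150 IH)
theorem F_2156 (IH : D.IHyp) : ed Gen.e V_922 = V_739 :=
  edge_congr (F_2135 IH) (F_2150 IH)
theorem F_2157 (IH : D.IHyp) : ed Gen.e V_739 = V_922 :=
  flipE D.rels D.S (hinv Gen.e) (F_2156 IH)
theorem F_2158 (IH : D.IHyp) : ed Gen.h V_922 = V_823 :=
  edge_congr (F_2148 IH) (F_2150 IH)
theorem F_2159 (IH : D.IHyp) : ed Gen.h V_823 = V_922 :=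
  flipE D.rels D.S (hinv Gen.h) (F_2158 IH)
theorem F_2160 (IH : D.IHyp) : ed Gen.h V_821 = V_821 :=
  gap_rel RW_33 (path_edge (F_1623 IH) (path_edge (F_2158 IH) (path_edge (F_2134 IH) (path_edge (F_2159 IH) (path_edge (F_1618 IH) (path_nil _))))))
theorem F_2161 (IH : D.IHyp) : ed Gen.b V_921 = V_921 :=
  gap_rel RW_17 (path_edge (F_2108 IH) (path_edge (F_2152 IH) (path_edge (F_2107 IH) (path_nil _))))
theorem F_2162 (IH : D.IHyp) : ed Gen.c V_921 = V_921 :=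
  gap_rel RW_22 (path_edge (F_2108 IH) (path_edge (F_2153 IH) (path_edge (F_2107 IH) (path_nil _))))
theorem F_2163 (IH : D.IHyp) : ed Gen.d V_921 = V_921 :=
  gap_rel RW_23 (path_edge (F_2108 IH) (path_edge (F_2134 IH) (path_edge (F_2107 IH) (path_nil _))))
theorem F_2164 (IH : D.IHyp) : ed Gen.h V_819 = V_819 :=
  gap_rel RW_32 (path_edge (F_1628 IH) (path_edge (F_2160 IH) (path_edge (F_1624 IH) (path_nil _))))
theorem F_2165 (IH : D.IHyp) : ed Gen.b V_920 = V_920 :=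
  gap_rel RW_8 (path_edge (F_2106 IH) (path_edge (F_2161 IH) (path_edge (F_2105 IH) (path_nil _))))
theorem F_2167 (IH : D.IHyp) : ed Gen.h V_919 = V_919 :=
  gap_rel RW_33 (path_edge (F_2104 IH) (path_edge (F_2106 IH) (path_edge (F_2163 IH) (path_edge (F_2105 IH) (path_edge (F_2103 IH) (path_nil _))))))
theorem F_2168 (IH : D.IHyp) : ed Gen.i V_817 = V_817 :=
  gap_rel RW_34 (path_edge (F_1603 IH) (path_edge (F_1605 IH) (path_edge (F_2164 IH) (path_edge (F_1604 IH) (path_edge (F_1602 IH) (path_nil _))))))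
theorem F_2171 (IH : D.IHyp) : ed Gen.h V_918 = V_918 :=
  gap_rel RW_39 (path_edge (F_2102 IH) (path_edge (F_2167 IH) (path_edge (F_2101 IH) (path_nil _))))
theorem F_2172 (IH : D.IHyp) : ed Gen.i V_816 = V_816 :=
  gap_rel RW_6 (path_edge (F_1601 IH) (path_edge (F_2168 IH) (path_edge (F_1600 IH) (path_nil _))))
theorem F_2175 (IH : D.IHyp) : ed Gen.i V_815 = V_815 :=
  gap_rel RW_35 (path_edge (F_1599 IH) (path_edge (F_2172 IH) (path_edge (F_1598 IH) (path_nil _))))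
theorem F_2182 (IH : D.IHyp) : ed Gen.i V_814 = V_814 :=
  gap_rel RW_15 (path_edge (F_1597 IH) (path_edge (F_2175 IH) (path_edge (F_1596 IH) (path_nil _))))
theorem F_2183 (IH : D.IHyp) : ed Gen.i V_813 = V_813 :=
  gap_rel RW_6 (path_edge (F_1595 IH) (path_edge (F_2182 IH) (path_edge (F_1594 IH) (path_nil _))))
theorem F_2184 (IH : D.IHyp) : ed Gen.i V_812 = V_812 :=
  gap_rel RW_36 (path_edge (F_1593 IH) (path_edge (F_2183 IH) (path_edge (F_1592 IH) (path_nil _))))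
theorem F_2185 (IH : D.IHyp) : ed Gen.i V_811 = V_811 :=
  gap_rel RW_2 (path_edge (F_1591 IH) (path_edge (F_2184 IH) (path_edge (F_1590 IH) (path_nil _))))
theorem F_2186 (IH : D.IHyp) : ed Gen.d V_809 = V_811 :=
  gap_rel RW_23 (path_edge (F_1587 IH) (path_edge (F_1589 IH) (path_edge (F_2185 IH) (path_nil _))))
theorem F_2187 (IH : D.IHyp) : ed Gen.d V_811 = V_809 :=
  flipE D.rels D.S (hinv Gen.d) (F_2186 IH)
theorem F_2188 (IH : D.IHyp) : V_810 = V_809 :=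
  edge_fun (F_1589 IH) (F_2187 IH)
theorem F_2189 (IH : D.IHyp) : ed Gen.d V_809 = V_811 :=
  edge_congr (F_1588 IH) (F_2188 IH)
theorem F_2190 (IH : D.IHyp) : ed Gen.d V_811 = V_809 :=
  flipE D.rels D.S (hinv Gen.d) (F_2189 IH)
theorem F_2192 (IH : D.IHyp) : ed Gen.b (D.P 499) = V_927 :=
  rfl
theorem F_2193 (IH : D.IHyp) : ed Gen.b V_927 = (D.P 499) :=
  flipE D.rels D.S (hinv Gen.b) (F_2192 IH)
theorem F_2194 (IH : D.IHyp) : ed Gen.f V_927 = V_927 :=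
  gap_rel RW_42 (path_edge (F_2192 IH) (path_edge (F_1650 IH) (path_edge (F_2193 IH) (path_nil _))))
theorem F_2196 (IH : D.IHyp) : ed Gen.h (D.P 499) = (D.P 428) :=
  D.real_edge' IH Gen.h 499 428 (by decide +kernel)
theorem F_2197 (IH : D.IHyp) : ed Gen.h V_927 = (D.P 496) :=
  gap_rel RW_31 (path_edge (F_2192 IH) (path_edge (F_728 IH) (path_edge (F_1706 IH) (path_nil _))))
theorem F_2213 (IH : D.IHyp) : ed Gen.h (D.P 442) = (D.P 369) :=
  D.real_edge' IH Gen.h 442 369 (by decide +kernel)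
theorem F_2217 (IH : D.IHyp) : ed Gen.d (D.P 428) = (D.P 369) :=
  D.real_edge' IH Gen.d 428 369 (by decide +kernel)
theorem F_2233 (IH : D.IHyp) : ed Gen.d (D.P 167) = (D.P 167) :=
  D.real_edge' IH Gen.d 167 167 (by decide +kernel)
theorem F_2234 (IH : D.IHyp) : ed Gen.i (D.P 167) = (D.P 127) :=
  D.real_edge' IH Gen.i 167 127 (by decide +kernel)
theorem F_2235 (IH : D.IHyp) : ed Gen.h (D.P 127) = (D.P 127) :=
  D.real_edge' IH Gen.h 127 127 (by decide +kernel)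
theorem F_2268 (IH : D.IHyp) : ed Gen.e (D.P 200) = (D.P 249) :=
  D.real_edge' IH Gen.e 200 249 (by decide +kernel)
theorem F_2269 (IH : D.IHyp) : ed Gen.d (D.P 249) = (D.P 294) :=
  D.real_edge' IH Gen.d 249 294 (by decide +kernel)
theorem F_2270 (IH : D.IHyp) : ed Gen.b (D.P 369) = (D.P 438) :=
  D.real_edge' IH Gen.b 369 438 (by decide +kernel)
theorem F_2287 (IH : D.IHyp) : ed Gen.c (D.P 438) = (D.P 504) :=
  D.real_edge' IH Gen.c 438 504 (by decide +kernel)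
theorem F_2304 (IH : D.IHyp) : ed Gen.f (D.P 337) = (D.P 273) :=
  D.real_edge' IH Gen.f 337 273 (by decide +kernel)
theorem F_2305 (IH : D.IHyp) : ed Gen.e (D.P 273) = (D.P 216) :=
  D.real_edge' IH Gen.e 273 216 (by decide +kernel)
theorem F_2307 (IH : D.IHyp) : ed Gen.c V_927 = V_928 :=
  rfl
theorem F_2308 (IH : D.IHyp) : ed Gen.c V_928 = V_927 :=
  flipE D.rels D.S (hinv Gen.c) (F_2307 IH)
theorem F_2309 (IH : D.IHyp) : ed Gen.f V_928 = V_928 :=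
  gap_rel RW_1 (path_edge (F_2307 IH) (path_edge (F_2194 IH) (path_edge (F_2308 IH) (path_nil _))))
theorem F_2310 (IH : D.IHyp) : ed Gen.d V_928 = V_929 :=
  rfl
theorem F_2311 (IH : D.IHyp) : ed Gen.d V_929 = V_928 :=
  flipE D.rels D.S (hinv Gen.d) (F_2310 IH)
theorem F_2312 (IH : D.IHyp) : ed Gen.f V_929 = V_929 :=
  gap_rel RW_5 (path_edge (F_2310 IH) (path_edge (F_2309 IH) (path_edge (F_2311 IH) (path_nil _))))
theorem F_2313 (IH : D.IHyp) : ed Gen.i V_929 = V_930 :=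
  rfl
theorem F_2314 (IH : D.IHyp) : ed Gen.i V_930 = V_929 :=
  flipE D.rels D.S (hinv Gen.i) (F_2313 IH)
theorem F_2315 (IH : D.IHyp) : ed Gen.f V_930 = V_930 :=
  gap_rel RW_19 (path_edge (F_2313 IH) (path_edge (F_2312 IH) (path_edge (F_2314 IH) (path_nil _))))
theorem F_2316 (IH : D.IHyp) : ed Gen.h V_930 = V_931 :=
  rfl
theorem F_2317 (IH : D.IHyp) : ed Gen.h V_931 = V_930 :=
  flipE D.rels D.S (hinv Gen.h) (F_2316 IH)
theorem F_2318 (IH : D.IHyp) : ed Gen.f V_931 = V_931 :=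
  gap_rel RW_10 (path_edge (F_2316 IH) (path_edge (F_2315 IH) (path_edge (F_2317 IH) (path_nil _))))
theorem F_2319 (IH : D.IHyp) : ed Gen.d V_931 = V_932 :=
  rfl
theorem F_2320 (IH : D.IHyp) : ed Gen.d V_932 = V_931 :=
  flipE D.rels D.S (hinv Gen.d) (F_2319 IH)
theorem F_2321 (IH : D.IHyp) : ed Gen.f V_932 = V_932 :=
  gap_rel RW_5 (path_edge (F_2319 IH) (path_edge (F_2318 IH) (path_edge (F_2320 IH) (path_nil _))))
theorem F_2322 (IH : D.IHyp) : ed Gen.e V_932 = V_933 :=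
  rfl
theorem F_2323 (IH : D.IHyp) : ed Gen.e V_933 = V_932 :=
  flipE D.rels D.S (hinv Gen.e) (F_2322 IH)
theorem F_2324 (IH : D.IHyp) : ed Gen.d V_933 = V_934 :=
  rfl
theorem F_2325 (IH : D.IHyp) : ed Gen.d V_934 = V_933 :=
  flipE D.rels D.S (hinv Gen.d) (F_2324 IH)
theorem F_2326 (IH : D.IHyp) : ed Gen.b V_934 = V_935 :=
  rfl
theorem F_2327 (IH : D.IHyp) : ed Gen.b V_935 = V_934 :=
  flipE D.rels D.S (hinv Gen.b) (F_2326 IH)
theorem F_2328 (IH : D.IHyp) : ed Gen.c V_935 = V_936 :=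
  rfl
theorem F_2329 (IH : D.IHyp) : ed Gen.c V_936 = V_935 :=
  flipE D.rels D.S (hinv Gen.c) (F_2328 IH)
theorem F_2330 (IH : D.IHyp) : ed Gen.d V_936 = V_937 :=
  rfl
theorem F_2331 (IH : D.IHyp) : ed Gen.d V_937 = V_936 :=
  flipE D.rels D.S (hinv Gen.d) (F_2330 IH)
theorem F_2332 (IH : D.IHyp) : ed Gen.i V_937 = V_938 :=
  rfl
theorem F_2333 (IH : D.IHyp) : ed Gen.i V_938 = V_937 :=
  flipE D.rels D.S (hinv Gen.i) (F_2332 IH)
theorem F_2334 (IH : D.IHyp) : ed Gen.h V_938 = V_939 :=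
  rfl
theorem F_2335 (IH : D.IHyp) : ed Gen.h V_939 = V_938 :=
  flipE D.rels D.S (hinv Gen.h) (F_2334 IH)
theorem F_2336 (IH : D.IHyp) : ed Gen.d V_939 = V_940 :=
  rfl
theorem F_2337 (IH : D.IHyp) : ed Gen.d V_940 = V_939 :=
  flipE D.rels D.S (hinv Gen.d) (F_2336 IH)
theorem F_2338 (IH : D.IHyp) : ed Gen.f V_940 = V_941 :=
  rfl
theorem F_2339 (IH : D.IHyp) : ed Gen.f V_941 = V_940 :=
  flipE D.rels D.S (hinv Gen.f) (F_2338 IH)
theorem F_2340 (IH : D.IHyp) : ed Gen.e V_941 = V_942 :=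
  rfl
theorem F_2341 (IH : D.IHyp) : ed Gen.e V_942 = V_941 :=
  flipE D.rels D.S (hinv Gen.e) (F_2340 IH)
theorem F_2342 (IH : D.IHyp) : ed Gen.d V_942 = V_943 :=
  rfl
theorem F_2343 (IH : D.IHyp) : ed Gen.d V_943 = V_942 :=
  flipE D.rels D.S (hinv Gen.d) (F_2342 IH)
theorem F_2344 (IH : D.IHyp) : ed Gen.b V_943 = V_944 :=
  rfl
theorem F_2345 (IH : D.IHyp) : ed Gen.b V_944 = V_943 :=
  flipE D.rels D.S (hinv Gen.b) (F_2344 IH)
theorem F_2346 (IH : D.IHyp) : ed Gen.c V_944 = V_945 :=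
  rfl
theorem F_2347 (IH : D.IHyp) : ed Gen.c V_945 = V_944 :=
  flipE D.rels D.S (hinv Gen.c) (F_2346 IH)
theorem F_2348 (IH : D.IHyp) : ed Gen.d V_945 = V_946 :=
  rfl
theorem F_2349 (IH : D.IHyp) : ed Gen.d V_946 = V_945 :=
  flipE D.rels D.S (hinv Gen.d) (F_2348 IH)
theorem F_2350 (IH : D.IHyp) : ed Gen.i V_946 = V_947 :=
  rfl
theorem F_2351 (IH : D.IHyp) : ed Gen.i V_947 = V_946 :=
  flipE D.rels D.S (hinv Gen.i) (F_2350 IH)
theorem F_2352 (IH : D.IHyp) : ed Gen.h V_947 = V_948 :=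
  rfl
theorem F_2353 (IH : D.IHyp) : ed Gen.h V_948 = V_947 :=
  flipE D.rels D.S (hinv Gen.h) (F_2352 IH)
theorem F_2354 (IH : D.IHyp) : ed Gen.d V_948 = V_949 :=
  rfl
theorem F_2355 (IH : D.IHyp) : ed Gen.d V_949 = V_948 :=
  flipE D.rels D.S (hinv Gen.d) (F_2354 IH)
theorem F_2356 (IH : D.IHyp) : ed Gen.f V_949 = V_950 :=
  rfl
theorem F_2357 (IH : D.IHyp) : ed Gen.f V_950 = V_949 :=
  flipE D.rels D.S (hinv Gen.f) (F_2356 IH)
theorem F_2358 (IH : D.IHyp) : ed Gen.e V_950 = V_951 :=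
  rfl
theorem F_2359 (IH : D.IHyp) : ed Gen.e V_951 = V_950 :=
  flipE D.rels D.S (hinv Gen.e) (F_2358 IH)
theorem F_2360 (IH : D.IHyp) : ed Gen.d V_951 = V_952 :=
  rfl
theorem F_2361 (IH : D.IHyp) : ed Gen.d V_952 = V_951 :=
  flipE D.rels D.S (hinv Gen.d) (F_2360 IH)
theorem F_2362 (IH : D.IHyp) : ed Gen.b V_952 = V_953 :=
  rfl
theorem F_2363 (IH : D.IHyp) : ed Gen.b V_953 = V_952 :=
  flipE D.rels D.S (hinv Gen.b) (F_2362 IH)
theorem F_2364 (IH : D.IHyp) : ed Gen.c V_953 = V_954 :=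
  rfl
theorem F_2365 (IH : D.IHyp) : ed Gen.c V_954 = V_953 :=
  flipE D.rels D.S (hinv Gen.c) (F_2364 IH)
theorem F_2366 (IH : D.IHyp) : ed Gen.d V_954 = V_955 :=
  rfl
theorem F_2367 (IH : D.IHyp) : ed Gen.d V_955 = V_954 :=
  flipE D.rels D.S (hinv Gen.d) (F_2366 IH)
theorem F_2368 (IH : D.IHyp) : ed Gen.i V_955 = V_956 :=
  rfl
theorem F_2369 (IH : D.IHyp) : ed Gen.i V_956 = V_955 :=
  flipE D.rels D.S (hinv Gen.i) (F_2368 IH)
theorem F_2370 (IH : D.IHyp) : ed Gen.h V_956 = V_957 :=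
  rfl
theorem F_2371 (IH : D.IHyp) : ed Gen.h V_957 = V_956 :=
  flipE D.rels D.S (hinv Gen.h) (F_2370 IH)
theorem F_2372 (IH : D.IHyp) : ed Gen.d V_957 = V_958 :=
  rfl
theorem F_2373 (IH : D.IHyp) : ed Gen.d V_958 = V_957 :=
  flipE D.rels D.S (hinv Gen.d) (F_2372 IH)
theorem F_2374 (IH : D.IHyp) : ed Gen.f V_958 = V_959 :=
  rfl
theorem F_2375 (IH : D.IHyp) : ed Gen.f V_959 = V_958 :=
  flipE D.rels D.S (hinv Gen.f) (F_2374 IH)
theorem F_2376 (IH : D.IHyp) : ed Gen.e V_959 = V_960 :=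
  rfl
theorem F_2377 (IH : D.IHyp) : ed Gen.e V_960 = V_959 :=
  flipE D.rels D.S (hinv Gen.e) (F_2376 IH)
theorem F_2378 (IH : D.IHyp) : ed Gen.d V_960 = V_961 :=
  rfl
theorem F_2379 (IH : D.IHyp) : ed Gen.d V_961 = V_960 :=
  flipE D.rels D.S (hinv Gen.d) (F_2378 IH)
theorem F_2380 (IH : D.IHyp) : ed Gen.b V_961 = V_962 :=
  rfl
theorem F_2381 (IH : D.IHyp) : ed Gen.b V_962 = V_961 :=
  flipE D.rels D.S (hinv Gen.b) (F_2380 IH)
theorem F_2382 (IH : D.IHyp) : ed Gen.c V_962 = V_963 :=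
  rfl
theorem F_2383 (IH : D.IHyp) : ed Gen.c V_963 = V_962 :=
  flipE D.rels D.S (hinv Gen.c) (F_2382 IH)
theorem F_2384 (IH : D.IHyp) : ed Gen.d V_963 = V_964 :=
  rfl
theorem F_2385 (IH : D.IHyp) : ed Gen.d V_964 = V_963 :=
  flipE D.rels D.S (hinv Gen.d) (F_2384 IH)
theorem F_2386 (IH : D.IHyp) : ed Gen.i V_964 = V_965 :=
  rfl
theorem F_2387 (IH : D.IHyp) : ed Gen.i V_965 = V_964 :=
  flipE D.rels D.S (hinv Gen.i) (F_2386 IH)
theorem F_2388 (IH : D.IHyp) : ed Gen.h V_965 = V_966 :=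
  rfl
theorem F_2389 (IH : D.IHyp) : ed Gen.h V_966 = V_965 :=
  flipE D.rels D.S (hinv Gen.h) (F_2388 IH)
theorem F_2390 (IH : D.IHyp) : ed Gen.d V_966 = V_967 :=
  rfl
theorem F_2391 (IH : D.IHyp) : ed Gen.d V_967 = V_966 :=
  flipE D.rels D.S (hinv Gen.d) (F_2390 IH)
theorem F_2392 (IH : D.IHyp) : ed Gen.f V_967 = V_968 :=
  rfl
theorem F_2393 (IH : D.IHyp) : ed Gen.f V_968 = V_967 :=
  flipE D.rels D.S (hinv Gen.f) (F_2392 IH)
theorem F_2394 (IH : D.IHyp) : ed Gen.e V_968 = V_969 :=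
  rfl
theorem F_2395 (IH : D.IHyp) : ed Gen.e V_969 = V_968 :=
  flipE D.rels D.S (hinv Gen.e) (F_2394 IH)
theorem F_2396 (IH : D.IHyp) : ed Gen.d V_969 = V_970 :=
  rfl
theorem F_2397 (IH : D.IHyp) : ed Gen.d V_970 = V_969 :=
  flipE D.rels D.S (hinv Gen.d) (F_2396 IH)
theorem F_2398 (IH : D.IHyp) : ed Gen.b V_970 = V_971 :=
  rfl
theorem F_2399 (IH : D.IHyp) : ed Gen.b V_971 = V_970 :=
  flipE D.rels D.S (hinv Gen.b) (F_2398 IH)
theorem F_2400 (IH : D.IHyp) : ed Gen.c V_971 = V_972 :=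
  rfl
theorem F_2401 (IH : D.IHyp) : ed Gen.c V_972 = V_971 :=
  flipE D.rels D.S (hinv Gen.c) (F_2400 IH)
theorem F_2402 (IH : D.IHyp) : ed Gen.d V_972 = V_973 :=
  rfl
theorem F_2403 (IH : D.IHyp) : ed Gen.d V_973 = V_972 :=
  flipE D.rels D.S (hinv Gen.d) (F_2402 IH)
theorem F_2404 (IH : D.IHyp) : ed Gen.i V_973 = V_974 :=
  rfl
theorem F_2405 (IH : D.IHyp) : ed Gen.i V_974 = V_973 :=
  flipE D.rels D.S (hinv Gen.i) (F_2404 IH)
theorem F_2406 (IH : D.IHyp) : ed Gen.h V_974 = V_975 :=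
  rfl
theorem F_2407 (IH : D.IHyp) : ed Gen.h V_975 = V_974 :=
  flipE D.rels D.S (hinv Gen.h) (F_2406 IH)
theorem F_2408 (IH : D.IHyp) : ed Gen.d V_975 = V_976 :=
  rfl
theorem F_2409 (IH : D.IHyp) : ed Gen.d V_976 = V_975 :=
  flipE D.rels D.S (hinv Gen.d) (F_2408 IH)
theorem F_2410 (IH : D.IHyp) : ed Gen.f V_976 = V_977 :=
  rfl
theorem F_2411 (IH : D.IHyp) : ed Gen.f V_977 = V_976 :=
  flipE D.rels D.S (hinv Gen.f) (F_2410 IH)
theorem F_2412 (IH : D.IHyp) : ed Gen.e V_977 = V_978 :=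
  rfl
theorem F_2413 (IH : D.IHyp) : ed Gen.e V_978 = V_977 :=
  flipE D.rels D.S (hinv Gen.e) (F_2412 IH)
theorem F_2414 (IH : D.IHyp) : ed Gen.d V_978 = V_979 :=
  rfl
theorem F_2415 (IH : D.IHyp) : ed Gen.d V_979 = V_978 :=
  flipE D.rels D.S (hinv Gen.d) (F_2414 IH)
theorem F_2416 (IH : D.IHyp) : ed Gen.b V_979 = V_980 :=
  rfl
theorem F_2417 (IH : D.IHyp) : ed Gen.b V_980 = V_979 :=
  flipE D.rels D.S (hinv Gen.b) (F_2416 IH)
theorem F_2418 (IH : D.IHyp) : ed Gen.c V_980 = V_981 :=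
  rfl
theorem F_2419 (IH : D.IHyp) : ed Gen.c V_981 = V_980 :=
  flipE D.rels D.S (hinv Gen.c) (F_2418 IH)
theorem F_2420 (IH : D.IHyp) : ed Gen.d V_981 = V_982 :=
  rfl
theorem F_2421 (IH : D.IHyp) : ed Gen.d V_982 = V_981 :=
  flipE D.rels D.S (hinv Gen.d) (F_2420 IH)
theorem F_2422 (IH : D.IHyp) : ed Gen.i V_982 = V_983 :=
  rfl
theorem F_2423 (IH : D.IHyp) : ed Gen.i V_983 = V_982 :=
  flipE D.rels D.S (hinv Gen.i) (F_2422 IH)
theorem F_2424 (IH : D.IHyp) : ed Gen.h V_983 = V_984 :=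
  rfl
theorem F_2425 (IH : D.IHyp) : ed Gen.h V_984 = V_983 :=
  flipE D.rels D.S (hinv Gen.h) (F_2424 IH)
theorem F_2426 (IH : D.IHyp) : ed Gen.d V_984 = V_985 :=
  rfl
theorem F_2427 (IH : D.IHyp) : ed Gen.d V_985 = V_984 :=
  flipE D.rels D.S (hinv Gen.d) (F_2426 IH)
theorem F_2428 (IH : D.IHyp) : ed Gen.f V_985 = V_986 :=
  rfl
theorem F_2429 (IH : D.IHyp) : ed Gen.f V_986 = V_985 :=
  flipE D.rels D.S (hinv Gen.f) (F_2428 IH)
theorem F_2430 (IH : D.IHyp) : ed Gen.e V_986 = V_987 :=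
  rfl
theorem F_2431 (IH : D.IHyp) : ed Gen.e V_987 = V_986 :=
  flipE D.rels D.S (hinv Gen.e) (F_2430 IH)
theorem F_2432 (IH : D.IHyp) : ed Gen.d V_987 = V_988 :=
  rfl
theorem F_2433 (IH : D.IHyp) : ed Gen.d V_988 = V_987 :=
  flipE D.rels D.S (hinv Gen.d) (F_2432 IH)
theorem F_2434 (IH : D.IHyp) : ed Gen.b V_988 = V_989 :=
  rfl
theorem F_2435 (IH : D.IHyp) : ed Gen.b V_989 = V_988 :=
  flipE D.rels D.S (hinv Gen.b) (F_2434 IH)
theorem F_2436 (IH : D.IHyp) : ed Gen.c V_989 = V_990 :=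
  rfl
theorem F_2437 (IH : D.IHyp) : ed Gen.c V_990 = V_989 :=
  flipE D.rels D.S (hinv Gen.c) (F_2436 IH)
theorem F_2438 (IH : D.IHyp) : ed Gen.d V_741 = V_990 :=
  gap_rel RW_43 (path_edge (F_914 IH) (path_edge (F_460 IH) (path_edge (F_111 IH) (path_edge (F_113 IH) (path_edge (F_712 IH) (path_edge (F_717 IH) (path_edge (F_713 IH) (path_edge (F_714 IH) (path_edge (F_208 IH) (path_edge (F_718 IH) (path_edge (F_1019 IH) (path_edge (F_961 IH) (path_edge (F_953 IH) (path_edge (F_1170 IH) (path_edge (F_1512 IH) (path_edge (F_771 IH) (path_edge (F_725 IH) (path_edge (F_770 IH) (path_edge (F_1062 IH) (path_edge (F_2196 IH) (path_edge (F_732 IH) (path_edge (F_730 IH) (path_edge (F_731 IH) (path_edge (F_729 IH) (path_edge (F_2193 IH) (path_edge (F_2308 IH) (path_edge (F_2311 IH) (path_edge (F_2314 IH) (path_edge (F_2317 IH) (path_edge (F_2320 IH) (path_edge (F_2321 IH) (path_edge (F_2323 IH) (path_edge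 (F_2325 IH) (path_edge (F_2327 IH) (path_edge (F_2329 IH) (path_edge (F_2331 IH) (path_edge (F_2333 IH) (path_edge (F_2335 IH) (path_edge (F_2337 IH) (path_edge (F_2339 IH) (path_edge (F_2341 IH) (path_edge (F_2343 IH) (path_edge (F_2345 IH) (path_edge (F_2347 IH) (path_edge (F_2349 IH) (path_edge (F_2351 IH) (path_edge (F_2353 IH) (path_edge (F_2355 IH) (path_edge (F_2357 IH) (path_edge (F_2359 IH) (path_edge (F_2361 IH) (path_edge (F_2363 IH) (path_edge (F_2365 IH) (path_edge (F_2367 IH) (path_edge (F_2369 IH) (path_edge (F_2371 IH) (path_edge (F_2373 IH) (path_edge (F_2375 IH) (path_edge (F_2377 IH) (path_edge (F_2379 IH) (path_edge (F_2381 IH) (path_edge (F_2383 IH) (path_edge (F_2385 IH) (path_edge (F_2387 IH) (path_edge (F_2389 IH) (path_edge (F_2391 IH) (path_edge (F_2393 IH) (path_edge (F_2395 IH) (path_edge (F_2397 IH) (path_edge (F_2399 IH) (path_edge (F_2401 IH) (path_edge (F_2403 IH)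 (path_edge (F_2405 IH) (path_edge (F_2407 IH) (path_edge (F_2409 IH) (path_edge (F_2411 IH) (path_edge (F_2413 IH) (path_edge (F_2415 IH) (path_edge (F_2417 IH) (path_edge (F_2419 IH) (path_edge (F_2421 IH) (path_edge (F_2423 IH) (path_edge (F_2425 IH) (path_edge (F_2427 IH) (path_edge (F_2429 IH) (path_edge (F_2431 IH) (path_edge (F_2433 IH) (path_edge (F_2435 IH) (path_edge (F_2437 IH) (path_nil _))))))))))))))))))))))))))))))))))))))))))))))))))))))))))))))))))))))))))))))))))))))))))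
theorem F_2439 (IH : D.IHyp) : ed Gen.d V_990 = V_741 :=
  flipE D.rels D.S (hinv Gen.d) (F_2438 IH)
theorem F_2440 (IH : D.IHyp) : ed Gen.b V_990 = V_990 :=
  gap_rel RW_4 (path_edge (F_2438 IH) (path_edge (F_916 IH) (path_edge (F_2439 IH) (path_nil _))))
theorem F_2441 (IH : D.IHyp) : ed Gen.f V_990 = V_990 :=
  gap_rel RW_5 (path_edge (F_2438 IH) (path_edge (F_918 IH) (path_edge (F_2439 IH) (path_nil _))))
theorem F_2442 (IH : D.IHyp) : ed Gen.i V_739 = V_990 :=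
  gap_rel RW_6 (path_edge (F_853 IH) (path_edge (F_915 IH) (path_edge (F_2439 IH) (path_nil _))))
theorem F_2443 (IH : D.IHyp) : ed Gen.i V_990 = V_739 :=
  flipE D.rels D.S (hinv Gen.i) (F_2442 IH)
theorem F_2444 (IH : D.IHyp) : ed Gen.e V_990 = V_921 :=
  gap_rel RW_18 (path_edge (F_2442 IH) (path_edge (F_2156 IH) (path_edge (F_2107 IH) (path_nil _))))
theorem F_2446 (IH : D.IHyp) : ed Gen.f V_989 = V_989 :=
  gap_rel RW_1 (path_edge (F_2437 IH) (path_edge (F_2441 IH) (path_edge (F_2436 IH) (path_nil _))))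
theorem F_2447 (IH : D.IHyp) : V_990 = V_989 :=
  loop_rel RW_22 (path_edge (F_2437 IH) (path_edge (F_2442 IH) (path_edge (F_855 IH) (path_edge (F_2443 IH) (path_nil _)))))
theorem F_2448 (IH : D.IHyp) : ed Gen.b V_990 = V_989 :=
  (F_2440 IH).trans (F_2447 IH)
theorem F_2449 (IH : D.IHyp) : ed Gen.b V_989 = V_989 :=
  edge_congr (F_2448 IH) (F_2447 IH)
theorem F_2450 (IH : D.IHyp) : V_988 = V_989 :=
  edge_fun (F_2435 IH) (F_2449 IH)
theorem F_2453 (IH : D.IHyp) : ed Gen.c V_989 = V_989 :=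
  edge_congr (F_2437 IH) (F_2447 IH)
theorem F_2454 (IH : D.IHyp) : ed Gen.d V_989 = V_741 :=
  edge_congr (F_2439 IH) (F_2447 IH)
theorem F_2456 (IH : D.IHyp) : ed Gen.e V_989 = V_921 :=
  edge_congr (F_2444 IH) (F_2447 IH)
theorem F_2460 (IH : D.IHyp) : ed Gen.i V_989 = V_739 :=
  edge_congr (F_2443 IH) (F_2447 IH)
theorem F_2462 (IH : D.IHyp) : V_989 = V_988 :=
  (F_2450 IH).symm
theorem F_2463 (IH : D.IHyp) : ed Gen.b V_988 = V_988 :=
  edge_congr (F_2435 IH) (F_2462 IH)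
theorem F_2464 (IH : D.IHyp) : ed Gen.c V_989 = V_988 :=
  (F_2453 IH).trans (F_2462 IH)
theorem F_2465 (IH : D.IHyp) : ed Gen.c V_988 = V_988 :=
  edge_congr (F_2464 IH) (F_2462 IH)
theorem F_2466 (IH : D.IHyp) : ed Gen.d V_988 = V_741 :=
  edge_congr (F_2454 IH) (F_2462 IH)
theorem F_2467 (IH : D.IHyp) : V_987 = V_741 :=
  edge_fun (F_2433 IH) (F_2466 IH)
theorem F_2468 (IH : D.IHyp) : ed Gen.d V_741 = V_988 :=
  flipE D.rels D.S (hinv Gen.d) (F_2466 IH)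
theorem F_2469 (IH : D.IHyp) : ed Gen.e V_988 = V_921 :=
  edge_congr (F_2456 IH) (F_2462 IH)
theorem F_2471 (IH : D.IHyp) : ed Gen.f V_989 = V_988 :=
  (F_2446 IH).trans (F_2462 IH)
theorem F_2472 (IH : D.IHyp) : ed Gen.f V_988 = V_988 :=
  edge_congr (F_2471 IH) (F_2462 IH)
theorem F_2473 (IH : D.IHyp) : ed Gen.i V_988 = V_739 :=
  edge_congr (F_2460 IH) (F_2462 IH)
theorem F_2475 (IH : D.IHyp) : ed Gen.d V_741 = V_988 :=
  edge_congr (F_2432 IH) (F_2467 IH)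
theorem F_2476 (IH : D.IHyp) : ed Gen.d V_988 = V_741 :=
  flipE D.rels D.S (hinv Gen.d) (F_2475 IH)
theorem F_2477 (IH : D.IHyp) : ed Gen.e V_741 = V_986 :=
  edge_congr (F_2431 IH) (F_2467 IH)
theorem F_2478 (IH : D.IHyp) : V_741 = V_986 :=
  edge_fun (F_917 IH) (F_2477 IH)
theorem F_2480 (IH : D.IHyp) : V_986 = V_741 :=
  (F_2478 IH).symm
theorem F_2482 (IH : D.IHyp) : ed Gen.f V_741 = V_985 :=
  edge_congr (F_2429 IH) (F_2480 IH)
theorem F_2483 (IH : D.IHyp) : V_741 = V_985 :=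
  edge_fun (F_918 IH) (F_2482 IH)
theorem F_2485 (IH : D.IHyp) : V_985 = V_741 :=
  (F_2483 IH).symm
theorem F_2486 (IH : D.IHyp) : ed Gen.d V_741 = V_984 :=
  edge_congr (F_2427 IH) (F_2485 IH)
theorem F_2487 (IH : D.IHyp) : V_988 = V_984 :=
  edge_fun (F_2468 IH) (F_2486 IH)
theorem F_2488 (IH : D.IHyp) : ed Gen.d V_984 = V_741 :=
  flipE D.rels D.S (hinv Gen.d) (F_2486 IH)
theorem F_2490 (IH : D.IHyp) : ed Gen.b V_988 = V_984 :=
  (F_2463 IH).trans (F_2487 IH)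
theorem F_2491 (IH : D.IHyp) : ed Gen.b V_984 = V_984 :=
  edge_congr (F_2490 IH) (F_2487 IH)
theorem F_2492 (IH : D.IHyp) : ed Gen.c V_988 = V_984 :=
  (F_2465 IH).trans (F_2487 IH)
theorem F_2493 (IH : D.IHyp) : ed Gen.c V_984 = V_984 :=
  edge_congr (F_2492 IH) (F_2487 IH)
theorem F_2494 (IH : D.IHyp) : ed Gen.d V_984 = V_741 :=
  edge_congr (F_2476 IH) (F_2487 IH)
theorem F_2495 (IH : D.IHyp) : ed Gen.d V_741 = V_984 :=
  flipE D.rels D.S (hinv Gen.d) (F_2494 IH)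
theorem F_2496 (IH : D.IHyp) : ed Gen.e V_984 = V_921 :=
  edge_congr (F_2469 IH) (F_2487 IH)
theorem F_2497 (IH : D.IHyp) : ed Gen.e V_921 = V_984 :=
  flipE D.rels D.S (hinv Gen.e) (F_2496 IH)
theorem F_2498 (IH : D.IHyp) : ed Gen.f V_988 = V_984 :=
  (F_2472 IH).trans (F_2487 IH)
theorem F_2499 (IH : D.IHyp) : ed Gen.f V_984 = V_984 :=
  edge_congr (F_2498 IH) (F_2487 IH)
theorem F_2500 (IH : D.IHyp) : ed Gen.i V_984 = V_739 :=
  edge_congr (F_2473 IH) (F_2487 IH)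
theorem F_2501 (IH : D.IHyp) : ed Gen.i V_739 = V_984 :=
  flipE D.rels D.S (hinv Gen.i) (F_2500 IH)
theorem F_2502 (IH : D.IHyp) : ed Gen.d V_983 = V_983 :=
  gap_rel RW_12 (path_edge (F_2425 IH) (path_edge (F_2495 IH) (path_edge (F_919 IH) (path_edge (F_2488 IH) (path_edge (F_2424 IH) (path_nil _))))))
theorem F_2503 (IH : D.IHyp) : ed Gen.h V_982 = V_876 :=
  gap_rel RW_20 (path_edge (F_2423 IH) (path_edge (F_2425 IH) (path_edge (F_2501 IH) (path_edge (F_849 IH) (path_edge (F_1875 IH) (path_nil _))))))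
theorem F_2505 (IH : D.IHyp) : ed Gen.e V_983 = V_920 :=
  gap_rel RW_9 (path_edge (F_2425 IH) (path_edge (F_2497 IH) (path_edge (F_2105 IH) (path_nil _))))
theorem F_2507 (IH : D.IHyp) : ed Gen.b V_983 = V_983 :=
  gap_rel RW_8 (path_edge (F_2425 IH) (path_edge (F_2491 IH) (path_edge (F_2424 IH) (path_nil _))))
theorem F_2508 (IH : D.IHyp) : ed Gen.c V_983 = V_983 :=
  gap_rel RW_11 (path_edge (F_2425 IH) (path_edge (F_2493 IH) (path_edge (F_2424 IH) (path_nil _))))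
theorem F_2510 (IH : D.IHyp) : ed Gen.b V_982 = V_982 :=
  gap_rel RW_17 (path_edge (F_2423 IH) (path_edge (F_2507 IH) (path_edge (F_2422 IH) (path_nil _))))
theorem F_2511 (IH : D.IHyp) : ed Gen.c V_982 = V_982 :=
  gap_rel RW_22 (path_edge (F_2423 IH) (path_edge (F_2508 IH) (path_edge (F_2422 IH) (path_nil _))))
theorem F_2512 (IH : D.IHyp) : ed Gen.i V_981 = V_983 :=
  gap_rel RW_6 (path_edge (F_2421 IH) (path_edge (F_2423 IH) (path_edge (F_2502 IH) (path_nil _))))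
theorem F_2513 (IH : D.IHyp) : ed Gen.i V_983 = V_981 :=
  flipE D.rels D.S (hinv Gen.i) (F_2512 IH)
theorem F_2514 (IH : D.IHyp) : V_982 = V_981 :=
  edge_fun (F_2423 IH) (F_2513 IH)
theorem F_2515 (IH : D.IHyp) : ed Gen.b V_982 = V_981 :=
  (F_2510 IH).trans (F_2514 IH)
theorem F_2516 (IH : D.IHyp) : ed Gen.b V_981 = V_981 :=
  edge_congr (F_2515 IH) (F_2514 IH)
theorem F_2517 (IH : D.IHyp) : ed Gen.c V_982 = V_981 :=
  (F_2511 IH).trans (F_2514 IH)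
theorem F_2518 (IH : D.IHyp) : ed Gen.c V_981 = V_981 :=
  edge_congr (F_2517 IH) (F_2514 IH)
theorem F_2519 (IH : D.IHyp) : V_980 = V_981 :=
  edge_fun (F_2419 IH) (F_2518 IH)
theorem F_2522 (IH : D.IHyp) : ed Gen.d V_981 = V_981 :=
  edge_congr (F_2421 IH) (F_2514 IH)
theorem F_2523 (IH : D.IHyp) : ed Gen.h V_981 = V_876 :=
  edge_congr (F_2503 IH) (F_2514 IH)
theorem F_2527 (IH : D.IHyp) : V_981 = V_980 :=
  (F_2519 IH).symm
theorem F_2528 (IH : D.IHyp) : ed Gen.b V_981 = V_980 :=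
  (F_2516 IH).trans (F_2527 IH)
theorem F_2529 (IH : D.IHyp) : ed Gen.b V_980 = V_980 :=
  edge_congr (F_2528 IH) (F_2527 IH)
theorem F_2530 (IH : D.IHyp) : V_979 = V_980 :=
  edge_fun (F_2417 IH) (F_2529 IH)
theorem F_2534 (IH : D.IHyp) : ed Gen.d V_981 = V_980 :=
  (F_2522 IH).trans (F_2527 IH)
theorem F_2535 (IH : D.IHyp) : ed Gen.d V_980 = V_980 :=
  edge_congr (F_2534 IH) (F_2527 IH)
theorem F_2536 (IH : D.IHyp) : ed Gen.h V_980 = V_876 :=
  edge_congr (F_2523 IH) (F_2527 IH)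
theorem F_2538 (IH : D.IHyp) : ed Gen.i V_980 = V_983 :=
  edge_congr (F_2512 IH) (F_2527 IH)
theorem F_2540 (IH : D.IHyp) : V_980 = V_979 :=
  (F_2530 IH).symm
theorem F_2544 (IH : D.IHyp) : ed Gen.d V_980 = V_979 :=
  (F_2535 IH).trans (F_2540 IH)
theorem F_2545 (IH : D.IHyp) : ed Gen.d V_979 = V_979 :=
  edge_congr (F_2544 IH) (F_2540 IH)
theorem F_2546 (IH : D.IHyp) : V_978 = V_979 :=
  edge_fun (F_2415 IH) (F_2545 IH)
theorem F_2549 (IH : D.IHyp) : ed Gen.h V_979 = V_876 :=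
  edge_congr (F_2536 IH) (F_2540 IH)
theorem F_2551 (IH : D.IHyp) : ed Gen.i V_979 = V_983 :=
  edge_congr (F_2538 IH) (F_2540 IH)
theorem F_2553 (IH : D.IHyp) : V_979 = V_978 :=
  (F_2546 IH).symm
theorem F_2559 (IH : D.IHyp) : ed Gen.h V_978 = V_876 :=
  edge_congr (F_2549 IH) (F_2553 IH)
theorem F_2561 (IH : D.IHyp) : ed Gen.i V_978 = V_983 :=
  edge_congr (F_2551 IH) (F_2553 IH)
theorem F_2563 (IH : D.IHyp) : ed Gen.i V_920 = V_977 :=
  gap_rel RW_15 (path_edge (F_2505 IH) (path_edge (F_2561 IH) (path_edge (F_2412 IH) (path_nil _))))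
theorem F_2564 (IH : D.IHyp) : ed Gen.i V_977 = V_920 :=
  flipE D.rels D.S (hinv Gen.i) (F_2563 IH)
theorem F_2567 (IH : D.IHyp) : ed Gen.b V_977 = V_977 :=
  gap_rel RW_17 (path_edge (F_2563 IH) (path_edge (F_2165 IH) (path_edge (F_2564 IH) (path_nil _))))
theorem F_2570 (IH : D.IHyp) : ed Gen.b V_976 = V_976 :=
  gap_rel RW_26 (path_edge (F_2411 IH) (path_edge (F_2567 IH) (path_edge (F_2410 IH) (path_nil _))))
theorem F_2573 (IH : D.IHyp) : ed Gen.b V_975 = V_975 :=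
  gap_rel RW_4 (path_edge (F_2409 IH) (path_edge (F_2570 IH) (path_edge (F_2408 IH) (path_nil _))))
theorem F_2575 (IH : D.IHyp) : ed Gen.b V_974 = V_974 :=
  gap_rel RW_8 (path_edge (F_2407 IH) (path_edge (F_2573 IH) (path_edge (F_2406 IH) (path_nil _))))
theorem F_2577 (IH : D.IHyp) : ed Gen.b V_973 = V_973 :=
  gap_rel RW_17 (path_edge (F_2405 IH) (path_edge (F_2575 IH) (path_edge (F_2404 IH) (path_nil _))))
theorem F_2579 (IH : D.IHyp) : ed Gen.b V_972 = V_972 :=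
  gap_rel RW_4 (path_edge (F_2403 IH) (path_edge (F_2577 IH) (path_edge (F_2402 IH) (path_nil _))))
theorem F_2581 (IH : D.IHyp) : ed Gen.c V_970 = V_970 :=
  gap_rel RW_3 (path_edge (F_2399 IH) (path_edge (F_2401 IH) (path_edge (F_2579 IH) (path_edge (F_2400 IH) (path_edge (F_2398 IH) (path_nil _))))))
theorem F_2589 (IH : D.IHyp) : ed Gen.h (D.P 199) = V_991 :=
  rfl
theorem F_2590 (IH : D.IHyp) : ed Gen.h V_991 = (D.P 199) :=
  flipE D.rels D.S (hinv Gen.h) (F_2589 IH)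
theorem F_2591 (IH : D.IHyp) : ed Gen.b (D.P 200) = V_991 :=
  gap_rel RW_8 (path_edge (F_186 IH) (path_edge (F_142 IH) (path_edge (F_2590 IH) (path_nil _))))
theorem F_2592 (IH : D.IHyp) : ed Gen.b V_991 = (D.P 200) :=
  flipE D.rels D.S (hinv Gen.b) (F_2591 IH)
theorem F_2593 (IH : D.IHyp) : ed Gen.c V_737 = V_991 :=
  gap_rel RW_11 (path_edge (F_841 IH) (path_edge (F_115 IH) (path_edge (F_2590 IH) (path_nil _))))
theorem F_2594 (IH : D.IHyp) : ed Gen.c V_991 = V_737 :=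
  flipE D.rels D.S (hinv Gen.c) (F_2593 IH)
theorem F_2597 (IH : D.IHyp) : ed Gen.d V_991 = V_991 :=
  gap_rel RW_12 (path_edge (F_2589 IH) (path_edge (F_31 IH) (path_edge (F_120 IH) (path_edge (F_117 IH) (path_edge (F_2590 IH) (path_nil _))))))
theorem F_2600 (IH : D.IHyp) : ed Gen.f (D.P 249) = (D.P 314) :=
  D.real_edge' IH Gen.f 249 314 (by decide +kernel)
theorem F_2601 (IH : D.IHyp) : ed Gen.d (D.P 314) = (D.P 364) :=
  D.real_edge' IH Gen.d 314 364 (by decide +kernel)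
theorem F_2624 (IH : D.IHyp) : ed Gen.f (D.P 314) = (D.P 249) :=
  D.real_edge' IH Gen.f 314 249 (by decide +kernel)
theorem F_2650 (IH : D.IHyp) : ed Gen.c (D.P 145) = (D.P 192) :=
  D.real_edge' IH Gen.c 145 192 (by decide +kernel)
theorem F_2731 (IH : D.IHyp) : ed Gen.h V_736 = V_993 :=
  rfl
theorem F_2732 (IH : D.IHyp) : ed Gen.h V_993 = V_736 :=
  flipE D.rels D.S (hinv Gen.h) (F_2731 IH)
theorem F_2733 (IH : D.IHyp) : ed Gen.b V_993 = V_993 :=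
  gap_rel RW_8 (path_edge (F_2731 IH) (path_edge (F_713 IH) (path_edge (F_2732 IH) (path_nil _))))
theorem F_2734 (IH : D.IHyp) : ed Gen.e V_737 = V_993 :=
  gap_rel RW_9 (path_edge (F_841 IH) (path_edge (F_712 IH) (path_edge (F_2732 IH) (path_nil _))))
theorem F_2735 (IH : D.IHyp) : ed Gen.e V_993 = V_737 :=
  flipE D.rels D.S (hinv Gen.e) (F_2734 IH)
theorem F_2736 (IH : D.IHyp) : ed Gen.f V_788 = V_993 :=
  gap_rel RW_10 (path_edge (F_1359 IH) (path_edge (F_1378 IH) (path_edge (F_2732 IH) (path_nil _))))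
theorem F_2737 (IH : D.IHyp) : ed Gen.f V_993 = V_788 :=
  flipE D.rels D.S (hinv Gen.f) (F_2736 IH)
theorem F_2738 (IH : D.IHyp) : ed Gen.i V_874 = V_993 :=
  gap_rel RW_15 (path_edge (F_1832 IH) (path_edge (F_1886 IH) (path_edge (F_2735 IH) (path_nil _))))
theorem F_2739 (IH : D.IHyp) : ed Gen.i V_993 = V_874 :=
  flipE D.rels D.S (hinv Gen.i) (F_2738 IH)
theorem F_2740 (IH : D.IHyp) : ed Gen.f V_787 = V_874 :=
  gap_rel RW_19 (path_edge (F_1357 IH) (path_edge (F_2737 IH) (path_edge (F_2738 IH) (path_nil _))))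
theorem F_2741 (IH : D.IHyp) : ed Gen.f V_874 = V_787 :=
  flipE D.rels D.S (hinv Gen.f) (F_2740 IH)
theorem F_2742 (IH : D.IHyp) : V_873 = V_787 :=
  edge_fun (F_1830 IH) (F_2741 IH)
theorem F_2745 (IH : D.IHyp) : ed Gen.d V_787 = V_872 :=
  edge_congr (F_1828 IH) (F_2742 IH)
theorem F_2746 (IH : D.IHyp) : V_786 = V_872 :=
  edge_fun (F_1355 IH) (F_2745 IH)
theorem F_2750 (IH : D.IHyp) : ed Gen.f V_787 = V_874 :=
  edge_congr (F_1829 IH) (F_2742 IH)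
theorem F_2751 (IH : D.IHyp) : ed Gen.f V_874 = V_787 :=
  flipE D.rels D.S (hinv Gen.f) (F_2750 IH)
theorem F_2754 (IH : D.IHyp) : V_872 = V_786 :=
  (F_2746 IH).symm
theorem F_2758 (IH : D.IHyp) : ed Gen.h V_786 = V_871 :=
  edge_congr (F_1826 IH) (F_2754 IH)
theorem F_2759 (IH : D.IHyp) : ed Gen.h V_871 = V_786 :=
  flipE D.rels D.S (hinv Gen.h) (F_2758 IH)
theorem F_3460 (IH : D.IHyp) : ed Gen.f (D.P 338) = (D.P 407) :=
  D.real_edge' IH Gen.f 338 407 (by decide +kernel)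
theorem F_4280 (IH : D.IHyp) : ed Gen.f (D.P 167) = (D.P 167) :=
  D.real_edge' IH Gen.f 167 167 (by decide +kernel)
theorem F_5080 (IH : D.IHyp) : ed Gen.i V_733 = V_1419 :=
  rfl
theorem F_5081 (IH : D.IHyp) : ed Gen.i V_1419 = V_733 :=
  flipE D.rels D.S (hinv Gen.i) (F_5080 IH)
theorem F_5082 (IH : D.IHyp) : ed Gen.c V_741 = V_1419 :=
  gap_rel RW_22 (path_edge (F_914 IH) (path_edge (F_473 IH) (path_edge (F_5081 IH) (path_nil _))))
theorem F_5083 (IH : D.IHyp) : ed Gen.c V_1419 = V_741 :=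
  flipE D.rels D.S (hinv Gen.c) (F_5082 IH)
theorem F_5084 (IH : D.IHyp) : ed Gen.d V_1419 = V_1419 :=
  gap_rel RW_23 (path_edge (F_5080 IH) (path_edge (F_480 IH) (path_edge (F_5081 IH) (path_nil _))))
theorem F_5085 (IH : D.IHyp) : ed Gen.e V_1419 = V_1419 :=
  gap_rel RW_18 (path_edge (F_5080 IH) (path_edge (F_475 IH) (path_edge (F_5081 IH) (path_nil _))))
theorem F_5086 (IH : D.IHyp) : ed Gen.f V_1419 = V_1419 :=
  gap_rel RW_19 (path_edge (F_5080 IH) (path_edge (F_476 IH) (path_edge (F_5081 IH) (path_nil _))))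
theorem F_5087 (IH : D.IHyp) : ed Gen.h V_1419 = V_1419 :=
  gap_rel RW_20 (path_edge (F_5080 IH) (path_edge (F_465 IH) (path_edge (F_9 IH) (path_edge (F_466 IH) (path_edge (F_5081 IH) (path_nil _))))))
theorem F_5088 (IH : D.IHyp) : ed Gen.b V_1419 = V_1420 :=
  rfl
theorem F_5089 (IH : D.IHyp) : ed Gen.b V_1420 = V_1419 :=
  flipE D.rels D.S (hinv Gen.b) (F_5088 IH)
theorem F_5090 (IH : D.IHyp) : ed Gen.d V_1420 = V_1420 :=
  gap_rel RW_29 (path_edge (F_5088 IH) (path_edge (F_5084 IH) (path_edge (F_5089 IH) (path_nil _))))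
theorem F_5091 (IH : D.IHyp) : ed Gen.e V_1420 = V_1420 :=
  gap_rel RW_30 (path_edge (F_5088 IH) (path_edge (F_5085 IH) (path_edge (F_5089 IH) (path_nil _))))
theorem F_5092 (IH : D.IHyp) : ed Gen.f V_1420 = V_1420 :=
  gap_rel RW_42 (path_edge (F_5088 IH) (path_edge (F_5086 IH) (path_edge (F_5089 IH) (path_nil _))))
theorem F_5093 (IH : D.IHyp) : ed Gen.h V_1420 = V_1420 :=
  gap_rel RW_31 (path_edge (F_5088 IH) (path_edge (F_5087 IH) (path_edge (F_5089 IH) (path_nil _))))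
theorem F_5094 (IH : D.IHyp) : ed Gen.i V_1420 = (D.P 158) :=
  gap_rel RW_36 (path_edge (F_5088 IH) (path_edge (F_5080 IH) (path_edge (F_469 IH) (path_nil _))))
theorem F_5095 (IH : D.IHyp) : ed Gen.i (D.P 158) = V_1420 :=
  flipE D.rels D.S (hinv Gen.i) (F_5094 IH)
theorem F_5096 (IH : D.IHyp) : ed Gen.c V_1420 = V_1420 :=
  gap_rel RW_3 (path_edge (F_5088 IH) (path_edge (F_5082 IH) (path_edge (F_916 IH) (path_edge (F_5083 IH) (path_edge (F_5089 IH) (path_nil _))))))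
theorem F_5097 (IH : D.IHyp) : ed Gen.c (D.P 496) = V_1421 :=
  rfl
theorem F_5098 (IH : D.IHyp) : ed Gen.c V_1421 = (D.P 496) :=
  flipE D.rels D.S (hinv Gen.c) (F_5097 IH)
theorem F_5099 (IH : D.IHyp) : ed Gen.f V_1421 = V_1421 :=
  gap_rel RW_1 (path_edge (F_5097 IH) (path_edge (F_169 IH) (path_edge (F_5098 IH) (path_nil _))))
theorem F_5100 (IH : D.IHyp) : ed Gen.h V_1421 = V_928 :=
  gap_rel RW_32 (path_edge (F_5097 IH) (path_edge (F_2197 IH) (path_edge (F_2308 IH) (path_nil _))))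
theorem F_5102 (IH : D.IHyp) : ed Gen.d V_1421 = V_1422 :=
  rfl
theorem F_5103 (IH : D.IHyp) : ed Gen.d V_1422 = V_1421 :=
  flipE D.rels D.S (hinv Gen.d) (F_5102 IH)
theorem F_5104 (IH : D.IHyp) : ed Gen.f V_1422 = V_1422 :=
  gap_rel RW_5 (path_edge (F_5102 IH) (path_edge (F_5099 IH) (path_edge (F_5103 IH) (path_nil _))))
theorem F_5105 (IH : D.IHyp) : ed Gen.c (D.P 566) = V_1422 :=
  gap_rel RW_7 (path_edge (F_109 IH) (path_edge (F_2287 IH) (path_edge (F_170 IH) (path_edge (F_5098 IH) (path_edge (F_5103 IH) (path_nil _))))))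
theorem F_5106 (IH : D.IHyp) : ed Gen.c V_1422 = (D.P 566) :=
  flipE D.rels D.S (hinv Gen.c) (F_5105 IH)
theorem F_5107 (IH : D.IHyp) : ed Gen.e V_1422 = V_1422 :=
  gap_rel RW_0 (path_edge (F_5105 IH) (path_edge (F_1464 IH) (path_edge (F_5106 IH) (path_nil _))))
theorem F_5108 (IH : D.IHyp) : ed Gen.i V_1422 = V_1423 :=
  rfl
theorem F_5109 (IH : D.IHyp) : ed Gen.i V_1423 = V_1422 :=
  flipE D.rels D.S (hinv Gen.i) (F_5108 IH)
theorem F_5112 (IH : D.IHyp) : ed Gen.e V_1423 = V_1423 :=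
  gap_rel RW_18 (path_edge (F_5108 IH) (path_edge (F_5107 IH) (path_edge (F_5109 IH) (path_nil _))))
theorem F_5113 (IH : D.IHyp) : ed Gen.f V_1423 = V_1423 :=
  gap_rel RW_19 (path_edge (F_5108 IH) (path_edge (F_5104 IH) (path_edge (F_5109 IH) (path_nil _))))
theorem F_5133 (IH : D.IHyp) : ed Gen.d (D.P 342) = (D.P 410) :=
  D.real_edge' IH Gen.d 342 410 (by decide +kernel)
theorem F_5136 (IH : D.IHyp) : ed Gen.d (D.P 480) = (D.P 480) :=
  D.real_edge' IH Gen.d 480 480 (by decide +kernel)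
theorem F_5157 (IH : D.IHyp) : ed Gen.h V_1423 = V_1424 :=
  rfl
theorem F_5158 (IH : D.IHyp) : ed Gen.h V_1424 = V_1423 :=
  flipE D.rels D.S (hinv Gen.h) (F_5157 IH)
theorem F_5159 (IH : D.IHyp) : ed Gen.e V_1424 = V_1424 :=
  gap_rel RW_9 (path_edge (F_5157 IH) (path_edge (F_5112 IH) (path_edge (F_5158 IH) (path_nil _))))
theorem F_5160 (IH : D.IHyp) : ed Gen.f V_1424 = V_1424 :=
  gap_rel RW_10 (path_edge (F_5157 IH) (path_edge (F_5113 IH) (path_edge (F_5158 IH) (path_nil _))))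
theorem F_5161 (IH : D.IHyp) : ed Gen.d V_1424 = V_1425 :=
  rfl
theorem F_5162 (IH : D.IHyp) : ed Gen.d V_1425 = V_1424 :=
  flipE D.rels D.S (hinv Gen.d) (F_5161 IH)
theorem F_5163 (IH : D.IHyp) : ed Gen.f V_1425 = V_1425 :=
  gap_rel RW_5 (path_edge (F_5161 IH) (path_edge (F_5160 IH) (path_edge (F_5162 IH) (path_nil _))))
theorem F_5164 (IH : D.IHyp) : ed Gen.e V_1425 = V_1426 :=
  rfl
theorem F_5165 (IH : D.IHyp) : ed Gen.e V_1426 = V_1425 :=
  flipE D.rels D.S (hinv Gen.e) (F_5164 IH)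
theorem F_5166 (IH : D.IHyp) : ed Gen.d V_1426 = V_1426 :=
  gap_rel RW_16 (path_edge (F_5164 IH) (path_edge (F_5161 IH) (path_edge (F_5159 IH) (path_edge (F_5162 IH) (path_edge (F_5165 IH) (path_nil _))))))
theorem F_5167 (IH : D.IHyp) : ed Gen.b V_1426 = V_1427 :=
  rfl
theorem F_5170 (IH : D.IHyp) : ed Gen.c V_1427 = V_1428 :=
  rfl
theorem F_5172 (IH : D.IHyp) : ed Gen.d V_1428 = V_1429 :=
  rfl
theorem F_5175 (IH : D.IHyp) : ed Gen.i V_1429 = V_1430 :=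
  rfl
theorem F_5178 (IH : D.IHyp) : ed Gen.h V_1430 = V_1431 :=
  rfl
theorem F_5181 (IH : D.IHyp) : ed Gen.d V_1431 = V_1432 :=
  rfl
theorem F_5183 (IH : D.IHyp) : ed Gen.f V_1432 = V_1433 :=
  rfl
theorem F_5185 (IH : D.IHyp) : ed Gen.e V_1433 = V_1434 :=
  rfl
theorem F_5187 (IH : D.IHyp) : ed Gen.d V_1434 = V_1435 :=
  rfl
theorem F_5189 (IH : D.IHyp) : ed Gen.b V_1435 = V_1436 :=
  rfl
theorem F_5191 (IH : D.IHyp) : ed Gen.c V_1436 = V_1437 :=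
  rfl
theorem F_5193 (IH : D.IHyp) : ed Gen.d V_1437 = V_1438 :=
  rfl
theorem F_5195 (IH : D.IHyp) : ed Gen.i V_1438 = V_1439 :=
  rfl
theorem F_5197 (IH : D.IHyp) : ed Gen.h V_1439 = V_1440 :=
  rfl
theorem F_5199 (IH : D.IHyp) : ed Gen.d V_1440 = V_1441 :=
  rfl
theorem F_5201 (IH : D.IHyp) : ed Gen.f V_1441 = V_1442 :=
  rfl
theorem F_5203 (IH : D.IHyp) : ed Gen.e V_1442 = V_1443 :=
  rfl
theorem F_5205 (IH : D.IHyp) : ed Gen.d V_1443 = V_1444 :=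
  rfl
theorem F_5207 (IH : D.IHyp) : ed Gen.b V_1444 = V_1445 :=
  rfl
theorem F_5209 (IH : D.IHyp) : ed Gen.c V_1445 = V_1446 :=
  rfl
theorem F_5211 (IH : D.IHyp) : ed Gen.d V_1446 = V_1447 :=
  rfl
theorem F_5213 (IH : D.IHyp) : ed Gen.i V_1447 = V_1448 :=
  rfl
theorem F_5215 (IH : D.IHyp) : ed Gen.h V_1448 = V_1449 :=
  rfl
theorem F_5217 (IH : D.IHyp) : ed Gen.d V_1449 = V_1450 :=
  rfl
theorem F_5219 (IH : D.IHyp) : ed Gen.f V_1450 = V_1451 :=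
  rfl
theorem F_5221 (IH : D.IHyp) : ed Gen.e V_1451 = V_1452 :=
  rfl
theorem F_5223 (IH : D.IHyp) : ed Gen.d V_1452 = V_1453 :=
  rfl
theorem F_5225 (IH : D.IHyp) : ed Gen.b V_1453 = V_1454 :=
  rfl
theorem F_5227 (IH : D.IHyp) : ed Gen.c V_1454 = V_1455 :=
  rfl
theorem F_5228 (IH : D.IHyp) : ed Gen.c V_1455 = V_1454 :=
  flipE D.rels D.S (hinv Gen.c) (F_5227 IH)
theorem F_5229 (IH : D.IHyp) : ed Gen.d V_1455 = V_1456 :=
  rfl
theorem F_5230 (IH : D.IHyp) : ed Gen.d V_1456 = V_1455 :=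
  flipE D.rels D.S (hinv Gen.d) (F_5229 IH)
theorem F_5231 (IH : D.IHyp) : ed Gen.i V_1456 = V_1457 :=
  rfl
theorem F_5232 (IH : D.IHyp) : ed Gen.i V_1457 = V_1456 :=
  flipE D.rels D.S (hinv Gen.i) (F_5231 IH)
theorem F_5233 (IH : D.IHyp) : ed Gen.h V_1457 = V_1458 :=
  rfl
theorem F_5234 (IH : D.IHyp) : ed Gen.h V_1458 = V_1457 :=
  flipE D.rels D.S (hinv Gen.h) (F_5233 IH)
theorem F_5235 (IH : D.IHyp) : ed Gen.d V_1458 = V_1459 :=
  rfl
theorem F_5236 (IH : D.IHyp) : ed Gen.d V_1459 = V_1458 :=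
  flipE D.rels D.S (hinv Gen.d) (F_5235 IH)
theorem F_5237 (IH : D.IHyp) : ed Gen.f V_1459 = V_1460 :=
  rfl
theorem F_5238 (IH : D.IHyp) : ed Gen.f V_1460 = V_1459 :=
  flipE D.rels D.S (hinv Gen.f) (F_5237 IH)
theorem F_5239 (IH : D.IHyp) : ed Gen.e V_1460 = V_1461 :=
  rfl
theorem F_5240 (IH : D.IHyp) : ed Gen.e V_1461 = V_1460 :=
  flipE D.rels D.S (hinv Gen.e) (F_5239 IH)
theorem F_5241 (IH : D.IHyp) : ed Gen.d V_1461 = V_1462 :=
  rfl
theorem F_5242 (IH : D.IHyp) : ed Gen.d V_1462 = V_1461 :=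
  flipE D.rels D.S (hinv Gen.d) (F_5241 IH)
theorem F_5243 (IH : D.IHyp) : ed Gen.b V_1462 = V_1463 :=
  rfl
theorem F_5244 (IH : D.IHyp) : ed Gen.b V_1463 = V_1462 :=
  flipE D.rels D.S (hinv Gen.b) (F_5243 IH)
theorem F_5245 (IH : D.IHyp) : ed Gen.c V_1463 = V_1464 :=
  rfl
theorem F_5246 (IH : D.IHyp) : ed Gen.c V_1464 = V_1463 :=
  flipE D.rels D.S (hinv Gen.c) (F_5245 IH)
theorem F_5247 (IH : D.IHyp) : ed Gen.d V_1464 = V_1465 :=
  rfl
theorem F_5248 (IH : D.IHyp) : ed Gen.d V_1465 = V_1464 :=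
  flipE D.rels D.S (hinv Gen.d) (F_5247 IH)
theorem F_5249 (IH : D.IHyp) : ed Gen.i V_1465 = V_1466 :=
  rfl
theorem F_5250 (IH : D.IHyp) : ed Gen.i V_1466 = V_1465 :=
  flipE D.rels D.S (hinv Gen.i) (F_5249 IH)
theorem F_5251 (IH : D.IHyp) : ed Gen.h V_1466 = V_1467 :=
  rfl
theorem F_5252 (IH : D.IHyp) : ed Gen.h V_1467 = V_1466 :=
  flipE D.rels D.S (hinv Gen.h) (F_5251 IH)
theorem F_5253 (IH : D.IHyp) : ed Gen.d V_1467 = V_1468 :=
  rfl
theorem F_5254 (IH : D.IHyp) : ed Gen.d V_1468 = V_1467 :=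
  flipE D.rels D.S (hinv Gen.d) (F_5253 IH)
theorem F_5255 (IH : D.IHyp) : ed Gen.f V_1468 = V_922 :=
  gap_rel RW_25 (path_edge (F_5253 IH) (path_edge (F_5251 IH) (path_edge (F_5249 IH) (path_edge (F_5247 IH) (path_edge (F_5245 IH) (path_edge (F_5243 IH) (path_edge (F_5241 IH) (path_edge (F_5239 IH) (path_edge (F_5237 IH) (path_edge (F_5235 IH) (path_edge (F_5233 IH) (path_edge (F_5231 IH) (path_edge (F_5229 IH) (path_edge (F_5227 IH) (path_edge (F_5225 IH) (path_edge (F_5223 IH) (path_edge (F_5221 IH) (path_edge (F_5219 IH) (path_edge (F_5217 IH) (path_edge (F_5215 IH) (path_edge (F_5213 IH) (path_edge (F_5211 IH) (path_edge (F_5209 IH) (path_edge (F_5207 IH) (path_edge (F_5205 IH) (path_edge (F_5203 IH) (path_edge (F_5201 IH) (path_edge (F_5199 IH) (path_edge (F_5197 IH) (path_edge (F_5195 IH) (path_edge (F_5193 IH) (path_edge (F_5191 IH) (path_edge (F_5189 IH) (path_edge (F_5187 IH) (path_edge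 (F_5185 IH) (path_edge (F_5183 IH) (path_edge (F_5181 IH) (path_edge (F_5178 IH) (path_edge (F_5175 IH) (path_edge (F_5172 IH) (path_edge (F_5170 IH) (path_edge (F_5167 IH) (path_edge (F_5166 IH) (path_edge (F_5164 IH) (path_edge (F_5163 IH) (path_edge (F_5161 IH) (path_edge (F_5157 IH) (path_edge (F_5108 IH) (path_edge (F_5102 IH) (path_edge (F_5097 IH) (path_edge (F_583 IH) (path_edge (F_582 IH) (path_edge (F_581 IH) (path_edge (F_580 IH) (path_edge (F_579 IH) (path_edge (F_578 IH) (path_edge (F_577 IH) (path_edge (F_576 IH) (path_edge (F_575 IH) (path_edge (F_574 IH) (path_edge (F_573 IH) (path_edge (F_572 IH) (path_edge (F_571 IH) (path_edge (F_570 IH) (path_edge (F_569 IH) (path_edge (F_568 IH) (path_edge (F_206 IH) (path_edge (F_567 IH) (path_edge (F_566 IH) (path_edge (F_565 IH) (path_edge (F_63 IH) (path_edge (F_564 IH) (path_edge (F_62 IH) (path_edge (F_477 IH) (path_edge (F_5094 IH) (path_edge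 (F_5090 IH) (path_edge (F_5096 IH) (path_edge (F_5088 IH) (path_edge (F_5084 IH) (path_edge (F_5085 IH) (path_edge (F_5086 IH) (path_edge (F_5084 IH) (path_edge (F_5087 IH) (path_edge (F_5080 IH) (path_edge (F_480 IH) (path_edge (F_472 IH) (path_edge (F_462 IH) (path_edge (F_854 IH) (path_edge (F_2156 IH) (path_nil _))))))))))))))))))))))))))))))))))))))))))))))))))))))))))))))))))))))))))))))))))))))))))
theorem F_5256 (IH : D.IHyp) : ed Gen.f V_922 = V_1468 :=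
  flipE D.rels D.S (hinv Gen.f) (F_5255 IH)
theorem F_5257 (IH : D.IHyp) : ed Gen.b V_1468 = V_1468 :=
  gap_rel RW_26 (path_edge (F_5256 IH) (path_edge (F_2152 IH) (path_edge (F_5255 IH) (path_nil _))))
theorem F_5258 (IH : D.IHyp) : ed Gen.c V_1468 = V_1468 :=
  gap_rel RW_27 (path_edge (F_5256 IH) (path_edge (F_2153 IH) (path_edge (F_5255 IH) (path_nil _))))
theorem F_5259 (IH : D.IHyp) : ed Gen.b V_1467 = V_1467 :=
  gap_rel RW_4 (path_edge (F_5254 IH) (path_edge (F_5257 IH) (path_edge (F_5253 IH) (path_nil _))))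
theorem F_5260 (IH : D.IHyp) : ed Gen.f V_1467 = V_922 :=
  gap_rel RW_5 (path_edge (F_5254 IH) (path_edge (F_5256 IH) (path_edge (F_2134 IH) (path_nil _))))
theorem F_5261 (IH : D.IHyp) : ed Gen.f V_922 = V_1467 :=
  flipE D.rels D.S (hinv Gen.f) (F_5260 IH)
theorem F_5262 (IH : D.IHyp) : V_1468 = V_1467 :=
  edge_fun (F_5256 IH) (F_5261 IH)
theorem F_5265 (IH : D.IHyp) : ed Gen.c V_1468 = V_1467 :=
  (F_5258 IH).trans (F_5262 IH)
theorem F_5266 (IH : D.IHyp) : ed Gen.c V_1467 = V_1467 :=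
  edge_congr (F_5265 IH) (F_5262 IH)
theorem F_5268 (IH : D.IHyp) : ed Gen.f V_1467 = V_922 :=
  edge_congr (F_5255 IH) (F_5262 IH)
theorem F_5269 (IH : D.IHyp) : ed Gen.f V_922 = V_1467 :=
  flipE D.rels D.S (hinv Gen.f) (F_5268 IH)
theorem F_5270 (IH : D.IHyp) : ed Gen.f V_823 = V_1466 :=
  gap_rel RW_10 (path_edge (F_2158 IH) (path_edge (F_5260 IH) (path_edge (F_5251 IH) (path_nil _))))
theorem F_5272 (IH : D.IHyp) : ed Gen.b V_1466 = V_1466 :=
  gap_rel RW_8 (path_edge (F_5252 IH) (path_edge (F_5259 IH) (path_edge (F_5251 IH) (path_nil _))))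
theorem F_5273 (IH : D.IHyp) : ed Gen.c V_1466 = V_1466 :=
  gap_rel RW_11 (path_edge (F_5252 IH) (path_edge (F_5266 IH) (path_edge (F_5251 IH) (path_nil _))))
theorem F_5274 (IH : D.IHyp) : ed Gen.e V_1467 = V_1467 :=
  gap_rel RW_44 (path_edge (F_5269 IH) (path_edge (F_2157 IH) (path_edge (F_852 IH) (path_edge (F_2156 IH) (path_edge (F_5260 IH) (path_nil _))))))
theorem F_5275 (IH : D.IHyp) : ed Gen.e V_1466 = V_1466 :=
  gap_rel RW_9 (path_edge (F_5252 IH) (path_edge (F_5274 IH) (path_edge (F_5251 IH) (path_nil _))))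
theorem F_5276 (IH : D.IHyp) : ed Gen.b V_1465 = V_1465 :=
  gap_rel RW_17 (path_edge (F_5250 IH) (path_edge (F_5272 IH) (path_edge (F_5249 IH) (path_nil _))))
theorem F_5277 (IH : D.IHyp) : ed Gen.c V_1465 = V_1465 :=
  gap_rel RW_22 (path_edge (F_5250 IH) (path_edge (F_5273 IH) (path_edge (F_5249 IH) (path_nil _))))
theorem F_5279 (IH : D.IHyp) : ed Gen.b V_1464 = V_1464 :=
  gap_rel RW_4 (path_edge (F_5248 IH) (path_edge (F_5276 IH) (path_edge (F_5247 IH) (path_nil _))))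
theorem F_5280 (IH : D.IHyp) : ed Gen.d V_1463 = V_1463 :=
  gap_rel RW_21 (path_edge (F_5246 IH) (path_edge (F_5248 IH) (path_edge (F_5277 IH) (path_edge (F_5247 IH) (path_edge (F_5245 IH) (path_nil _))))))
theorem F_5281 (IH : D.IHyp) : ed Gen.c V_1462 = V_1462 :=
  gap_rel RW_3 (path_edge (F_5244 IH) (path_edge (F_5246 IH) (path_edge (F_5279 IH) (path_edge (F_5245 IH) (path_edge (F_5243 IH) (path_nil _))))))
theorem F_5282 (IH : D.IHyp) : ed Gen.b V_1461 = V_1463 :=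
  gap_rel RW_4 (path_edge (F_5242 IH) (path_edge (F_5244 IH) (path_edge (F_5280 IH) (path_nil _))))
theorem F_5283 (IH : D.IHyp) : ed Gen.b V_1463 = V_1461 :=
  flipE D.rels D.S (hinv Gen.b) (F_5282 IH)
theorem F_5284 (IH : D.IHyp) : V_1462 = V_1461 :=
  edge_fun (F_5244 IH) (F_5283 IH)
theorem F_5285 (IH : D.IHyp) : ed Gen.b V_1461 = V_1463 :=
  edge_congr (F_5243 IH) (F_5284 IH)
theorem F_5286 (IH : D.IHyp) : ed Gen.b V_1463 = V_1461 :=
  flipE D.rels D.S (hinv Gen.b) (F_5285 IH)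
theorem F_5287 (IH : D.IHyp) : ed Gen.c V_1462 = V_1461 :=
  (F_5281 IH).trans (F_5284 IH)
theorem F_5288 (IH : D.IHyp) : ed Gen.c V_1461 = V_1461 :=
  edge_congr (F_5287 IH) (F_5284 IH)
theorem F_5289 (IH : D.IHyp) : ed Gen.d V_1461 = V_1461 :=
  edge_congr (F_5242 IH) (F_5284 IH)
theorem F_5290 (IH : D.IHyp) : ed Gen.c V_1460 = V_1460 :=
  gap_rel RW_14 (path_edge (F_5240 IH) (path_edge (F_5288 IH) (path_edge (F_5239 IH) (path_nil _))))
theorem F_5291 (IH : D.IHyp) : ed Gen.c V_1459 = V_1459 :=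
  gap_rel RW_27 (path_edge (F_5238 IH) (path_edge (F_5290 IH) (path_edge (F_5237 IH) (path_nil _))))
theorem F_5457 (IH : D.IHyp) : ed Gen.f V_821 = V_1501 :=
  rfl
theorem F_5458 (IH : D.IHyp) : ed Gen.f V_1501 = V_821 :=
  flipE D.rels D.S (hinv Gen.f) (F_5457 IH)
theorem F_5459 (IH : D.IHyp) : ed Gen.b V_1501 = V_1501 :=
  gap_rel RW_26 (path_edge (F_5457 IH) (path_edge (F_1621 IH) (path_edge (F_5458 IH) (path_nil _))))
theorem F_5460 (IH : D.IHyp) : ed Gen.d V_1466 = V_1501 :=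
  gap_rel RW_40 (path_edge (F_5270 IH) (path_edge (F_1618 IH) (path_edge (F_5458 IH) (path_nil _))))
theorem F_5461 (IH : D.IHyp) : ed Gen.d V_1501 = V_1466 :=
  flipE D.rels D.S (hinv Gen.d) (F_5460 IH)
theorem F_5462 (IH : D.IHyp) : ed Gen.h V_1501 = V_1501 :=
  gap_rel RW_39 (path_edge (F_5457 IH) (path_edge (F_2160 IH) (path_edge (F_5458 IH) (path_nil _))))
theorem F_5463 (IH : D.IHyp) : ed Gen.i V_1464 = V_1501 :=
  gap_rel RW_6 (path_edge (F_5248 IH) (path_edge (F_5250 IH) (path_edge (F_5461 IH) (path_nil _))))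
theorem F_5464 (IH : D.IHyp) : ed Gen.i V_1501 = V_1464 :=
  flipE D.rels D.S (hinv Gen.i) (F_5463 IH)
theorem F_5465 (IH : D.IHyp) : ed Gen.e V_1501 = V_1502 :=
  rfl
theorem F_5466 (IH : D.IHyp) : ed Gen.e V_1502 = V_1501 :=
  flipE D.rels D.S (hinv Gen.e) (F_5465 IH)
theorem F_5467 (IH : D.IHyp) : ed Gen.b V_1502 = V_1502 :=
  gap_rel RW_13 (path_edge (F_5465 IH) (path_edge (F_5459 IH) (path_edge (F_5466 IH) (path_nil _))))
theorem F_5469 (IH : D.IHyp) : ed Gen.d V_1502 = V_1502 :=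
  gap_rel RW_16 (path_edge (F_5465 IH) (path_edge (F_5460 IH) (path_edge (F_5275 IH) (path_edge (F_5461 IH) (path_edge (F_5466 IH) (path_nil _))))))
theorem F_5470 (IH : D.IHyp) : ed Gen.c V_1502 = V_1503 :=
  rfl
theorem F_5471 (IH : D.IHyp) : ed Gen.c V_1503 = V_1502 :=
  flipE D.rels D.S (hinv Gen.c) (F_5470 IH)
theorem F_5473 (IH : D.IHyp) : ed Gen.d V_1503 = V_1504 :=
  rfl
theorem F_5474 (IH : D.IHyp) : ed Gen.d V_1504 = V_1503 :=
  flipE D.rels D.S (hinv Gen.d) (F_5473 IH)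
theorem F_5475 (IH : D.IHyp) : ed Gen.c V_1504 = V_1504 :=
  gap_rel RW_7 (path_edge (F_5473 IH) (path_edge (F_5470 IH) (path_edge (F_5469 IH) (path_edge (F_5471 IH) (path_edge (F_5474 IH) (path_nil _))))))
theorem F_5476 (IH : D.IHyp) : ed Gen.i V_1504 = V_1505 :=
  rfl
theorem F_5477 (IH : D.IHyp) : ed Gen.i V_1505 = V_1504 :=
  flipE D.rels D.S (hinv Gen.i) (F_5476 IH)
theorem F_5479 (IH : D.IHyp) : ed Gen.h V_1505 = V_1506 :=
  rfl
theorem F_5480 (IH : D.IHyp) : ed Gen.h V_1506 = V_1505 :=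
  flipE D.rels D.S (hinv Gen.h) (F_5479 IH)
theorem F_5482 (IH : D.IHyp) : ed Gen.d V_1506 = V_1507 :=
  rfl
theorem F_5483 (IH : D.IHyp) : ed Gen.d V_1507 = V_1506 :=
  flipE D.rels D.S (hinv Gen.d) (F_5482 IH)
theorem F_5484 (IH : D.IHyp) : ed Gen.f V_1507 = V_1508 :=
  rfl
theorem F_5485 (IH : D.IHyp) : ed Gen.f V_1508 = V_1507 :=
  flipE D.rels D.S (hinv Gen.f) (F_5484 IH)
theorem F_5486 (IH : D.IHyp) : ed Gen.e V_1508 = V_1509 :=
  rfl
theorem F_5488 (IH : D.IHyp) : ed Gen.d V_1509 = V_1510 :=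
  rfl
theorem F_5489 (IH : D.IHyp) : ed Gen.d V_1510 = V_1509 :=
  flipE D.rels D.S (hinv Gen.d) (F_5488 IH)
theorem F_5490 (IH : D.IHyp) : ed Gen.b V_1510 = V_1511 :=
  rfl
theorem F_5491 (IH : D.IHyp) : ed Gen.b V_1511 = V_1510 :=
  flipE D.rels D.S (hinv Gen.b) (F_5490 IH)
theorem F_5492 (IH : D.IHyp) : ed Gen.c V_1511 = V_1512 :=
  rfl
theorem F_5493 (IH : D.IHyp) : ed Gen.c V_1512 = V_1511 :=
  flipE D.rels D.S (hinv Gen.c) (F_5492 IH)
theorem F_5494 (IH : D.IHyp) : ed Gen.d V_1512 = V_1513 :=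
  rfl
theorem F_5495 (IH : D.IHyp) : ed Gen.d V_1513 = V_1512 :=
  flipE D.rels D.S (hinv Gen.d) (F_5494 IH)
theorem F_5496 (IH : D.IHyp) : ed Gen.i V_1513 = V_1514 :=
  rfl
theorem F_5498 (IH : D.IHyp) : ed Gen.h V_1514 = V_1515 :=
  rfl
theorem F_5500 (IH : D.IHyp) : ed Gen.d V_1515 = V_1516 :=
  rfl
theorem F_5502 (IH : D.IHyp) : ed Gen.f V_1516 = V_1517 :=
  rfl
theorem F_5504 (IH : D.IHyp) : ed Gen.e V_1517 = V_1518 :=
  rfl
theorem F_5506 (IH : D.IHyp) : ed Gen.d V_1518 = V_1519 :=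
  rfl
theorem F_5508 (IH : D.IHyp) : ed Gen.b V_1519 = V_1520 :=
  rfl
theorem F_5510 (IH : D.IHyp) : ed Gen.c V_1520 = V_1521 :=
  rfl
theorem F_5512 (IH : D.IHyp) : ed Gen.d V_1521 = V_1522 :=
  rfl
theorem F_5514 (IH : D.IHyp) : ed Gen.i V_1522 = V_1523 :=
  rfl
theorem F_5516 (IH : D.IHyp) : ed Gen.h V_1523 = V_1524 :=
  rfl
theorem F_5518 (IH : D.IHyp) : ed Gen.d V_1524 = V_1525 :=
  rfl
theorem F_5520 (IH : D.IHyp) : ed Gen.f V_1525 = V_1526 :=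
  rfl
theorem F_5522 (IH : D.IHyp) : ed Gen.e V_1526 = V_1527 :=
  rfl
theorem F_5524 (IH : D.IHyp) : ed Gen.d V_1527 = V_1528 :=
  rfl
theorem F_5526 (IH : D.IHyp) : ed Gen.b V_1528 = V_1529 :=
  rfl
theorem F_5528 (IH : D.IHyp) : ed Gen.c V_1529 = V_1530 :=
  rfl
theorem F_5530 (IH : D.IHyp) : ed Gen.d V_1530 = V_1531 :=
  rfl
theorem F_5532 (IH : D.IHyp) : ed Gen.i V_1531 = V_1532 :=
  rfl
theorem F_5534 (IH : D.IHyp) : ed Gen.h V_1532 = V_1533 :=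
  rfl
theorem F_5536 (IH : D.IHyp) : ed Gen.d V_1533 = V_1534 :=
  rfl
theorem F_5538 (IH : D.IHyp) : ed Gen.f V_1534 = V_1535 :=
  rfl
theorem F_5540 (IH : D.IHyp) : ed Gen.e V_1535 = V_1536 :=
  rfl
theorem F_5542 (IH : D.IHyp) : ed Gen.d V_1536 = V_1537 :=
  rfl
theorem F_5544 (IH : D.IHyp) : ed Gen.b V_1537 = V_1538 :=
  rfl
theorem F_5546 (IH : D.IHyp) : ed Gen.c V_1538 = V_1539 :=
  rfl
theorem F_5548 (IH : D.IHyp) : ed Gen.d V_1539 = V_1540 :=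
  rfl
theorem F_5550 (IH : D.IHyp) : ed Gen.i V_1540 = V_1541 :=
  rfl
theorem F_5552 (IH : D.IHyp) : ed Gen.h V_1541 = V_1542 :=
  rfl
theorem F_5554 (IH : D.IHyp) : ed Gen.d V_1542 = V_1543 :=
  rfl
theorem F_5556 (IH : D.IHyp) : ed Gen.f V_1543 = V_1544 :=
  rfl
theorem F_5558 (IH : D.IHyp) : ed Gen.e V_1544 = V_1545 :=
  rfl
theorem F_5560 (IH : D.IHyp) : ed Gen.d V_1545 = V_1546 :=
  rfl
theorem F_5562 (IH : D.IHyp) : ed Gen.b V_1546 = V_1547 :=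
  rfl
theorem F_5564 (IH : D.IHyp) : ed Gen.c V_1547 = V_1548 :=
  rfl
theorem F_5566 (IH : D.IHyp) : ed Gen.d V_1548 = V_1549 :=
  rfl
theorem F_5568 (IH : D.IHyp) : ed Gen.i V_1549 = V_1550 :=
  rfl
theorem F_5570 (IH : D.IHyp) : ed Gen.h V_1550 = V_1551 :=
  rfl
theorem F_5572 (IH : D.IHyp) : ed Gen.d V_1551 = V_1552 :=
  rfl
theorem F_5574 (IH : D.IHyp) : ed Gen.f V_1552 = V_1553 :=
  rfl
theorem F_5576 (IH : D.IHyp) : ed Gen.e V_1553 = V_1554 :=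
  rfl
theorem F_5578 (IH : D.IHyp) : ed Gen.d V_1554 = V_1555 :=
  rfl
theorem F_5579 (IH : D.IHyp) : ed Gen.d V_1555 = V_1554 :=
  flipE D.rels D.S (hinv Gen.d) (F_5578 IH)
theorem F_5580 (IH : D.IHyp) : ed Gen.b V_1555 = V_1556 :=
  rfl
theorem F_5581 (IH : D.IHyp) : ed Gen.b V_1556 = V_1555 :=
  flipE D.rels D.S (hinv Gen.b) (F_5580 IH)
theorem F_5582 (IH : D.IHyp) : ed Gen.c V_1556 = V_1557 :=
  rfl
theorem F_5583 (IH : D.IHyp) : ed Gen.c V_1557 = V_1556 :=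
  flipE D.rels D.S (hinv Gen.c) (F_5582 IH)
theorem F_5584 (IH : D.IHyp) : ed Gen.d V_1557 = V_1558 :=
  rfl
theorem F_5585 (IH : D.IHyp) : ed Gen.d V_1558 = V_1557 :=
  flipE D.rels D.S (hinv Gen.d) (F_5584 IH)
theorem F_5586 (IH : D.IHyp) : ed Gen.i V_1558 = V_1559 :=
  rfl
theorem F_5587 (IH : D.IHyp) : ed Gen.i V_1559 = V_1558 :=
  flipE D.rels D.S (hinv Gen.i) (F_5586 IH)
theorem F_5588 (IH : D.IHyp) : ed Gen.h V_1559 = V_1560 :=
  rfl
theorem F_5589 (IH : D.IHyp) : ed Gen.h V_1560 = V_1559 :=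
  flipE D.rels D.S (hinv Gen.h) (F_5588 IH)
theorem F_5590 (IH : D.IHyp) : ed Gen.d V_1560 = V_1561 :=
  rfl
theorem F_5591 (IH : D.IHyp) : ed Gen.d V_1561 = V_1560 :=
  flipE D.rels D.S (hinv Gen.d) (F_5590 IH)
theorem F_5592 (IH : D.IHyp) : ed Gen.f V_1561 = V_1562 :=
  rfl
theorem F_5593 (IH : D.IHyp) : ed Gen.f V_1562 = V_1561 :=
  flipE D.rels D.S (hinv Gen.f) (F_5592 IH)
theorem F_5594 (IH : D.IHyp) : ed Gen.e V_1562 = V_1563 :=
  rfl
theorem F_5595 (IH : D.IHyp) : ed Gen.e V_1563 = V_1562 :=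
  flipE D.rels D.S (hinv Gen.e) (F_5594 IH)
theorem F_5596 (IH : D.IHyp) : ed Gen.d V_1563 = V_1564 :=
  rfl
theorem F_5597 (IH : D.IHyp) : ed Gen.d V_1564 = V_1563 :=
  flipE D.rels D.S (hinv Gen.d) (F_5596 IH)
theorem F_5598 (IH : D.IHyp) : ed Gen.b V_1564 = V_1565 :=
  rfl
theorem F_5599 (IH : D.IHyp) : ed Gen.b V_1565 = V_1564 :=
  flipE D.rels D.S (hinv Gen.b) (F_5598 IH)
theorem F_5600 (IH : D.IHyp) : ed Gen.c V_1565 = V_875 :=
  gap_rel RW_45 (path_edge (F_5598 IH) (path_edge (F_5596 IH) (path_edge (F_5594 IH) (path_edge (F_5592 IH) (path_edge (F_5590 IH) (path_edge (F_5588 IH) (path_edge (F_5586 IH) (path_edge (F_5584 IH) (path_edge (F_5582 IH) (path_edge (F_5580 IH) (path_edge (F_5578 IH) (path_edge (F_5576 IH) (path_edge (F_5574 IH) (path_edge (F_5572 IH) (path_edge (F_5570 IH) (path_edge (F_5568 IH) (path_edge (F_5566 IH) (path_edge (F_5564 IH) (path_edge (F_5562 IH) (path_edge (F_5560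 IH) (path_edge (F_5558 IH) (path_edge (F_5556 IH) (path_edge (F_5554 IH) (path_edge (F_5552 IH) (path_edge (F_5550 IH) (path_edge (F_5548 IH) (path_edge (F_5546 IH) (path_edge (F_5544 IH) (path_edge (F_5542 IH) (path_edge (F_5540 IH) (path_edge (F_5538 IH) (path_edge (F_5536 IH) (path_edge (F_5534 IH) (path_edge (F_5532 IH) (path_edge (F_5530 IH) (path_edge (F_5528 IH) (path_edge (F_5526 IH) (path_edge (F_5524 IH) (path_edge (F_5522 IH) (path_edge (F_5520 IH) (path_edge (F_5518 IH) (path_edge (F_5516 IH) (path_edge (F_5514 IH) (path_edge (F_5512 IH) (path_edge (F_5510 IH) (path_edge (F_5508 IH) (path_edge (F_5506 IH) (path_edge (F_5504 IH) (path_edge (F_5502 IH) (path_edge (F_5500 IH) (path_edge (F_5498 IH) (path_edge (F_5496 IH) (path_edge (F_5494 IH) (path_edge (F_5492 IH) (path_edge (F_5490 IH) (path_edge (F_5488 IH) (path_edge (F_5486 IH) (path_edge (F_5484 IH) (path_edge (F_5482 IH) (path_edge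 (F_5479 IH) (path_edge (F_5476 IH) (path_edge (F_5473 IH) (path_edge (F_5470 IH) (path_edge (F_5467 IH) (path_edge (F_5469 IH) (path_edge (F_5465 IH) (path_edge (F_5457 IH) (path_edge (F_1623 IH) (path_edge (F_2158 IH) (path_edge (F_2107 IH) (path_edge (F_2163 IH) (path_edge (F_2162 IH) (path_edge (F_2161 IH) (path_edge (F_2163 IH) (path_edge (F_2496 IH) (path_edge (F_2499 IH) (path_edge (F_2495 IH) (path_edge (F_919 IH) (path_edge (F_914 IH) (path_edge (F_854 IH) (path_edge (F_855 IH) (path_edge (F_851 IH) (path_edge (F_853 IH) (path_edge (F_463 IH) (path_edge (F_464 IH) (path_edge (F_854 IH) (path_edge (F_849 IH) (path_edge (F_1875 IH) (path_edge (F_1833 IH) (path_nil _))))))))))))))))))))))))))))))))))))))))))))))))))))))))))))))))))))))))))))))))))))))))))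
theorem F_5601 (IH : D.IHyp) : ed Gen.c V_875 = V_1565 :=
  flipE D.rels D.S (hinv Gen.c) (F_5600 IH)
theorem F_5602 (IH : D.IHyp) : ed Gen.f V_1565 = V_1565 :=
  gap_rel RW_1 (path_edge (F_5601 IH) (path_edge (F_1882 IH) (path_edge (F_5600 IH) (path_nil _))))
theorem F_5603 (IH : D.IHyp) : ed Gen.h V_1565 = V_1565 :=
  gap_rel RW_32 (path_edge (F_5601 IH) (path_edge (F_1884 IH) (path_edge (F_5600 IH) (path_nil _))))
theorem F_5604 (IH : D.IHyp) : ed Gen.i V_991 = V_1565 :=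
  gap_rel RW_2 (path_edge (F_2593 IH) (path_edge (F_1885 IH) (path_edge (F_5600 IH) (path_nil _))))
theorem F_5605 (IH : D.IHyp) : ed Gen.i V_1565 = V_991 :=
  flipE D.rels D.S (hinv Gen.i) (F_5604 IH)
theorem F_5606 (IH : D.IHyp) : ed Gen.d V_1565 = V_1565 :=
  gap_rel RW_23 (path_edge (F_5604 IH) (path_edge (F_2597 IH) (path_edge (F_5605 IH) (path_nil _))))
theorem F_5607 (IH : D.IHyp) : ed Gen.f V_1564 = V_1564 :=
  gap_rel RW_42 (path_edge (F_5599 IH) (path_edge (F_5602 IH) (path_edge (F_5598 IH) (path_nil _))))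
theorem F_5609 (IH : D.IHyp) : ed Gen.i (D.P 200) = V_1564 :=
  gap_rel RW_36 (path_edge (F_2592 IH) (path_edge (F_5605 IH) (path_edge (F_5598 IH) (path_nil _))))
theorem F_5610 (IH : D.IHyp) : ed Gen.i V_1564 = (D.P 200) :=
  flipE D.rels D.S (hinv Gen.i) (F_5609 IH)
theorem F_5611 (IH : D.IHyp) : ed Gen.c V_1564 = V_1564 :=
  gap_rel RW_3 (path_edge (F_5599 IH) (path_edge (F_5601 IH) (path_edge (F_1879 IH) (path_edge (F_5600 IH) (path_edge (F_5598 IH) (path_nil _))))))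
theorem F_5612 (IH : D.IHyp) : ed Gen.b V_1563 = V_1565 :=
  gap_rel RW_4 (path_edge (F_5597 IH) (path_edge (F_5599 IH) (path_edge (F_5606 IH) (path_nil _))))
theorem F_5613 (IH : D.IHyp) : ed Gen.b V_1565 = V_1563 :=
  flipE D.rels D.S (hinv Gen.b) (F_5612 IH)
theorem F_5614 (IH : D.IHyp) : V_1564 = V_1563 :=
  edge_fun (F_5599 IH) (F_5613 IH)
theorem F_5615 (IH : D.IHyp) : ed Gen.b V_1563 = V_1565 :=
  edge_congr (F_5598 IH) (F_5614 IH)
theorem F_5616 (IH : D.IHyp) : ed Gen.b V_1565 = V_1563 :=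
  flipE D.rels D.S (hinv Gen.b) (F_5615 IH)
theorem F_5617 (IH : D.IHyp) : ed Gen.c V_1564 = V_1563 :=
  (F_5611 IH).trans (F_5614 IH)
theorem F_5618 (IH : D.IHyp) : ed Gen.c V_1563 = V_1563 :=
  edge_congr (F_5617 IH) (F_5614 IH)
theorem F_5620 (IH : D.IHyp) : ed Gen.f V_1564 = V_1563 :=
  (F_5607 IH).trans (F_5614 IH)
theorem F_5621 (IH : D.IHyp) : ed Gen.f V_1563 = V_1563 :=
  edge_congr (F_5620 IH) (F_5614 IH)
theorem F_5624 (IH : D.IHyp) : ed Gen.i V_1563 = (D.P 200) :=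
  edge_congr (F_5610 IH) (F_5614 IH)
theorem F_5626 (IH : D.IHyp) : ed Gen.i (D.P 249) = V_1562 :=
  gap_rel RW_15 (path_edge (F_2268 IH) (path_edge (F_5624 IH) (path_edge (F_5594 IH) (path_nil _))))
theorem F_5627 (IH : D.IHyp) : ed Gen.i V_1562 = (D.P 249) :=
  flipE D.rels D.S (hinv Gen.i) (F_5626 IH)
theorem F_5628 (IH : D.IHyp) : ed Gen.c V_1562 = V_1562 :=
  gap_rel RW_14 (path_edge (F_5595 IH) (path_edge (F_5618 IH) (path_edge (F_5594 IH) (path_nil _))))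
theorem F_5630 (IH : D.IHyp) : ed Gen.e V_1561 = V_1561 :=
  gap_rel RW_44 (path_edge (F_5593 IH) (path_edge (F_5595 IH) (path_edge (F_5621 IH) (path_edge (F_5594 IH) (path_edge (F_5592 IH) (path_nil _))))))
theorem F_5636 (IH : D.IHyp) : ed Gen.i (D.P 314) = V_1561 :=
  gap_rel RW_35 (path_edge (F_2600 IH) (path_edge (F_5627 IH) (path_edge (F_5592 IH) (path_nil _))))
theorem F_5641 (IH : D.IHyp) : ed Gen.c (D.P 344) = (D.P 294) :=
  D.real_edge' IH Gen.c 344 294 (by decide +kernel)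
theorem F_5656 (IH : D.IHyp) : ed Gen.d (D.P 411) = (D.P 411) :=
  D.real_edge' IH Gen.d 411 411 (by decide +kernel)
theorem F_5659 (IH : D.IHyp) : ed Gen.d (D.P 482) = (D.P 482) :=
  D.real_edge' IH Gen.d 482 482 (by decide +kernel)
theorem F_5661 (IH : D.IHyp) : ed Gen.e (D.P 364) = (D.P 434) :=
  D.real_edge' IH Gen.e 364 434 (by decide +kernel)
theorem F_5702 (IH : D.IHyp) : ed Gen.d (D.P 339) = (D.P 407) :=
  D.real_edge' IH Gen.d 339 407 (by decide +kernel)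
theorem F_5703 (IH : D.IHyp) : ed Gen.i (D.P 407) = (D.P 343) :=
  D.real_edge' IH Gen.i 407 343 (by decide +kernel)
theorem F_5705 (IH : D.IHyp) : ed Gen.d (D.P 415) = (D.P 415) :=
  D.real_edge' IH Gen.d 415 415 (by decide +kernel)
theorem F_5710 (IH : D.IHyp) : ed Gen.i V_1560 = (D.P 364) :=
  gap_rel RW_6 (path_edge (F_5591 IH) (path_edge (F_5636 IH) (path_edge (F_1067 IH) (path_nil _))))
theorem F_5711 (IH : D.IHyp) : ed Gen.i (D.P 364) = V_1560 :=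
  flipE D.rels D.S (hinv Gen.i) (F_5710 IH)
theorem F_5737 (IH : D.IHyp) : ed Gen.h (D.P 277) = (D.P 344) :=
  D.real_edge' IH Gen.h 277 344 (by decide +kernel)
theorem F_5742 (IH : D.IHyp) : ed Gen.b (D.P 415) = (D.P 482) :=
  D.real_edge' IH Gen.b 415 482 (by decide +kernel)
theorem F_5756 (IH : D.IHyp) : ed Gen.h (D.P 434) = (D.P 362) :=
  D.real_edge' IH Gen.h 434 362 (by decide +kernel)
theorem F_5757 (IH : D.IHyp) : ed Gen.h V_1558 = (D.P 357) :=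
  gap_rel RW_20 (path_edge (F_5587 IH) (path_edge (F_5589 IH) (path_edge (F_5711 IH) (path_edge (F_1401 IH) (path_edge (F_1660 IH) (path_nil _))))))
theorem F_5758 (IH : D.IHyp) : ed Gen.h (D.P 357) = V_1558 :=
  flipE D.rels D.S (hinv Gen.h) (F_5757 IH)
theorem F_5759 (IH : D.IHyp) : (D.P 430) = V_1558 :=
  edge_fun (F_137 IH) (F_5758 IH)
theorem F_5760 (IH : D.IHyp) : V_1558 = (D.P 430) :=
  (F_5759 IH).symm
theorem F_5761 (IH : D.IHyp) : ed Gen.d (D.P 430) = V_1557 :=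
  edge_congr (F_5585 IH) (F_5760 IH)
theorem F_5762 (IH : D.IHyp) : (D.P 430) = V_1557 :=
  edge_fun (F_138 IH) (F_5761 IH)
theorem F_5767 (IH : D.IHyp) : V_1557 = (D.P 430) :=
  (F_5762 IH).symm
theorem F_5768 (IH : D.IHyp) : ed Gen.c (D.P 430) = V_1556 :=
  edge_congr (F_5583 IH) (F_5767 IH)
theorem F_5769 (IH : D.IHyp) : ed Gen.c V_1556 = (D.P 430) :=
  flipE D.rels D.S (hinv Gen.c) (F_5768 IH)
theorem F_5771 (IH : D.IHyp) : ed Gen.c (D.P 484) = (D.P 434) :=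
  D.real_edge' IH Gen.c 484 434 (by decide +kernel)
theorem F_5777 (IH : D.IHyp) : ed Gen.e (D.P 484) = (D.P 415) :=
  D.real_edge' IH Gen.e 484 415 (by decide +kernel)
theorem F_5804 (IH : D.IHyp) : ed Gen.f (D.P 216) = (D.P 216) :=
  D.real_edge' IH Gen.f 216 216 (by decide +kernel)
theorem F_5807 (IH : D.IHyp) : ed Gen.c (D.P 407) = (D.P 357) :=
  D.real_edge' IH Gen.c 407 357 (by decide +kernel)
theorem F_5808 (IH : D.IHyp) : ed Gen.h V_1556 = (D.P 407) :=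
  gap_rel RW_32 (path_edge (F_5768 IH) (path_edge (F_137 IH) (path_edge (F_5807 IH) (path_nil _))))
theorem F_5809 (IH : D.IHyp) : ed Gen.h (D.P 407) = V_1556 :=
  flipE D.rels D.S (hinv Gen.h) (F_5808 IH)
theorem F_5816 (IH : D.IHyp) : ed Gen.d (D.P 407) = (D.P 339) :=
  D.real_edge' IH Gen.d 407 339 (by decide +kernel)
theorem F_5845 (IH : D.IHyp) : ed Gen.c (D.P 338) = (D.P 288) :=
  D.real_edge' IH Gen.c 338 288 (by decide +kernel)
theorem F_5856 (IH : D.IHyp) : ed Gen.c (D.P 339) = (D.P 275) :=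
  D.real_edge' IH Gen.c 339 275 (by decide +kernel)
theorem F_5857 (IH : D.IHyp) : ed Gen.e (D.P 339) = (D.P 339) :=
  D.real_edge' IH Gen.e 339 339 (by decide +kernel)
theorem F_5859 (IH : D.IHyp) : ed Gen.e (D.P 338) = (D.P 338) :=
  D.real_edge' IH Gen.e 338 338 (by decide +kernel)
theorem F_5894 (IH : D.IHyp) : ed Gen.d V_993 = V_1568 :=
  rfl
theorem F_5895 (IH : D.IHyp) : ed Gen.d V_1568 = V_993 :=
  flipE D.rels D.S (hinv Gen.d) (F_5894 IH)
theorem F_5896 (IH : D.IHyp) : ed Gen.b V_1568 = V_1568 :=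
  gap_rel RW_4 (path_edge (F_5894 IH) (path_edge (F_2733 IH) (path_edge (F_5895 IH) (path_nil _))))
theorem F_5897 (IH : D.IHyp) : ed Gen.e V_1568 = V_821 :=
  gap_rel RW_41 (path_edge (F_5894 IH) (path_edge (F_2734 IH) (path_edge (F_846 IH) (path_edge (F_1615 IH) (path_edge (F_1618 IH) (path_nil _))))))
theorem F_5898 (IH : D.IHyp) : ed Gen.e V_821 = V_1568 :=
  flipE D.rels D.S (hinv Gen.e) (F_5897 IH)
theorem F_5899 (IH : D.IHyp) : ed Gen.h V_1568 = V_1568 :=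
  gap_rel RW_33 (path_edge (F_5894 IH) (path_edge (F_2731 IH) (path_edge (F_717 IH) (path_edge (F_2732 IH) (path_edge (F_5895 IH) (path_nil _))))))
theorem F_5900 (IH : D.IHyp) : ed Gen.c V_1568 = V_1569 :=
  rfl
theorem F_5902 (IH : D.IHyp) : ed Gen.e V_1569 = V_819 :=
  gap_rel RW_0 (path_edge (F_5900 IH) (path_edge (F_5898 IH) (path_edge (F_1624 IH) (path_nil _))))
theorem F_5903 (IH : D.IHyp) : ed Gen.e V_819 = V_1569 :=
  flipE D.rels D.S (hinv Gen.e) (F_5902 IH)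
theorem F_5905 (IH : D.IHyp) : ed Gen.d V_1569 = V_1570 :=
  rfl
theorem F_5906 (IH : D.IHyp) : ed Gen.d V_1570 = V_1569 :=
  flipE D.rels D.S (hinv Gen.d) (F_5905 IH)
theorem F_5907 (IH : D.IHyp) : ed Gen.e V_1570 = V_1570 :=
  gap_rel RW_41 (path_edge (F_5905 IH) (path_edge (F_5903 IH) (path_edge (F_1629 IH) (path_edge (F_5902 IH) (path_edge (F_5906 IH) (path_nil _))))))
theorem F_5908 (IH : D.IHyp) : ed Gen.i V_1570 = V_1571 :=
  rfl
theorem F_5909 (IH : D.IHyp) : ed Gen.i V_1571 = V_1570 :=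
  flipE D.rels D.S (hinv Gen.i) (F_5908 IH)
theorem F_5910 (IH : D.IHyp) : ed Gen.e V_1571 = V_1571 :=
  gap_rel RW_18 (path_edge (F_5908 IH) (path_edge (F_5907 IH) (path_edge (F_5909 IH) (path_nil _))))
theorem F_5911 (IH : D.IHyp) : ed Gen.h V_1571 = V_1572 :=
  rfl
theorem F_5914 (IH : D.IHyp) : ed Gen.d V_1572 = V_1573 :=
  rfl
theorem F_5915 (IH : D.IHyp) : ed Gen.d V_1573 = V_1572 :=
  flipE D.rels D.S (hinv Gen.d) (F_5914 IH)
theorem F_5916 (IH : D.IHyp) : ed Gen.f V_1573 = V_1574 :=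
  rfl
theorem F_5918 (IH : D.IHyp) : ed Gen.e V_1574 = V_1575 :=
  rfl
theorem F_5919 (IH : D.IHyp) : ed Gen.e V_1575 = V_1574 :=
  flipE D.rels D.S (hinv Gen.e) (F_5918 IH)
theorem F_5920 (IH : D.IHyp) : ed Gen.d V_1575 = V_1576 :=
  rfl
theorem F_5922 (IH : D.IHyp) : ed Gen.b V_1576 = V_1577 :=
  rfl
theorem F_5923 (IH : D.IHyp) : ed Gen.b V_1577 = V_1576 :=
  flipE D.rels D.S (hinv Gen.b) (F_5922 IH)
theorem F_5924 (IH : D.IHyp) : ed Gen.c V_1577 = V_1578 :=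
  rfl
theorem F_5925 (IH : D.IHyp) : ed Gen.c V_1578 = V_1577 :=
  flipE D.rels D.S (hinv Gen.c) (F_5924 IH)
theorem F_5926 (IH : D.IHyp) : ed Gen.d V_1578 = V_1579 :=
  rfl
theorem F_5928 (IH : D.IHyp) : ed Gen.i V_1579 = V_1580 :=
  rfl
theorem F_5929 (IH : D.IHyp) : ed Gen.i V_1580 = V_1579 :=
  flipE D.rels D.S (hinv Gen.i) (F_5928 IH)
theorem F_5930 (IH : D.IHyp) : ed Gen.h V_1580 = V_1581 :=
  rfl
theorem F_5932 (IH : D.IHyp) : ed Gen.d V_1581 = V_1582 :=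
  rfl
theorem F_5934 (IH : D.IHyp) : ed Gen.f V_1582 = V_1583 :=
  rfl
theorem F_5936 (IH : D.IHyp) : ed Gen.e V_1583 = V_1584 :=
  rfl
theorem F_5938 (IH : D.IHyp) : ed Gen.d V_1584 = V_1585 :=
  rfl
theorem F_5940 (IH : D.IHyp) : ed Gen.b V_1585 = V_1586 :=
  rfl
theorem F_5942 (IH : D.IHyp) : ed Gen.c V_1586 = V_1587 :=
  rfl
theorem F_5944 (IH : D.IHyp) : ed Gen.d V_1587 = V_1588 :=
  rfl
theorem F_5946 (IH : D.IHyp) : ed Gen.i V_1588 = V_1589 :=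
  rfl
theorem F_5948 (IH : D.IHyp) : ed Gen.h V_1589 = V_1590 :=
  rfl
theorem F_5950 (IH : D.IHyp) : ed Gen.d V_1590 = V_1591 :=
  rfl
theorem F_5952 (IH : D.IHyp) : ed Gen.f V_1591 = V_1592 :=
  rfl
theorem F_5954 (IH : D.IHyp) : ed Gen.e V_1592 = V_1593 :=
  rfl
theorem F_5956 (IH : D.IHyp) : ed Gen.d V_1593 = V_1594 :=
  rfl
theorem F_5958 (IH : D.IHyp) : ed Gen.b V_1594 = V_1595 :=
  rfl
theorem F_5960 (IH : D.IHyp) : ed Gen.c V_1595 = V_1596 :=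
  rfl
theorem F_5962 (IH : D.IHyp) : ed Gen.d V_1596 = V_1597 :=
  rfl
theorem F_5964 (IH : D.IHyp) : ed Gen.i V_1597 = V_1598 :=
  rfl
theorem F_5966 (IH : D.IHyp) : ed Gen.h V_1598 = V_1599 :=
  rfl
theorem F_5968 (IH : D.IHyp) : ed Gen.d V_1599 = V_1600 :=
  rfl
theorem F_5970 (IH : D.IHyp) : ed Gen.f V_1600 = V_1601 :=
  rfl
theorem F_5972 (IH : D.IHyp) : ed Gen.e V_1601 = V_1602 :=
  rfl
theorem F_5974 (IH : D.IHyp) : ed Gen.d V_1602 = V_1603 :=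
  rfl
theorem F_5976 (IH : D.IHyp) : ed Gen.b V_1603 = V_1604 :=
  rfl
theorem F_5978 (IH : D.IHyp) : ed Gen.c V_1604 = V_1605 :=
  rfl
theorem F_5980 (IH : D.IHyp) : ed Gen.d V_1605 = V_1606 :=
  rfl
theorem F_5982 (IH : D.IHyp) : ed Gen.i V_1606 = V_1607 :=
  rfl
theorem F_5984 (IH : D.IHyp) : ed Gen.h V_1607 = V_1608 :=
  rfl
theorem F_5986 (IH : D.IHyp) : ed Gen.d V_1608 = V_1609 :=
  rfl
theorem F_5988 (IH : D.IHyp) : ed Gen.f V_1609 = V_1610 :=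
  rfl
theorem F_5990 (IH : D.IHyp) : ed Gen.e V_1610 = V_1611 :=
  rfl
theorem F_5992 (IH : D.IHyp) : ed Gen.d V_1611 = V_1612 :=
  rfl
theorem F_5993 (IH : D.IHyp) : ed Gen.d V_1612 = V_1611 :=
  flipE D.rels D.S (hinv Gen.d) (F_5992 IH)
theorem F_5994 (IH : D.IHyp) : ed Gen.b V_1612 = V_1613 :=
  rfl
theorem F_5995 (IH : D.IHyp) : ed Gen.b V_1613 = V_1612 :=
  flipE D.rels D.S (hinv Gen.b) (F_5994 IH)
theorem F_5996 (IH : D.IHyp) : ed Gen.c V_1613 = V_1614 :=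
  rfl
theorem F_5998 (IH : D.IHyp) : ed Gen.d V_1614 = V_1615 :=
  rfl
theorem F_5999 (IH : D.IHyp) : ed Gen.d V_1615 = V_1614 :=
  flipE D.rels D.S (hinv Gen.d) (F_5998 IH)
theorem F_6000 (IH : D.IHyp) : ed Gen.i V_1615 = V_1616 :=
  rfl
theorem F_6001 (IH : D.IHyp) : ed Gen.i V_1616 = V_1615 :=
  flipE D.rels D.S (hinv Gen.i) (F_6000 IH)
theorem F_6002 (IH : D.IHyp) : ed Gen.h V_1616 = V_1617 :=
  rfl
theorem F_6003 (IH : D.IHyp) : ed Gen.h V_1617 = V_1616 :=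
  flipE D.rels D.S (hinv Gen.h) (F_6002 IH)
theorem F_6004 (IH : D.IHyp) : ed Gen.d V_1617 = V_1618 :=
  rfl
theorem F_6005 (IH : D.IHyp) : ed Gen.d V_1618 = V_1617 :=
  flipE D.rels D.S (hinv Gen.d) (F_6004 IH)
theorem F_6006 (IH : D.IHyp) : ed Gen.f V_1618 = V_1619 :=
  rfl
theorem F_6007 (IH : D.IHyp) : ed Gen.f V_1619 = V_1618 :=
  flipE D.rels D.S (hinv Gen.f) (F_6006 IH)
theorem F_6008 (IH : D.IHyp) : ed Gen.e V_1619 = V_1620 :=
  rfl
theorem F_6009 (IH : D.IHyp) : ed Gen.e V_1620 = V_1619 :=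
  flipE D.rels D.S (hinv Gen.e) (F_6008 IH)
theorem F_6010 (IH : D.IHyp) : ed Gen.d V_1620 = V_1621 :=
  rfl
theorem F_6011 (IH : D.IHyp) : ed Gen.d V_1621 = V_1620 :=
  flipE D.rels D.S (hinv Gen.d) (F_6010 IH)
theorem F_6012 (IH : D.IHyp) : ed Gen.b V_1621 = (D.P 407) :=
  gap_rel RW_46 (path_edge (F_6010 IH) (path_edge (F_6008 IH) (path_edge (F_6006 IH) (path_edge (F_6004 IH) (path_edge (F_6002 IH) (path_edge (F_6000 IH) (path_edge (F_5998 IH) (path_edge (F_5996 IH) (path_edge (F_5994 IH) (path_edge (F_5992 IH) (path_edge (F_5990 IH) (path_edge (F_5988 IH) (path_edge (F_5986 IH) (path_edge (F_5984 IH) (path_edge (F_5982 IH) (path_edge (F_5980 IH) (path_edge (F_5978 IH) (path_edge (F_5976 IH) (path_edge (F_5974 IH) (path_edge (F_5972 IH) (path_edge (F_5970 IH) (path_edge (F_5968 IH) (path_edge (F_5966 IH) (path_edge (F_5964 IH) (path_edge (F_5962 IH) (path_edge (F_5960 IH) (path_edge (F_5958 IH)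 (path_edge (F_5956 IH) (path_edge (F_5954 IH) (path_edge (F_5952 IH) (path_edge (F_5950 IH) (path_edge (F_5948 IH) (path_edge (F_5946 IH) (path_edge (F_5944 IH) (path_edge (F_5942 IH) (path_edge (F_5940 IH) (path_edge (F_5938 IH) (path_edge (F_5936 IH) (path_edge (F_5934 IH) (path_edge (F_5932 IH) (path_edge (F_5930 IH) (path_edge (F_5928 IH) (path_edge (F_5926 IH) (path_edge (F_5924 IH) (path_edge (F_5922 IH) (path_edge (F_5920 IH) (path_edge (F_5918 IH) (path_edge (F_5916 IH) (path_edge (F_5914 IH) (path_edge (F_5911 IH) (path_edge (F_5908 IH) (path_edge (F_5905 IH) (path_edge (F_5900 IH) (path_edge (F_5896 IH) (path_edge (F_5894 IH) (path_edge (F_2734 IH) (path_edge (F_844 IH) (path_edge (F_846 IH) (path_edge (F_850 IH) (path_edge (F_2500 IH) (path_edge (F_2495 IH) (path_edge (F_5083 IH) (path_edge (F_5089 IH) (path_edge (F_5090 IH) (path_edge (F_5091 IH) (path_edge (F_5092 IH) (path_edge (F_5090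 IH) (path_edge (F_5093 IH) (path_edge (F_5095 IH) (path_edge (F_488 IH) (path_edge (F_487 IH) (path_edge (F_470 IH) (path_edge (F_480 IH) (path_edge (F_475 IH) (path_edge (F_476 IH) (path_edge (F_480 IH) (path_edge (F_465 IH) (path_edge (F_9 IH) (path_edge (F_34 IH) (path_edge (F_118 IH) (path_edge (F_178 IH) (path_edge (F_143 IH) (path_edge (F_194 IH) (path_edge (F_754 IH) (path_edge (F_1074 IH) (path_edge (F_1072 IH) (path_edge (F_1044 IH) (path_edge (F_1042 IH) (path_edge (F_5807 IH) (path_nil _))))))))))))))))))))))))))))))))))))))))))))))))))))))))))))))))))))))))))))))))))))))))))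
theorem F_6013 (IH : D.IHyp) : ed Gen.b (D.P 407) = V_1621 :=
  flipE D.rels D.S (hinv Gen.b) (F_6012 IH)
theorem F_6014 (IH : D.IHyp) : ed Gen.b (D.P 339) = V_1620 :=
  gap_rel RW_4 (path_edge (F_5816 IH) (path_edge (F_6012 IH) (path_edge (F_6010 IH) (path_nil _))))
theorem F_6016 (IH : D.IHyp) : ed Gen.h V_1555 = V_1621 :=
  gap_rel RW_31 (path_edge (F_5581 IH) (path_edge (F_5809 IH) (path_edge (F_6012 IH) (path_nil _))))
theorem F_6017 (IH : D.IHyp) : ed Gen.h V_1621 = V_1555 :=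
  flipE D.rels D.S (hinv Gen.h) (F_6016 IH)
theorem F_6018 (IH : D.IHyp) : ed Gen.i (D.P 410) = V_1621 :=
  gap_rel RW_36 (path_edge (F_1046 IH) (path_edge (F_5703 IH) (path_edge (F_6012 IH) (path_nil _))))
theorem F_6019 (IH : D.IHyp) : ed Gen.i V_1621 = (D.P 410) :=
  flipE D.rels D.S (hinv Gen.i) (F_6018 IH)
theorem F_6020 (IH : D.IHyp) : ed Gen.i V_1620 = (D.P 342) :=
  gap_rel RW_6 (path_edge (F_6011 IH) (path_edge (F_6018 IH) (path_edge (F_5133 IH) (path_nil _))))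
theorem F_6022 (IH : D.IHyp) : ed Gen.b (D.P 410) = (D.P 343) :=
  D.real_edge' IH Gen.b 410 343 (by decide +kernel)
theorem F_6023 (IH : D.IHyp) : ed Gen.h (D.P 410) = (D.P 482) :=
  D.real_edge' IH Gen.h 410 482 (by decide +kernel)
theorem F_6026 (IH : D.IHyp) : ed Gen.h (D.P 179) = (D.P 145) :=
  D.real_edge' IH Gen.h 179 145 (by decide +kernel)
theorem F_6034 (IH : D.IHyp) : ed Gen.b V_1619 = (D.P 339) :=
  gap_rel RW_13 (path_edge (F_6009 IH) (path_edge (F_6014 IH) (path_edge (F_5857 IH) (path_nil _))))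
theorem F_6035 (IH : D.IHyp) : ed Gen.b (D.P 339) = V_1619 :=
  flipE D.rels D.S (hinv Gen.b) (F_6034 IH)
theorem F_6036 (IH : D.IHyp) : V_1620 = V_1619 :=
  edge_fun (F_6014 IH) (F_6035 IH)
theorem F_6039 (IH : D.IHyp) : ed Gen.d V_1619 = V_1621 :=
  edge_congr (F_6010 IH) (F_6036 IH)
theorem F_6040 (IH : D.IHyp) : ed Gen.d V_1621 = V_1619 :=
  flipE D.rels D.S (hinv Gen.d) (F_6039 IH)
theorem F_6042 (IH : D.IHyp) : ed Gen.i V_1619 = (D.P 342) :=
  edge_congr (F_6020 IH) (F_6036 IH)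
theorem F_6049 (IH : D.IHyp) : ed Gen.e (D.P 278) = (D.P 278) :=
  D.real_edge' IH Gen.e 278 278 (by decide +kernel)
theorem F_6056 (IH : D.IHyp) : ed Gen.f (D.P 278) = (D.P 220) :=
  D.real_edge' IH Gen.f 278 220 (by decide +kernel)
theorem F_6061 (IH : D.IHyp) : ed Gen.e (D.P 217) = (D.P 274) :=
  D.real_edge' IH Gen.e 217 274 (by decide +kernel)
theorem F_6063 (IH : D.IHyp) : ed Gen.f V_1617 = V_1621 :=
  gap_rel RW_5 (path_edge (F_6005 IH) (path_edge (F_6007 IH) (path_edge (F_6040 IH) (path_nil _))))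
theorem F_6064 (IH : D.IHyp) : ed Gen.f V_1621 = V_1617 :=
  flipE D.rels D.S (hinv Gen.f) (F_6063 IH)
theorem F_6065 (IH : D.IHyp) : ed Gen.b V_1617 = (D.P 338) :=
  gap_rel RW_26 (path_edge (F_6064 IH) (path_edge (F_6013 IH) (path_edge (F_3460 IH) (path_nil _))))
theorem F_6066 (IH : D.IHyp) : ed Gen.b (D.P 338) = V_1617 :=
  flipE D.rels D.S (hinv Gen.b) (F_6065 IH)
theorem F_6067 (IH : D.IHyp) : ed Gen.f V_1616 = V_1555 :=
  gap_rel RW_10 (path_edge (F_6003 IH) (path_edge (F_6064 IH) (path_edge (F_6016 IH) (path_nil _))))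
theorem F_6068 (IH : D.IHyp) : ed Gen.f V_1555 = V_1616 :=
  flipE D.rels D.S (hinv Gen.f) (F_6067 IH)
theorem F_6071 (IH : D.IHyp) : ed Gen.e (D.P 480) = (D.P 410) :=
  D.real_edge' IH Gen.e 480 410 (by decide +kernel)
theorem F_6092 (IH : D.IHyp) : ed Gen.i (D.P 169) = (D.P 130) :=
  D.real_edge' IH Gen.i 169 130 (by decide +kernel)
theorem F_6114 (IH : D.IHyp) : ed Gen.h (D.P 276) = (D.P 276) :=
  D.real_edge' IH Gen.h 276 276 (by decide +kernel)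
theorem F_6118 (IH : D.IHyp) : ed Gen.i (D.P 276) = V_1618 :=
  gap_rel RW_35 (path_edge (F_1049 IH) (path_edge (F_6042 IH) (path_edge (F_6006 IH) (path_nil _))))
theorem F_6119 (IH : D.IHyp) : ed Gen.i V_1618 = (D.P 276) :=
  flipE D.rels D.S (hinv Gen.i) (F_6118 IH)
theorem F_6127 (IH : D.IHyp) : ed Gen.c (D.P 169) = (D.P 217) :=
  D.real_edge' IH Gen.c 169 217 (by decide +kernel)
theorem F_6142 (IH : D.IHyp) : ed Gen.e V_1617 = V_1617 :=
  gap_rel RW_30 (path_edge (F_6066 IH) (path_edge (F_5859 IH) (path_edge (F_6065 IH) (path_nil _))))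
theorem F_6143 (IH : D.IHyp) : ed Gen.e V_1616 = V_1616 :=
  gap_rel RW_9 (path_edge (F_6003 IH) (path_edge (F_6142 IH) (path_edge (F_6002 IH) (path_nil _))))
theorem F_6162 (IH : D.IHyp) : ed Gen.h (D.P 167) = V_1622 :=
  rfl
theorem F_6163 (IH : D.IHyp) : ed Gen.h V_1622 = (D.P 167) :=
  flipE D.rels D.S (hinv Gen.h) (F_6162 IH)
theorem F_6164 (IH : D.IHyp) : ed Gen.e (D.P 167) = (D.P 167) :=
  D.real_edge' IH Gen.e 167 167 (by decide +kernel)
theorem F_6169 (IH : D.IHyp) : ed Gen.e V_1622 = V_1622 :=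
  gap_rel RW_9 (path_edge (F_6162 IH) (path_edge (F_6164 IH) (path_edge (F_6163 IH) (path_nil _))))
theorem F_6170 (IH : D.IHyp) : ed Gen.f V_1622 = V_1622 :=
  gap_rel RW_10 (path_edge (F_6162 IH) (path_edge (F_4280 IH) (path_edge (F_6163 IH) (path_nil _))))
theorem F_6176 (IH : D.IHyp) : ed Gen.i V_1622 = V_1622 :=
  gap_rel RW_34 (path_edge (F_6162 IH) (path_edge (F_524 IH) (path_edge (F_2235 IH) (path_edge (F_2234 IH) (path_edge (F_6163 IH) (path_nil _))))))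
theorem F_6187 (IH : D.IHyp) : ed Gen.h (D.P 216) = (D.P 169) :=
  D.real_edge' IH Gen.h 216 169 (by decide +kernel)
theorem F_6194 (IH : D.IHyp) : ed Gen.e (D.P 130) = (D.P 171) :=
  D.real_edge' IH Gen.e 130 171 (by decide +kernel)
theorem F_6204 (IH : D.IHyp) : ed Gen.d V_1622 = V_1623 :=
  rfl
theorem F_6205 (IH : D.IHyp) : ed Gen.d V_1623 = V_1622 :=
  flipE D.rels D.S (hinv Gen.d) (F_6204 IH)
theorem F_6206 (IH : D.IHyp) : ed Gen.f V_1623 = V_1623 :=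
  gap_rel RW_5 (path_edge (F_6204 IH) (path_edge (F_6170 IH) (path_edge (F_6205 IH) (path_nil _))))
theorem F_6207 (IH : D.IHyp) : ed Gen.i V_1623 = V_1623 :=
  gap_rel RW_6 (path_edge (F_6204 IH) (path_edge (F_6176 IH) (path_edge (F_6205 IH) (path_nil _))))
theorem F_6208 (IH : D.IHyp) : ed Gen.h V_1623 = V_1623 :=
  gap_rel RW_33 (path_edge (F_6204 IH) (path_edge (F_6162 IH) (path_edge (F_2233 IH) (path_edge (F_6163 IH) (path_edge (F_6205 IH) (path_nil _))))))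
theorem F_6209 (IH : D.IHyp) : ed Gen.e V_1623 = V_1624 :=
  rfl
theorem F_6210 (IH : D.IHyp) : ed Gen.e V_1624 = V_1623 :=
  flipE D.rels D.S (hinv Gen.e) (F_6209 IH)
theorem F_6211 (IH : D.IHyp) : ed Gen.h V_1624 = V_1624 :=
  gap_rel RW_38 (path_edge (F_6209 IH) (path_edge (F_6208 IH) (path_edge (F_6210 IH) (path_nil _))))
theorem F_6212 (IH : D.IHyp) : ed Gen.i V_1624 = V_1624 :=
  gap_rel RW_15 (path_edge (F_6209 IH) (path_edge (F_6207 IH) (path_edge (F_6210 IH) (path_nil _))))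
theorem F_6213 (IH : D.IHyp) : ed Gen.d V_1624 = V_1624 :=
  gap_rel RW_16 (path_edge (F_6209 IH) (path_edge (F_6204 IH) (path_edge (F_6169 IH) (path_edge (F_6205 IH) (path_edge (F_6210 IH) (path_nil _))))))
theorem F_6214 (IH : D.IHyp) : ed Gen.b V_1624 = V_1625 :=
  rfl
theorem F_6215 (IH : D.IHyp) : ed Gen.b V_1625 = V_1624 :=
  flipE D.rels D.S (hinv Gen.b) (F_6214 IH)
theorem F_6217 (IH : D.IHyp) : ed Gen.h V_1625 = V_1625 :=
  gap_rel RW_31 (path_edge (F_6214 IH) (path_edge (F_6211 IH) (path_edge (F_6215 IH) (path_nil _))))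
theorem F_6218 (IH : D.IHyp) : ed Gen.i V_1625 = V_1625 :=
  gap_rel RW_36 (path_edge (F_6214 IH) (path_edge (F_6212 IH) (path_edge (F_6215 IH) (path_nil _))))
theorem F_6219 (IH : D.IHyp) : ed Gen.c V_1625 = V_1626 :=
  rfl
theorem F_6220 (IH : D.IHyp) : ed Gen.c V_1626 = V_1625 :=
  flipE D.rels D.S (hinv Gen.c) (F_6219 IH)
theorem F_6221 (IH : D.IHyp) : ed Gen.h V_1626 = V_1626 :=
  gap_rel RW_32 (path_edge (F_6219 IH) (path_edge (F_6217 IH) (path_edge (F_6220 IH) (path_nil _))))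
theorem F_6222 (IH : D.IHyp) : ed Gen.i V_1626 = V_1626 :=
  gap_rel RW_2 (path_edge (F_6219 IH) (path_edge (F_6218 IH) (path_edge (F_6220 IH) (path_nil _))))
theorem F_6223 (IH : D.IHyp) : ed Gen.d V_1626 = V_1627 :=
  rfl
theorem F_6224 (IH : D.IHyp) : ed Gen.d V_1627 = V_1626 :=
  flipE D.rels D.S (hinv Gen.d) (F_6223 IH)
theorem F_6225 (IH : D.IHyp) : ed Gen.i V_1627 = V_1627 :=
  gap_rel RW_6 (path_edge (F_6223 IH) (path_edge (F_6222 IH) (path_edge (F_6224 IH) (path_nil _))))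
theorem F_6227 (IH : D.IHyp) : ed Gen.h V_1627 = V_1628 :=
  rfl
theorem F_6228 (IH : D.IHyp) : ed Gen.h V_1628 = V_1627 :=
  flipE D.rels D.S (hinv Gen.h) (F_6227 IH)
theorem F_6230 (IH : D.IHyp) : ed Gen.d V_1628 = V_1628 :=
  gap_rel RW_12 (path_edge (F_6227 IH) (path_edge (F_6223 IH) (path_edge (F_6221 IH) (path_edge (F_6224 IH) (path_edge (F_6228 IH) (path_nil _))))))
theorem F_6231 (IH : D.IHyp) : ed Gen.f V_1628 = V_1629 :=
  rfl
theorem F_6235 (IH : D.IHyp) : ed Gen.e V_1629 = V_1630 :=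
  rfl
theorem F_6238 (IH : D.IHyp) : ed Gen.d V_1630 = V_1631 :=
  rfl
theorem F_6241 (IH : D.IHyp) : ed Gen.b V_1631 = V_1632 :=
  rfl
theorem F_6244 (IH : D.IHyp) : ed Gen.c V_1632 = V_1633 :=
  rfl
theorem F_6247 (IH : D.IHyp) : ed Gen.d V_1633 = V_1634 :=
  rfl
theorem F_6249 (IH : D.IHyp) : ed Gen.i V_1634 = V_1635 :=
  rfl
theorem F_6251 (IH : D.IHyp) : ed Gen.h V_1635 = V_1636 :=
  rfl
theorem F_6253 (IH : D.IHyp) : ed Gen.d V_1636 = V_1637 :=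
  rfl
theorem F_6255 (IH : D.IHyp) : ed Gen.f V_1637 = V_1638 :=
  rfl
theorem F_6257 (IH : D.IHyp) : ed Gen.e V_1638 = V_1639 :=
  rfl
theorem F_6259 (IH : D.IHyp) : ed Gen.d V_1639 = V_1640 :=
  rfl
theorem F_6261 (IH : D.IHyp) : ed Gen.b V_1640 = V_1641 :=
  rfl
theorem F_6263 (IH : D.IHyp) : ed Gen.c V_1641 = V_1642 :=
  rfl
theorem F_6265 (IH : D.IHyp) : ed Gen.d V_1642 = V_1643 :=
  rfl
theorem F_6267 (IH : D.IHyp) : ed Gen.i V_1643 = V_1644 :=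
  rfl
theorem F_6269 (IH : D.IHyp) : ed Gen.h V_1644 = V_1645 :=
  rfl
theorem F_6271 (IH : D.IHyp) : ed Gen.d V_1645 = V_1646 :=
  rfl
theorem F_6273 (IH : D.IHyp) : ed Gen.f V_1646 = V_1647 :=
  rfl
theorem F_6275 (IH : D.IHyp) : ed Gen.e V_1647 = V_1648 :=
  rfl
theorem F_6277 (IH : D.IHyp) : ed Gen.d V_1648 = V_1649 :=
  rfl
theorem F_6279 (IH : D.IHyp) : ed Gen.b V_1649 = V_1650 :=
  rfl
theorem F_6281 (IH : D.IHyp) : ed Gen.c V_1650 = V_1651 :=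
  rfl
theorem F_6283 (IH : D.IHyp) : ed Gen.d V_1651 = V_1652 :=
  rfl
theorem F_6285 (IH : D.IHyp) : ed Gen.i V_1652 = V_1653 :=
  rfl
theorem F_6286 (IH : D.IHyp) : ed Gen.i V_1653 = V_1652 :=
  flipE D.rels D.S (hinv Gen.i) (F_6285 IH)
theorem F_6287 (IH : D.IHyp) : ed Gen.h V_1653 = V_1654 :=
  rfl
theorem F_6288 (IH : D.IHyp) : ed Gen.h V_1654 = V_1653 :=
  flipE D.rels D.S (hinv Gen.h) (F_6287 IH)
theorem F_6289 (IH : D.IHyp) : ed Gen.d V_1654 = V_1655 :=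
  rfl
theorem F_6290 (IH : D.IHyp) : ed Gen.d V_1655 = V_1654 :=
  flipE D.rels D.S (hinv Gen.d) (F_6289 IH)
theorem F_6291 (IH : D.IHyp) : ed Gen.f V_1655 = V_921 :=
  gap_rel RW_25 (path_edge (F_6289 IH) (path_edge (F_6287 IH) (path_edge (F_6285 IH) (path_edge (F_6283 IH) (path_edge (F_6281 IH) (path_edge (F_6279 IH) (path_edge (F_6277 IH) (path_edge (F_6275 IH) (path_edge (F_6273 IH) (path_edge (F_6271 IH) (path_edge (F_6269 IH) (path_edge (F_6267 IH) (path_edge (F_6265 IH) (path_edge (F_6263 IH) (path_edge (F_6261 IH) (path_edge (F_6259 IH) (path_edge (F_6257 IH) (path_edge (F_6255 IH) (path_edge (F_6253 IH) (path_edge (F_6251 IH) (path_edge (F_6249 IH) (path_edge (F_6247 IH) (path_edge (F_6244 IH) (path_edge (F_6241 IH) (path_edge (F_6238 IH) (path_edge (F_6235 IH) (path_edge (F_6231 IH) (path_edge (F_6230 IH) (path_edge (F_6227 IH) (path_edge (F_6225 IH) (path_edge (F_6223 IH) (path_edge (F_6219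 IH) (path_edge (F_6214 IH) (path_edge (F_6213 IH) (path_edge (F_6209 IH) (path_edge (F_6206 IH) (path_edge (F_6204 IH) (path_edge (F_6162 IH) (path_edge (F_524 IH) (path_edge (F_523 IH) (path_edge (F_522 IH) (path_edge (F_521 IH) (path_edge (F_520 IH) (path_edge (F_519 IH) (path_edge (F_518 IH) (path_edge (F_517 IH) (path_edge (F_516 IH) (path_edge (F_515 IH) (path_edge (F_514 IH) (path_edge (F_513 IH) (path_edge (F_512 IH) (path_edge (F_511 IH) (path_edge (F_510 IH) (path_edge (F_509 IH) (path_edge (F_508 IH) (path_edge (F_507 IH) (path_edge (F_506 IH) (path_edge (F_505 IH) (path_edge (F_504 IH) (path_edge (F_503 IH) (path_edge (F_502 IH) (path_edge (F_501 IH) (path_edge (F_500 IH) (path_edge (F_76 IH) (path_edge (F_499 IH) (path_edge (F_75 IH) (path_edge (F_498 IH) (path_edge (F_497 IH) (path_edge (F_496 IH) (path_edge (F_495 IH) (path_edge (F_494 IH) (path_edge (F_493 IH) (path_edge (F_85 IH)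 (path_edge (F_492 IH) (path_edge (F_491 IH) (path_edge (F_42 IH) (path_edge (F_490 IH) (path_edge (F_489 IH) (path_edge (F_478 IH) (path_edge (F_280 IH) (path_edge (F_474 IH) (path_edge (F_29 IH) (path_edge (F_466 IH) (path_edge (F_5081 IH) (path_edge (F_5084 IH) (path_edge (F_5082 IH) (path_edge (F_916 IH) (path_edge (F_2488 IH) (path_edge (F_2497 IH) (path_nil _))))))))))))))))))))))))))))))))))))))))))))))))))))))))))))))))))))))))))))))))))))))))))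
theorem F_6292 (IH : D.IHyp) : ed Gen.f V_921 = V_1655 :=
  flipE D.rels D.S (hinv Gen.f) (F_6291 IH)
theorem F_6296 (IH : D.IHyp) : ed Gen.f V_1654 = V_921 :=
  gap_rel RW_5 (path_edge (F_6290 IH) (path_edge (F_6292 IH) (path_edge (F_2163 IH) (path_nil _))))
theorem F_6306 (IH : D.IHyp) : ed Gen.f V_920 = V_1653 :=
  gap_rel RW_10 (path_edge (F_2106 IH) (path_edge (F_6296 IH) (path_edge (F_6287 IH) (path_nil _))))
theorem F_6307 (IH : D.IHyp) : ed Gen.f V_1653 = V_920 :=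
  flipE D.rels D.S (hinv Gen.f) (F_6306 IH)
theorem F_6308 (IH : D.IHyp) : ed Gen.i V_1467 = V_1654 :=
  gap_rel RW_35 (path_edge (F_5269 IH) (path_edge (F_2107 IH) (path_edge (F_6296 IH) (path_nil _))))
theorem F_6313 (IH : D.IHyp) : ed Gen.h V_1652 = V_1465 :=
  gap_rel RW_20 (path_edge (F_6286 IH) (path_edge (F_6288 IH) (path_edge (F_6308 IH) (path_edge (F_5251 IH) (path_edge (F_5249 IH) (path_nil _))))))
theorem F_6316 (IH : D.IHyp) : ed Gen.d V_918 = V_1653 :=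
  gap_rel RW_40 (path_edge (F_2102 IH) (path_edge (F_2104 IH) (path_edge (F_6307 IH) (path_nil _))))
theorem F_6317 (IH : D.IHyp) : ed Gen.d V_1653 = V_918 :=
  flipE D.rels D.S (hinv Gen.d) (F_6316 IH)
theorem F_6318 (IH : D.IHyp) : ed Gen.f V_1652 = V_977 :=
  gap_rel RW_19 (path_edge (F_6286 IH) (path_edge (F_6306 IH) (path_edge (F_2564 IH) (path_nil _))))
theorem F_6319 (IH : D.IHyp) : ed Gen.f V_977 = V_1652 :=
  flipE D.rels D.S (hinv Gen.f) (F_6318 IH)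
theorem F_6320 (IH : D.IHyp) : V_976 = V_1652 :=
  edge_fun (F_2411 IH) (F_6319 IH)
theorem F_6321 (IH : D.IHyp) : V_1652 = V_976 :=
  (F_6320 IH).symm
theorem F_6326 (IH : D.IHyp) : ed Gen.h V_976 = V_1465 :=
  edge_congr (F_6313 IH) (F_6321 IH)
theorem F_6327 (IH : D.IHyp) : ed Gen.h V_1465 = V_976 :=
  flipE D.rels D.S (hinv Gen.h) (F_6326 IH)
theorem F_6328 (IH : D.IHyp) : ed Gen.i V_976 = V_1653 :=
  edge_congr (F_6285 IH) (F_6321 IH)
theorem F_6334 (IH : D.IHyp) : ed Gen.i V_918 = V_975 :=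
  gap_rel RW_6 (path_edge (F_6317 IH) (path_edge (F_6328 IH) (path_edge (F_2408 IH) (path_nil _))))
theorem F_6335 (IH : D.IHyp) : ed Gen.i V_975 = V_918 :=
  flipE D.rels D.S (hinv Gen.i) (F_6334 IH)
theorem F_6348 (IH : D.IHyp) : ed Gen.h V_973 = V_975 :=
  gap_rel RW_20 (path_edge (F_2405 IH) (path_edge (F_2407 IH) (path_edge (F_6334 IH) (path_edge (F_2171 IH) (path_edge (F_6335 IH) (path_nil _))))))
theorem F_6349 (IH : D.IHyp) : ed Gen.h V_975 = V_973 :=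
  flipE D.rels D.S (hinv Gen.h) (F_6348 IH)
theorem F_6350 (IH : D.IHyp) : V_974 = V_973 :=
  edge_fun (F_2407 IH) (F_6349 IH)
theorem F_6353 (IH : D.IHyp) : ed Gen.h V_973 = V_975 :=
  edge_congr (F_2406 IH) (F_6350 IH)
theorem F_6354 (IH : D.IHyp) : ed Gen.h V_975 = V_973 :=
  flipE D.rels D.S (hinv Gen.h) (F_6353 IH)
theorem F_6357 (IH : D.IHyp) : ed Gen.h V_972 = V_1464 :=
  gap_rel RW_33 (path_edge (F_2403 IH) (path_edge (F_6354 IH) (path_edge (F_2409 IH) (path_edge (F_6327 IH) (path_edge (F_5247 IH) (path_nil _))))))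
theorem F_6358 (IH : D.IHyp) : ed Gen.h V_1464 = V_972 :=
  flipE D.rels D.S (hinv Gen.h) (F_6357 IH)
theorem F_6371 (IH : D.IHyp) : ed Gen.h V_971 = V_1463 :=
  gap_rel RW_32 (path_edge (F_2401 IH) (path_edge (F_6358 IH) (path_edge (F_5245 IH) (path_nil _))))
theorem F_6372 (IH : D.IHyp) : ed Gen.h V_1463 = V_971 :=
  flipE D.rels D.S (hinv Gen.h) (F_6371 IH)
theorem F_6376 (IH : D.IHyp) : ed Gen.h V_970 = V_1461 :=
  gap_rel RW_31 (path_edge (F_2399 IH) (path_edge (F_6372 IH) (path_edge (F_5282 IH) (path_nil _))))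
theorem F_6377 (IH : D.IHyp) : ed Gen.h V_1461 = V_970 :=
  flipE D.rels D.S (hinv Gen.h) (F_6376 IH)
theorem F_6382 (IH : D.IHyp) : ed Gen.h V_969 = V_969 :=
  gap_rel RW_33 (path_edge (F_2397 IH) (path_edge (F_6377 IH) (path_edge (F_5289 IH) (path_edge (F_6376 IH) (path_edge (F_2396 IH) (path_nil _))))))
theorem F_6383 (IH : D.IHyp) : ed Gen.h V_968 = V_968 :=
  gap_rel RW_38 (path_edge (F_2395 IH) (path_edge (F_6382 IH) (path_edge (F_2394 IH) (path_nil _))))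
theorem F_6385 (IH : D.IHyp) : ed Gen.h V_967 = V_967 :=
  gap_rel RW_39 (path_edge (F_2393 IH) (path_edge (F_6383 IH) (path_edge (F_2392 IH) (path_nil _))))
theorem F_6388 (IH : D.IHyp) : ed Gen.d V_965 = V_965 :=
  gap_rel RW_12 (path_edge (F_2389 IH) (path_edge (F_2391 IH) (path_edge (F_6385 IH) (path_edge (F_2390 IH) (path_edge (F_2388 IH) (path_nil _))))))
theorem F_6390 (IH : D.IHyp) : ed Gen.i V_963 = V_965 :=
  gap_rel RW_6 (path_edge (F_2385 IH) (path_edge (F_2387 IH) (path_edge (F_6388 IH) (path_nil _))))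
theorem F_7806 (IH : D.IHyp) : ed Gen.h (D.P 246) = V_2011 :=
  rfl
theorem F_7807 (IH : D.IHyp) : ed Gen.h V_2011 = (D.P 246) :=
  flipE D.rels D.S (hinv Gen.h) (F_7806 IH)
theorem F_7808 (IH : D.IHyp) : ed Gen.b (D.P 249) = V_2011 :=
  gap_rel RW_8 (path_edge (F_748 IH) (path_edge (F_193 IH) (path_edge (F_7807 IH) (path_nil _))))
theorem F_7812 (IH : D.IHyp) : ed Gen.e V_991 = V_2011 :=
  gap_rel RW_9 (path_edge (F_2589 IH) (path_edge (F_181 IH) (path_edge (F_7807 IH) (path_nil _))))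
theorem F_7813 (IH : D.IHyp) : ed Gen.e V_2011 = V_991 :=
  flipE D.rels D.S (hinv Gen.e) (F_7812 IH)
theorem F_7953 (IH : D.IHyp) : ed Gen.c (D.P 426) = V_2014 :=
  rfl
theorem F_7954 (IH : D.IHyp) : ed Gen.c V_2014 = (D.P 426) :=
  flipE D.rels D.S (hinv Gen.c) (F_7953 IH)
theorem F_7956 (IH : D.IHyp) : ed Gen.e V_2014 = V_1421 :=
  gap_rel RW_0 (path_edge (F_7953 IH) (path_edge (F_972 IH) (path_edge (F_5098 IH) (path_nil _))))
theorem F_7958 (IH : D.IHyp) : ed Gen.f V_2014 = V_742 :=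
  gap_rel RW_1 (path_edge (F_7953 IH) (path_edge (F_938 IH) (path_edge (F_921 IH) (path_nil _))))
theorem F_7959 (IH : D.IHyp) : ed Gen.f V_742 = V_2014 :=
  flipE D.rels D.S (hinv Gen.f) (F_7958 IH)
theorem F_7966 (IH : D.IHyp) : ed Gen.c (D.P 356) = (D.P 356) :=
  D.real_edge' IH Gen.c 356 356 (by decide +kernel)
theorem F_7967 (IH : D.IHyp) : ed Gen.d V_2014 = V_2014 :=
  gap_rel RW_21 (path_edge (F_7953 IH) (path_edge (F_167 IH) (path_edge (F_7966 IH) (path_edge (F_951 IH) (path_edge (F_7954 IH) (path_nil _))))))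
theorem F_7981 (IH : D.IHyp) : ed Gen.b V_2014 = V_2015 :=
  rfl
theorem F_7982 (IH : D.IHyp) : ed Gen.b V_2015 = V_2014 :=
  flipE D.rels D.S (hinv Gen.b) (F_7981 IH)
theorem F_7983 (IH : D.IHyp) : ed Gen.d V_2015 = V_2015 :=
  gap_rel RW_29 (path_edge (F_7981 IH) (path_edge (F_7967 IH) (path_edge (F_7982 IH) (path_nil _))))
theorem F_7984 (IH : D.IHyp) : ed Gen.c V_2015 = V_1621 :=
  gap_rel RW_3 (path_edge (F_7981 IH) (path_edge (F_7953 IH) (path_edge (F_928 IH) (path_edge (F_5807 IH) (path_edge (F_6012 IH) (path_nil _))))))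
theorem F_7986 (IH : D.IHyp) : ed Gen.i (D.P 479) = V_2015 :=
  gap_rel RW_2 (path_edge (F_1218 IH) (path_edge (F_6019 IH) (path_edge (F_7984 IH) (path_nil _))))
theorem F_7987 (IH : D.IHyp) : ed Gen.i V_2015 = (D.P 479) :=
  flipE D.rels D.S (hinv Gen.i) (F_7986 IH)
theorem F_7994 (IH : D.IHyp) : ed Gen.d (D.P 604) = (D.P 543) :=
  D.real_edge' IH Gen.d 604 543 (by decide +kernel)
theorem F_7995 (IH : D.IHyp) : ed Gen.e V_2015 = V_2016 :=
  rfl
theorem F_7996 (IH : D.IHyp) : ed Gen.e V_2016 = V_2015 :=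
  flipE D.rels D.S (hinv Gen.e) (F_7995 IH)
theorem F_7997 (IH : D.IHyp) : ed Gen.b V_1421 = V_2016 :=
  gap_rel RW_13 (path_edge (F_7956 IH) (path_edge (F_7982 IH) (path_edge (F_7996 IH) (path_nil _))))
theorem F_7998 (IH : D.IHyp) : ed Gen.b V_2016 = V_1421 :=
  flipE D.rels D.S (hinv Gen.b) (F_7997 IH)
theorem F_7999 (IH : D.IHyp) : ed Gen.i V_2016 = (D.P 543) :=
  gap_rel RW_15 (path_edge (F_7995 IH) (path_edge (F_7986 IH) (path_edge (F_1232 IH) (path_nil _))))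
theorem F_8000 (IH : D.IHyp) : ed Gen.i (D.P 543) = V_2016 :=
  flipE D.rels D.S (hinv Gen.i) (F_7999 IH)
theorem F_8001 (IH : D.IHyp) : ed Gen.f V_2016 = V_2016 :=
  gap_rel RW_42 (path_edge (F_7997 IH) (path_edge (F_5099 IH) (path_edge (F_7998 IH) (path_nil _))))
theorem F_8002 (IH : D.IHyp) : ed Gen.c (D.P 604) = (D.P 604) :=
  D.real_edge' IH Gen.c 604 604 (by decide +kernel)
theorem F_8013 (IH : D.IHyp) : ed Gen.d V_2016 = V_2017 :=
  rfl
theorem F_8014 (IH : D.IHyp) : ed Gen.d V_2017 = V_2016 :=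
  flipE D.rels D.S (hinv Gen.d) (F_8013 IH)
theorem F_8015 (IH : D.IHyp) : ed Gen.b V_1422 = V_2017 :=
  gap_rel RW_4 (path_edge (F_5102 IH) (path_edge (F_7998 IH) (path_edge (F_8014 IH) (path_nil _))))
theorem F_8018 (IH : D.IHyp) : ed Gen.i V_2017 = (D.P 604) :=
  gap_rel RW_6 (path_edge (F_8013 IH) (path_edge (F_8000 IH) (path_edge (F_7994 IH) (path_nil _))))
theorem F_8019 (IH : D.IHyp) : ed Gen.i (D.P 604) = V_2017 :=
  flipE D.rels D.S (hinv Gen.i) (F_8018 IH)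
theorem F_8023 (IH : D.IHyp) : ed Gen.c V_2017 = V_2017 :=
  gap_rel RW_22 (path_edge (F_8019 IH) (path_edge (F_8002 IH) (path_edge (F_8018 IH) (path_nil _))))
theorem F_8029 (IH : D.IHyp) : ed Gen.h V_2017 = V_2018 :=
  rfl
theorem F_8030 (IH : D.IHyp) : ed Gen.h V_2018 = V_2017 :=
  flipE D.rels D.S (hinv Gen.h) (F_8029 IH)
theorem F_8031 (IH : D.IHyp) : ed Gen.c V_2018 = V_2018 :=
  gap_rel RW_11 (path_edge (F_8029 IH) (path_edge (F_8023 IH) (path_edge (F_8030 IH) (path_nil _))))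
theorem F_8034 (IH : D.IHyp) : ed Gen.i V_2018 = V_2019 :=
  rfl
theorem F_8035 (IH : D.IHyp) : ed Gen.i V_2019 = V_2018 :=
  flipE D.rels D.S (hinv Gen.i) (F_8034 IH)
theorem F_8036 (IH : D.IHyp) : ed Gen.c V_2019 = V_2019 :=
  gap_rel RW_22 (path_edge (F_8034 IH) (path_edge (F_8031 IH) (path_edge (F_8035 IH) (path_nil _))))
theorem F_8039 (IH : D.IHyp) : ed Gen.d V_2019 = V_2020 :=
  rfl
theorem F_8040 (IH : D.IHyp) : ed Gen.d V_2020 = V_2019 :=
  flipE D.rels D.S (hinv Gen.d) (F_8039 IH)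
theorem F_8042 (IH : D.IHyp) : ed Gen.c V_2020 = V_2021 :=
  rfl
theorem F_8043 (IH : D.IHyp) : ed Gen.c V_2021 = V_2020 :=
  flipE D.rels D.S (hinv Gen.c) (F_8042 IH)
theorem F_8045 (IH : D.IHyp) : ed Gen.d V_2021 = V_2021 :=
  gap_rel RW_21 (path_edge (F_8042 IH) (path_edge (F_8039 IH) (path_edge (F_8036 IH) (path_edge (F_8040 IH) (path_edge (F_8043 IH) (path_nil _))))))
theorem F_8046 (IH : D.IHyp) : ed Gen.b V_2021 = V_2022 :=
  rfl
theorem F_8047 (IH : D.IHyp) : ed Gen.b V_2022 = V_2021 :=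
  flipE D.rels D.S (hinv Gen.b) (F_8046 IH)
theorem F_8048 (IH : D.IHyp) : ed Gen.d V_2022 = V_2022 :=
  gap_rel RW_29 (path_edge (F_8046 IH) (path_edge (F_8045 IH) (path_edge (F_8047 IH) (path_nil _))))
theorem F_8050 (IH : D.IHyp) : ed Gen.e V_2022 = V_2023 :=
  rfl
theorem F_8051 (IH : D.IHyp) : ed Gen.e V_2023 = V_2022 :=
  flipE D.rels D.S (hinv Gen.e) (F_8050 IH)
theorem F_8052 (IH : D.IHyp) : ed Gen.f V_2023 = V_2024 :=
  rfl
theorem F_8053 (IH : D.IHyp) : ed Gen.f V_2024 = V_2023 :=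
  flipE D.rels D.S (hinv Gen.f) (F_8052 IH)
theorem F_8055 (IH : D.IHyp) : ed Gen.d V_2024 = V_2025 :=
  rfl
theorem F_8056 (IH : D.IHyp) : ed Gen.d V_2025 = V_2024 :=
  flipE D.rels D.S (hinv Gen.d) (F_8055 IH)
theorem F_8057 (IH : D.IHyp) : ed Gen.h V_2025 = V_2026 :=
  rfl
theorem F_8058 (IH : D.IHyp) : ed Gen.h V_2026 = V_2025 :=
  flipE D.rels D.S (hinv Gen.h) (F_8057 IH)
theorem F_8059 (IH : D.IHyp) : ed Gen.i V_2026 = V_2027 :=
  rfl
theorem F_8060 (IH : D.IHyp) : ed Gen.i V_2027 = V_2026 :=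
  flipE D.rels D.S (hinv Gen.i) (F_8059 IH)
theorem F_8061 (IH : D.IHyp) : ed Gen.d V_2027 = V_2028 :=
  rfl
theorem F_8062 (IH : D.IHyp) : ed Gen.d V_2028 = V_2027 :=
  flipE D.rels D.S (hinv Gen.d) (F_8061 IH)
theorem F_8063 (IH : D.IHyp) : ed Gen.c V_2028 = V_2029 :=
  rfl
theorem F_8064 (IH : D.IHyp) : ed Gen.c V_2029 = V_2028 :=
  flipE D.rels D.S (hinv Gen.c) (F_8063 IH)
theorem F_8065 (IH : D.IHyp) : ed Gen.b V_2029 = V_2030 :=
  rfl
theorem F_8066 (IH : D.IHyp) : ed Gen.b V_2030 = V_2029 :=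
  flipE D.rels D.S (hinv Gen.b) (F_8065 IH)
theorem F_8067 (IH : D.IHyp) : ed Gen.d V_2030 = V_2031 :=
  rfl
theorem F_8068 (IH : D.IHyp) : ed Gen.d V_2031 = V_2030 :=
  flipE D.rels D.S (hinv Gen.d) (F_8067 IH)
theorem F_8069 (IH : D.IHyp) : ed Gen.e V_2031 = V_2032 :=
  rfl
theorem F_8070 (IH : D.IHyp) : ed Gen.e V_2032 = V_2031 :=
  flipE D.rels D.S (hinv Gen.e) (F_8069 IH)
theorem F_8071 (IH : D.IHyp) : ed Gen.f V_2032 = V_2033 :=
  rfl
theorem F_8072 (IH : D.IHyp) : ed Gen.f V_2033 = V_2032 :=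
  flipE D.rels D.S (hinv Gen.f) (F_8071 IH)
theorem F_8073 (IH : D.IHyp) : ed Gen.d V_2033 = V_2034 :=
  rfl
theorem F_8074 (IH : D.IHyp) : ed Gen.d V_2034 = V_2033 :=
  flipE D.rels D.S (hinv Gen.d) (F_8073 IH)
theorem F_8075 (IH : D.IHyp) : ed Gen.h V_2034 = V_2035 :=
  rfl
theorem F_8076 (IH : D.IHyp) : ed Gen.h V_2035 = V_2034 :=
  flipE D.rels D.S (hinv Gen.h) (F_8075 IH)
theorem F_8077 (IH : D.IHyp) : ed Gen.i V_2035 = V_2036 :=
  rfl
theorem F_8078 (IH : D.IHyp) : ed Gen.i V_2036 = V_2035 :=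
  flipE D.rels D.S (hinv Gen.i) (F_8077 IH)
theorem F_8079 (IH : D.IHyp) : ed Gen.d V_2036 = V_2037 :=
  rfl
theorem F_8080 (IH : D.IHyp) : ed Gen.d V_2037 = V_2036 :=
  flipE D.rels D.S (hinv Gen.d) (F_8079 IH)
theorem F_8081 (IH : D.IHyp) : ed Gen.c V_2037 = V_2038 :=
  rfl
theorem F_8082 (IH : D.IHyp) : ed Gen.c V_2038 = V_2037 :=
  flipE D.rels D.S (hinv Gen.c) (F_8081 IH)
theorem F_8083 (IH : D.IHyp) : ed Gen.b V_2038 = V_2039 :=
  rfl
theorem F_8084 (IH : D.IHyp) : ed Gen.b V_2039 = V_2038 :=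
  flipE D.rels D.S (hinv Gen.b) (F_8083 IH)
theorem F_8085 (IH : D.IHyp) : ed Gen.d V_2039 = V_2040 :=
  rfl
theorem F_8086 (IH : D.IHyp) : ed Gen.d V_2040 = V_2039 :=
  flipE D.rels D.S (hinv Gen.d) (F_8085 IH)
theorem F_8087 (IH : D.IHyp) : ed Gen.e V_2040 = V_2041 :=
  rfl
theorem F_8088 (IH : D.IHyp) : ed Gen.e V_2041 = V_2040 :=
  flipE D.rels D.S (hinv Gen.e) (F_8087 IH)
theorem F_8089 (IH : D.IHyp) : ed Gen.f V_2041 = V_2042 :=
  rfl
theorem F_8090 (IH : D.IHyp) : ed Gen.f V_2042 = V_2041 :=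
  flipE D.rels D.S (hinv Gen.f) (F_8089 IH)
theorem F_8091 (IH : D.IHyp) : ed Gen.d V_2042 = V_2043 :=
  rfl
theorem F_8092 (IH : D.IHyp) : ed Gen.d V_2043 = V_2042 :=
  flipE D.rels D.S (hinv Gen.d) (F_8091 IH)
theorem F_8093 (IH : D.IHyp) : ed Gen.h V_2043 = V_2044 :=
  rfl
theorem F_8094 (IH : D.IHyp) : ed Gen.h V_2044 = V_2043 :=
  flipE D.rels D.S (hinv Gen.h) (F_8093 IH)
theorem F_8095 (IH : D.IHyp) : ed Gen.i V_2044 = V_2045 :=
  rfl
theorem F_8096 (IH : D.IHyp) : ed Gen.i V_2045 = V_2044 :=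
  flipE D.rels D.S (hinv Gen.i) (F_8095 IH)
theorem F_8097 (IH : D.IHyp) : ed Gen.d V_2045 = V_2046 :=
  rfl
theorem F_8098 (IH : D.IHyp) : ed Gen.d V_2046 = V_2045 :=
  flipE D.rels D.S (hinv Gen.d) (F_8097 IH)
theorem F_8099 (IH : D.IHyp) : ed Gen.c V_2046 = V_2047 :=
  rfl
theorem F_8100 (IH : D.IHyp) : ed Gen.c V_2047 = V_2046 :=
  flipE D.rels D.S (hinv Gen.c) (F_8099 IH)
theorem F_8101 (IH : D.IHyp) : ed Gen.b V_2047 = V_2048 :=
  rfl
theorem F_8102 (IH : D.IHyp) : ed Gen.b V_2048 = V_2047 :=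
  flipE D.rels D.S (hinv Gen.b) (F_8101 IH)
theorem F_8103 (IH : D.IHyp) : ed Gen.d V_2048 = V_2049 :=
  rfl
theorem F_8104 (IH : D.IHyp) : ed Gen.d V_2049 = V_2048 :=
  flipE D.rels D.S (hinv Gen.d) (F_8103 IH)
theorem F_8105 (IH : D.IHyp) : ed Gen.e V_2049 = V_2050 :=
  rfl
theorem F_8106 (IH : D.IHyp) : ed Gen.e V_2050 = V_2049 :=
  flipE D.rels D.S (hinv Gen.e) (F_8105 IH)
theorem F_8107 (IH : D.IHyp) : ed Gen.f V_1568 = V_2050 :=
  gap_rel RW_25 (path_edge (F_5894 IH) (path_edge (F_2731 IH) (path_edge (F_716 IH) (path_edge (F_717 IH) (path_edge (F_714 IH) (path_edge (F_180 IH) (path_edge (F_271 IH) (path_edge (F_270 IH) (path_edge (F_269 IH) (path_edge (F_146 IH) (path_edge (F_268 IH) (path_edge (F_267 IH) (path_edge (F_266 IH) (path_edge (F_265 IH) (path_edge (F_264 IH) (path_edge (F_263 IH) (path_edge (F_262 IH) (path_edge (F_261 IH) (path_edge (F_260 IH) (path_edge (F_259 IH) (path_edge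 (F_258 IH) (path_edge (F_257 IH) (path_edge (F_256 IH) (path_edge (F_255 IH) (path_edge (F_254 IH) (path_edge (F_253 IH) (path_edge (F_252 IH) (path_edge (F_42 IH) (path_edge (F_251 IH) (path_edge (F_250 IH) (path_edge (F_249 IH) (path_edge (F_248 IH) (path_edge (F_247 IH) (path_edge (F_246 IH) (path_edge (F_245 IH) (path_edge (F_244 IH) (path_edge (F_241 IH) (path_edge (F_243 IH) (path_edge (F_242 IH) (path_edge (F_241 IH) (path_edge (F_240 IH) (path_edge (F_188 IH) (path_edge (F_117 IH) (path_edge (F_181 IH) (path_edge (F_214 IH) (path_edge (F_751 IH) (path_edge (F_1195 IH) (path_edge (F_1040 IH) (path_edge (F_951 IH) (path_edge (F_7954 IH) (path_edge (F_7982 IH) (path_edge (F_7983 IH) (path_edge (F_7996 IH) (path_edge (F_8001 IH) (path_edge (F_8014 IH) (path_edge (F_8030 IH) (path_edge (F_8035 IH) (path_edge (F_8040 IH) (path_edge (F_8043 IH) (path_edge (F_8047 IH) (path_edge (F_8048 IH) (path_edge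 (F_8051 IH) (path_edge (F_8053 IH) (path_edge (F_8056 IH) (path_edge (F_8058 IH) (path_edge (F_8060 IH) (path_edge (F_8062 IH) (path_edge (F_8064 IH) (path_edge (F_8066 IH) (path_edge (F_8068 IH) (path_edge (F_8070 IH) (path_edge (F_8072 IH) (path_edge (F_8074 IH) (path_edge (F_8076 IH) (path_edge (F_8078 IH) (path_edge (F_8080 IH) (path_edge (F_8082 IH) (path_edge (F_8084 IH) (path_edge (F_8086 IH) (path_edge (F_8088 IH) (path_edge (F_8090 IH) (path_edge (F_8092 IH) (path_edge (F_8094 IH) (path_edge (F_8096 IH) (path_edge (F_8098 IH) (path_edge (F_8100 IH) (path_edge (F_8102 IH) (path_edge (F_8104 IH) (path_edge (F_8106 IH) (path_nil _))))))))))))))))))))))))))))))))))))))))))))))))))))))))))))))))))))))))))))))))))))))))))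
theorem F_8108 (IH : D.IHyp) : ed Gen.f V_2050 = V_1568 :=
  flipE D.rels D.S (hinv Gen.f) (F_8107 IH)
theorem F_8109 (IH : D.IHyp) : ed Gen.b V_2050 = V_2050 :=
  gap_rel RW_26 (path_edge (F_8107 IH) (path_edge (F_5896 IH) (path_edge (F_8108 IH) (path_nil _))))
theorem F_8110 (IH : D.IHyp) : ed Gen.d V_2050 = V_788 :=
  gap_rel RW_40 (path_edge (F_8107 IH) (path_edge (F_5894 IH) (path_edge (F_2736 IH) (path_nil _))))
theorem F_8111 (IH : D.IHyp) : ed Gen.d V_788 = V_2050 :=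
  flipE D.rels D.S (hinv Gen.d) (F_8110 IH)
theorem F_8112 (IH : D.IHyp) : ed Gen.i V_786 = V_2050 :=
  gap_rel RW_6 (path_edge (F_1355 IH) (path_edge (F_1357 IH) (path_edge (F_8110 IH) (path_nil _))))
theorem F_8113 (IH : D.IHyp) : ed Gen.i V_2050 = V_786 :=
  flipE D.rels D.S (hinv Gen.i) (F_8112 IH)
theorem F_8114 (IH : D.IHyp) : ed Gen.b V_2049 = V_2049 :=
  gap_rel RW_13 (path_edge (F_8106 IH) (path_edge (F_8109 IH) (path_edge (F_8105 IH) (path_nil _))))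
theorem F_8115 (IH : D.IHyp) : ed Gen.h V_2050 = V_2050 :=
  gap_rel RW_39 (path_edge (F_8107 IH) (path_edge (F_5899 IH) (path_edge (F_8108 IH) (path_nil _))))
theorem F_8116 (IH : D.IHyp) : ed Gen.h V_2049 = V_2049 :=
  gap_rel RW_38 (path_edge (F_8106 IH) (path_edge (F_8115 IH) (path_edge (F_8105 IH) (path_nil _))))
theorem F_8117 (IH : D.IHyp) : ed Gen.e V_2048 = V_2050 :=
  gap_rel RW_41 (path_edge (F_8104 IH) (path_edge (F_8106 IH) (path_edge (F_8111 IH) (path_edge (F_1382 IH) (path_edge (F_8110 IH) (path_nil _))))))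
theorem F_8118 (IH : D.IHyp) : ed Gen.e V_2050 = V_2048 :=
  flipE D.rels D.S (hinv Gen.e) (F_8117 IH)
theorem F_8119 (IH : D.IHyp) : V_2049 = V_2048 :=
  edge_fun (F_8106 IH) (F_8118 IH)
theorem F_8120 (IH : D.IHyp) : ed Gen.b V_2049 = V_2048 :=
  (F_8114 IH).trans (F_8119 IH)
theorem F_8121 (IH : D.IHyp) : ed Gen.b V_2048 = V_2048 :=
  edge_congr (F_8120 IH) (F_8119 IH)
theorem F_8122 (IH : D.IHyp) : V_2047 = V_2048 :=
  edge_fun (F_8102 IH) (F_8121 IH)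
theorem F_8125 (IH : D.IHyp) : ed Gen.d V_2048 = V_2048 :=
  edge_congr (F_8104 IH) (F_8119 IH)
theorem F_8128 (IH : D.IHyp) : ed Gen.h V_2049 = V_2048 :=
  (F_8116 IH).trans (F_8119 IH)
theorem F_8129 (IH : D.IHyp) : ed Gen.h V_2048 = V_2048 :=
  edge_congr (F_8128 IH) (F_8119 IH)
theorem F_8130 (IH : D.IHyp) : V_2048 = V_2047 :=
  (F_8122 IH).symm
theorem F_8132 (IH : D.IHyp) : ed Gen.d V_2048 = V_2047 :=
  (F_8125 IH).trans (F_8130 IH)
theorem F_8133 (IH : D.IHyp) : ed Gen.d V_2047 = V_2047 :=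
  edge_congr (F_8132 IH) (F_8130 IH)
theorem F_8134 (IH : D.IHyp) : ed Gen.e V_2047 = V_2050 :=
  edge_congr (F_8117 IH) (F_8130 IH)
theorem F_8135 (IH : D.IHyp) : ed Gen.e V_2050 = V_2047 :=
  flipE D.rels D.S (hinv Gen.e) (F_8134 IH)
theorem F_8136 (IH : D.IHyp) : ed Gen.h V_2048 = V_2047 :=
  (F_8129 IH).trans (F_8130 IH)
theorem F_8137 (IH : D.IHyp) : ed Gen.h V_2047 = V_2047 :=
  edge_congr (F_8136 IH) (F_8130 IH)
theorem F_8138 (IH : D.IHyp) : ed Gen.f V_2047 = V_1502 :=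
  gap_rel RW_47 (path_edge (F_8135 IH) (path_edge (F_8107 IH) (path_edge (F_5898 IH) (path_edge (F_5458 IH) (path_edge (F_5466 IH) (path_nil _))))))
theorem F_8139 (IH : D.IHyp) : ed Gen.f V_1502 = V_2047 :=
  flipE D.rels D.S (hinv Gen.f) (F_8138 IH)
theorem F_8140 (IH : D.IHyp) : ed Gen.h V_869 = V_786 :=
  gap_rel RW_20 (path_edge (F_1903 IH) (path_edge (F_2758 IH) (path_edge (F_8113 IH) (path_edge (F_8115 IH) (path_edge (F_8112 IH) (path_nil _))))))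
theorem F_8141 (IH : D.IHyp) : ed Gen.h V_786 = V_869 :=
  flipE D.rels D.S (hinv Gen.h) (F_8140 IH)
theorem F_8142 (IH : D.IHyp) : V_871 = V_869 :=
  edge_fun (F_2758 IH) (F_8141 IH)
theorem F_8147 (IH : D.IHyp) : ed Gen.h V_869 = V_786 :=
  edge_congr (F_2759 IH) (F_8142 IH)
theorem F_8148 (IH : D.IHyp) : ed Gen.h V_786 = V_869 :=
  flipE D.rels D.S (hinv Gen.h) (F_8147 IH)
theorem F_8150 (IH : D.IHyp) : ed Gen.h V_785 = V_868 :=
  gap_rel RW_32 (path_edge (F_1353 IH) (path_edge (F_8140 IH) (path_edge (F_1819 IH) (path_nil _))))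
theorem F_8151 (IH : D.IHyp) : ed Gen.h V_868 = V_785 :=
  flipE D.rels D.S (hinv Gen.h) (F_8150 IH)
theorem F_8152 (IH : D.IHyp) : ed Gen.f V_2046 = V_1503 :=
  gap_rel RW_1 (path_edge (F_8100 IH) (path_edge (F_8139 IH) (path_edge (F_5471 IH) (path_nil _))))
theorem F_8153 (IH : D.IHyp) : ed Gen.f V_1503 = V_2046 :=
  flipE D.rels D.S (hinv Gen.f) (F_8152 IH)
theorem F_8155 (IH : D.IHyp) : ed Gen.c V_2045 = V_2045 :=
  gap_rel RW_7 (path_edge (F_8098 IH) (path_edge (F_8100 IH) (path_edge (F_8133 IH) (path_edge (F_8099 IH) (path_edge (F_8097 IH) (path_nil _))))))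
theorem F_8157 (IH : D.IHyp) : ed Gen.h V_784 = V_867 :=
  gap_rel RW_31 (path_edge (F_1351 IH) (path_edge (F_8151 IH) (path_edge (F_1817 IH) (path_nil _))))
theorem F_8160 (IH : D.IHyp) : ed Gen.f V_2045 = V_1504 :=
  gap_rel RW_5 (path_edge (F_8098 IH) (path_edge (F_8153 IH) (path_edge (F_5474 IH) (path_nil _))))
theorem F_8162 (IH : D.IHyp) : ed Gen.c V_2044 = V_2044 :=
  gap_rel RW_22 (path_edge (F_8096 IH) (path_edge (F_8155 IH) (path_edge (F_8095 IH) (path_nil _))))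
theorem F_8163 (IH : D.IHyp) : ed Gen.f V_1505 = V_2044 :=
  gap_rel RW_19 (path_edge (F_5476 IH) (path_edge (F_8160 IH) (path_edge (F_8095 IH) (path_nil _))))
theorem F_8164 (IH : D.IHyp) : ed Gen.f V_2044 = V_1505 :=
  flipE D.rels D.S (hinv Gen.f) (F_8163 IH)
theorem F_8166 (IH : D.IHyp) : ed Gen.c V_2043 = V_2043 :=
  gap_rel RW_11 (path_edge (F_8094 IH) (path_edge (F_8162 IH) (path_edge (F_8093 IH) (path_nil _))))
theorem F_8167 (IH : D.IHyp) : ed Gen.f V_1506 = V_2043 :=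
  gap_rel RW_10 (path_edge (F_5479 IH) (path_edge (F_8164 IH) (path_edge (F_8093 IH) (path_nil _))))
theorem F_8168 (IH : D.IHyp) : ed Gen.f V_2043 = V_1506 :=
  flipE D.rels D.S (hinv Gen.f) (F_8167 IH)
theorem F_8170 (IH : D.IHyp) : ed Gen.d V_2041 = V_1506 :=
  gap_rel RW_40 (path_edge (F_8090 IH) (path_edge (F_8092 IH) (path_edge (F_8167 IH) (path_nil _))))
theorem F_8171 (IH : D.IHyp) : ed Gen.d V_1506 = V_2041 :=
  flipE D.rels D.S (hinv Gen.d) (F_8170 IH)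
theorem F_8172 (IH : D.IHyp) : V_1507 = V_2041 :=
  edge_fun (F_5482 IH) (F_8171 IH)
theorem F_8173 (IH : D.IHyp) : V_2041 = V_1507 :=
  (F_8172 IH).symm
theorem F_8175 (IH : D.IHyp) : ed Gen.e V_1507 = V_2040 :=
  edge_congr (F_8088 IH) (F_8173 IH)
theorem F_8176 (IH : D.IHyp) : ed Gen.e V_2040 = V_1507 :=
  flipE D.rels D.S (hinv Gen.e) (F_8175 IH)
theorem F_8177 (IH : D.IHyp) : ed Gen.f V_1507 = V_2042 :=
  edge_congr (F_8089 IH) (F_8173 IH)
theorem F_8178 (IH : D.IHyp) : V_1508 = V_2042 :=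
  edge_fun (F_5484 IH) (F_8177 IH)
theorem F_8180 (IH : D.IHyp) : V_2042 = V_1508 :=
  (F_8178 IH).symm
theorem F_8181 (IH : D.IHyp) : ed Gen.d V_1508 = V_2043 :=
  edge_congr (F_8091 IH) (F_8180 IH)
theorem F_8182 (IH : D.IHyp) : ed Gen.d V_2043 = V_1508 :=
  flipE D.rels D.S (hinv Gen.d) (F_8181 IH)
theorem F_8187 (IH : D.IHyp) : ed Gen.c (D.P 337) = V_2051 :=
  rfl
theorem F_8188 (IH : D.IHyp) : ed Gen.c V_2051 = (D.P 337) :=
  flipE D.rels D.S (hinv Gen.c) (F_8187 IH)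
theorem F_8193 (IH : D.IHyp) : ed Gen.h V_2051 = (D.P 339) :=
  gap_rel RW_32 (path_edge (F_8187 IH) (path_edge (F_1691 IH) (path_edge (F_5856 IH) (path_nil _))))
theorem F_8195 (IH : D.IHyp) : ed Gen.i V_2051 = V_2051 :=
  gap_rel RW_2 (path_edge (F_8187 IH) (path_edge (F_1692 IH) (path_edge (F_8188 IH) (path_nil _))))
theorem F_8198 (IH : D.IHyp) : ed Gen.h (D.P 273) = (D.P 218) :=
  D.real_edge' IH Gen.h 273 218 (by decide +kernel)
theorem F_8208 (IH : D.IHyp) : ed Gen.c (D.P 135) = (D.P 178) :=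
  D.real_edge' IH Gen.c 135 178 (by decide +kernel)
theorem F_8212 (IH : D.IHyp) : ed Gen.d V_2051 = V_2052 :=
  rfl
theorem F_8213 (IH : D.IHyp) : ed Gen.d V_2052 = V_2051 :=
  flipE D.rels D.S (hinv Gen.d) (F_8212 IH)
theorem F_8214 (IH : D.IHyp) : ed Gen.i V_2052 = V_2052 :=
  gap_rel RW_6 (path_edge (F_8212 IH) (path_edge (F_8195 IH) (path_edge (F_8213 IH) (path_nil _))))
theorem F_8216 (IH : D.IHyp) : ed Gen.h V_2052 = V_2053 :=
  rfl
theorem F_8217 (IH : D.IHyp) : ed Gen.h V_2053 = V_2052 :=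
  flipE D.rels D.S (hinv Gen.h) (F_8216 IH)
theorem F_8219 (IH : D.IHyp) : ed Gen.d V_1556 = V_2053 :=
  gap_rel RW_12 (path_edge (F_5809 IH) (path_edge (F_5702 IH) (path_edge (F_8193 IH) (path_edge (F_8213 IH) (path_edge (F_8217 IH) (path_nil _))))))
theorem F_8220 (IH : D.IHyp) : ed Gen.d V_2053 = V_1556 :=
  flipE D.rels D.S (hinv Gen.d) (F_8219 IH)
theorem F_8221 (IH : D.IHyp) : ed Gen.b V_2053 = V_1554 :=
  gap_rel RW_4 (path_edge (F_8219 IH) (path_edge (F_5580 IH) (path_edge (F_5578 IH) (path_nil _))))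
theorem F_8222 (IH : D.IHyp) : ed Gen.b V_1554 = V_2053 :=
  flipE D.rels D.S (hinv Gen.b) (F_8221 IH)
theorem F_8223 (IH : D.IHyp) : ed Gen.f V_1556 = V_2054 :=
  rfl
theorem F_8224 (IH : D.IHyp) : ed Gen.f V_2054 = V_1556 :=
  flipE D.rels D.S (hinv Gen.f) (F_8223 IH)
theorem F_8225 (IH : D.IHyp) : ed Gen.b V_1616 = V_2054 :=
  gap_rel RW_26 (path_edge (F_6068 IH) (path_edge (F_5581 IH) (path_edge (F_8224 IH) (path_nil _))))
theorem F_8226 (IH : D.IHyp) : ed Gen.b V_2054 = V_1616 :=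
  flipE D.rels D.S (hinv Gen.b) (F_8225 IH)
theorem F_8227 (IH : D.IHyp) : ed Gen.c (D.P 358) = V_2054 :=
  gap_rel RW_27 (path_edge (F_139 IH) (path_edge (F_5769 IH) (path_edge (F_8224 IH) (path_nil _))))
theorem F_8228 (IH : D.IHyp) : ed Gen.c V_2054 = (D.P 358) :=
  flipE D.rels D.S (hinv Gen.c) (F_8227 IH)
theorem F_8229 (IH : D.IHyp) : ed Gen.h V_2054 = (D.P 338) :=
  gap_rel RW_39 (path_edge (F_8223 IH) (path_edge (F_5809 IH) (path_edge (F_3460 IH) (path_nil _))))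
theorem F_8231 (IH : D.IHyp) : ed Gen.e V_2054 = V_2054 :=
  gap_rel RW_30 (path_edge (F_8225 IH) (path_edge (F_6143 IH) (path_edge (F_8226 IH) (path_nil _))))
theorem F_8232 (IH : D.IHyp) : ed Gen.d V_2054 = V_2055 :=
  rfl
theorem F_8233 (IH : D.IHyp) : ed Gen.d V_2055 = V_2054 :=
  flipE D.rels D.S (hinv Gen.d) (F_8232 IH)
theorem F_8234 (IH : D.IHyp) : ed Gen.f V_2055 = V_2053 :=
  gap_rel RW_5 (path_edge (F_8232 IH) (path_edge (F_8223 IH) (path_edge (F_8220 IH) (path_nil _))))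
theorem F_8235 (IH : D.IHyp) : ed Gen.f V_2053 = V_2055 :=
  flipE D.rels D.S (hinv Gen.f) (F_8234 IH)
theorem F_8236 (IH : D.IHyp) : ed Gen.c V_2055 = V_2055 :=
  gap_rel RW_7 (path_edge (F_8232 IH) (path_edge (F_8227 IH) (path_edge (F_141 IH) (path_edge (F_8228 IH) (path_edge (F_8233 IH) (path_nil _))))))
theorem F_8237 (IH : D.IHyp) : ed Gen.b V_2055 = V_2056 :=
  rfl
theorem F_8238 (IH : D.IHyp) : ed Gen.b V_2056 = V_2055 :=
  flipE D.rels D.S (hinv Gen.b) (F_8237 IH)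
theorem F_8239 (IH : D.IHyp) : ed Gen.d V_2056 = V_1616 :=
  gap_rel RW_29 (path_edge (F_8237 IH) (path_edge (F_8232 IH) (path_edge (F_8225 IH) (path_nil _))))
theorem F_8240 (IH : D.IHyp) : ed Gen.d V_1616 = V_2056 :=
  flipE D.rels D.S (hinv Gen.d) (F_8239 IH)
theorem F_8241 (IH : D.IHyp) : ed Gen.f V_2056 = V_1554 :=
  gap_rel RW_42 (path_edge (F_8237 IH) (path_edge (F_8235 IH) (path_edge (F_8222 IH) (path_nil _))))
theorem F_8242 (IH : D.IHyp) : ed Gen.f V_1554 = V_2056 :=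
  flipE D.rels D.S (hinv Gen.f) (F_8241 IH)
theorem F_8243 (IH : D.IHyp) : ed Gen.i V_1614 = V_2056 :=
  gap_rel RW_6 (path_edge (F_5999 IH) (path_edge (F_6001 IH) (path_edge (F_8239 IH) (path_nil _))))
theorem F_8244 (IH : D.IHyp) : ed Gen.i V_2056 = V_1614 :=
  flipE D.rels D.S (hinv Gen.i) (F_8243 IH)
theorem F_8245 (IH : D.IHyp) : ed Gen.c V_2056 = V_2057 :=
  rfl
theorem F_8246 (IH : D.IHyp) : ed Gen.c V_2057 = V_2056 :=
  flipE D.rels D.S (hinv Gen.c) (F_8245 IH)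
theorem F_8247 (IH : D.IHyp) : ed Gen.i V_2057 = V_1613 :=
  gap_rel RW_2 (path_edge (F_8245 IH) (path_edge (F_8243 IH) (path_edge (F_5996 IH) (path_nil _))))
theorem F_8248 (IH : D.IHyp) : ed Gen.i V_1613 = V_2057 :=
  flipE D.rels D.S (hinv Gen.i) (F_8247 IH)
theorem F_8249 (IH : D.IHyp) : ed Gen.b V_2057 = V_2057 :=
  gap_rel RW_24 (path_edge (F_8245 IH) (path_edge (F_8237 IH) (path_edge (F_8236 IH) (path_edge (F_8238 IH) (path_edge (F_8246 IH) (path_nil _))))))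
theorem F_8250 (IH : D.IHyp) : ed Gen.i V_1612 = V_2057 :=
  gap_rel RW_36 (path_edge (F_5995 IH) (path_edge (F_8247 IH) (path_edge (F_8249 IH) (path_nil _))))
theorem F_8251 (IH : D.IHyp) : ed Gen.i V_2057 = V_1612 :=
  flipE D.rels D.S (hinv Gen.i) (F_8250 IH)
theorem F_8252 (IH : D.IHyp) : V_1613 = V_1612 :=
  edge_fun (F_8247 IH) (F_8251 IH)
theorem F_8253 (IH : D.IHyp) : ed Gen.b V_1612 = V_1612 :=
  edge_congr (F_5995 IH) (F_8252 IH)
theorem F_8256 (IH : D.IHyp) : ed Gen.i V_1612 = V_2057 :=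
  edge_congr (F_8248 IH) (F_8252 IH)
theorem F_8257 (IH : D.IHyp) : ed Gen.i V_2057 = V_1612 :=
  flipE D.rels D.S (hinv Gen.i) (F_8256 IH)
theorem F_8258 (IH : D.IHyp) : ed Gen.b V_1611 = V_1611 :=
  gap_rel RW_4 (path_edge (F_5993 IH) (path_edge (F_8253 IH) (path_edge (F_5992 IH) (path_nil _))))
theorem F_8266 (IH : D.IHyp) : ed Gen.d V_2057 = V_2058 :=
  rfl
theorem F_8267 (IH : D.IHyp) : ed Gen.d V_2058 = V_2057 :=
  flipE D.rels D.S (hinv Gen.d) (F_8266 IH)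
theorem F_8268 (IH : D.IHyp) : ed Gen.b V_2058 = V_2058 :=
  gap_rel RW_4 (path_edge (F_8266 IH) (path_edge (F_8249 IH) (path_edge (F_8267 IH) (path_nil _))))
theorem F_8269 (IH : D.IHyp) : ed Gen.i V_2058 = V_1611 :=
  gap_rel RW_6 (path_edge (F_8266 IH) (path_edge (F_8250 IH) (path_edge (F_5992 IH) (path_nil _))))
theorem F_8270 (IH : D.IHyp) : ed Gen.i V_1611 = V_2058 :=
  flipE D.rels D.S (hinv Gen.i) (F_8269 IH)
theorem F_8271 (IH : D.IHyp) : ed Gen.h V_1611 = V_2059 :=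
  rfl
theorem F_8272 (IH : D.IHyp) : ed Gen.h V_2059 = V_1611 :=
  flipE D.rels D.S (hinv Gen.h) (F_8271 IH)
theorem F_8273 (IH : D.IHyp) : ed Gen.b V_2059 = V_2059 :=
  gap_rel RW_8 (path_edge (F_8271 IH) (path_edge (F_8258 IH) (path_edge (F_8272 IH) (path_nil _))))
theorem F_8274 (IH : D.IHyp) : ed Gen.d V_2059 = V_2060 :=
  rfl
theorem F_8275 (IH : D.IHyp) : ed Gen.d V_2060 = V_2059 :=
  flipE D.rels D.S (hinv Gen.d) (F_8274 IH)
theorem F_8276 (IH : D.IHyp) : ed Gen.b V_2060 = V_2060 :=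
  gap_rel RW_4 (path_edge (F_8274 IH) (path_edge (F_8273 IH) (path_edge (F_8275 IH) (path_nil _))))
theorem F_8277 (IH : D.IHyp) : ed Gen.f V_2060 = V_2061 :=
  rfl
theorem F_8278 (IH : D.IHyp) : ed Gen.f V_2061 = V_2060 :=
  flipE D.rels D.S (hinv Gen.f) (F_8277 IH)
theorem F_8279 (IH : D.IHyp) : ed Gen.b V_2061 = V_2061 :=
  gap_rel RW_26 (path_edge (F_8277 IH) (path_edge (F_8276 IH) (path_edge (F_8278 IH) (path_nil _))))
theorem F_8280 (IH : D.IHyp) : ed Gen.e V_2061 = V_2062 :=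
  rfl
theorem F_8281 (IH : D.IHyp) : ed Gen.e V_2062 = V_2061 :=
  flipE D.rels D.S (hinv Gen.e) (F_8280 IH)
theorem F_8282 (IH : D.IHyp) : ed Gen.b V_2062 = V_2062 :=
  gap_rel RW_13 (path_edge (F_8280 IH) (path_edge (F_8279 IH) (path_edge (F_8281 IH) (path_nil _))))
theorem F_8283 (IH : D.IHyp) : ed Gen.d V_2062 = V_2063 :=
  rfl
theorem F_8284 (IH : D.IHyp) : ed Gen.d V_2063 = V_2062 :=
  flipE D.rels D.S (hinv Gen.d) (F_8283 IH)
theorem F_8285 (IH : D.IHyp) : ed Gen.b V_2063 = V_2063 :=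
  gap_rel RW_4 (path_edge (F_8283 IH) (path_edge (F_8282 IH) (path_edge (F_8284 IH) (path_nil _))))
theorem F_8286 (IH : D.IHyp) : ed Gen.c V_2063 = V_2064 :=
  rfl
theorem F_8287 (IH : D.IHyp) : ed Gen.c V_2064 = V_2063 :=
  flipE D.rels D.S (hinv Gen.c) (F_8286 IH)
theorem F_8288 (IH : D.IHyp) : ed Gen.d V_2064 = V_2065 :=
  rfl
theorem F_8289 (IH : D.IHyp) : ed Gen.d V_2065 = V_2064 :=
  flipE D.rels D.S (hinv Gen.d) (F_8288 IH)
theorem F_8290 (IH : D.IHyp) : ed Gen.i V_2065 = V_2066 :=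
  rfl
theorem F_8291 (IH : D.IHyp) : ed Gen.i V_2066 = V_2065 :=
  flipE D.rels D.S (hinv Gen.i) (F_8290 IH)
theorem F_8292 (IH : D.IHyp) : ed Gen.h V_2066 = V_2067 :=
  rfl
theorem F_8293 (IH : D.IHyp) : ed Gen.h V_2067 = V_2066 :=
  flipE D.rels D.S (hinv Gen.h) (F_8292 IH)
theorem F_8294 (IH : D.IHyp) : ed Gen.d V_2067 = V_2068 :=
  rfl
theorem F_8295 (IH : D.IHyp) : ed Gen.d V_2068 = V_2067 :=
  flipE D.rels D.S (hinv Gen.d) (F_8294 IH)
theorem F_8296 (IH : D.IHyp) : ed Gen.f V_2068 = V_2069 :=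
  rfl
theorem F_8297 (IH : D.IHyp) : ed Gen.f V_2069 = V_2068 :=
  flipE D.rels D.S (hinv Gen.f) (F_8296 IH)
theorem F_8298 (IH : D.IHyp) : ed Gen.e V_2069 = V_2070 :=
  rfl
theorem F_8299 (IH : D.IHyp) : ed Gen.e V_2070 = V_2069 :=
  flipE D.rels D.S (hinv Gen.e) (F_8298 IH)
theorem F_8300 (IH : D.IHyp) : ed Gen.d V_2070 = V_2071 :=
  rfl
theorem F_8301 (IH : D.IHyp) : ed Gen.d V_2071 = V_2070 :=
  flipE D.rels D.S (hinv Gen.d) (F_8300 IH)
theorem F_8302 (IH : D.IHyp) : ed Gen.b V_2071 = V_2072 :=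
  rfl
theorem F_8303 (IH : D.IHyp) : ed Gen.b V_2072 = V_2071 :=
  flipE D.rels D.S (hinv Gen.b) (F_8302 IH)
theorem F_8304 (IH : D.IHyp) : ed Gen.c V_2072 = V_2073 :=
  rfl
theorem F_8305 (IH : D.IHyp) : ed Gen.c V_2073 = V_2072 :=
  flipE D.rels D.S (hinv Gen.c) (F_8304 IH)
theorem F_8306 (IH : D.IHyp) : ed Gen.d V_2073 = V_2074 :=
  rfl
theorem F_8307 (IH : D.IHyp) : ed Gen.d V_2074 = V_2073 :=
  flipE D.rels D.S (hinv Gen.d) (F_8306 IH)
theorem F_8308 (IH : D.IHyp) : ed Gen.i V_2074 = V_2075 :=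
  rfl
theorem F_8309 (IH : D.IHyp) : ed Gen.i V_2075 = V_2074 :=
  flipE D.rels D.S (hinv Gen.i) (F_8308 IH)
theorem F_8310 (IH : D.IHyp) : ed Gen.h V_2075 = V_2076 :=
  rfl
theorem F_8311 (IH : D.IHyp) : ed Gen.h V_2076 = V_2075 :=
  flipE D.rels D.S (hinv Gen.h) (F_8310 IH)
theorem F_8312 (IH : D.IHyp) : ed Gen.d V_2076 = V_2077 :=
  rfl
theorem F_8313 (IH : D.IHyp) : ed Gen.d V_2077 = V_2076 :=
  flipE D.rels D.S (hinv Gen.d) (F_8312 IH)
theorem F_8314 (IH : D.IHyp) : ed Gen.f V_2077 = V_2078 :=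
  rfl
theorem F_8315 (IH : D.IHyp) : ed Gen.f V_2078 = V_2077 :=
  flipE D.rels D.S (hinv Gen.f) (F_8314 IH)
theorem F_8316 (IH : D.IHyp) : ed Gen.e V_2078 = V_2079 :=
  rfl
theorem F_8317 (IH : D.IHyp) : ed Gen.e V_2079 = V_2078 :=
  flipE D.rels D.S (hinv Gen.e) (F_8316 IH)
theorem F_8318 (IH : D.IHyp) : ed Gen.d V_2079 = V_2080 :=
  rfl
theorem F_8319 (IH : D.IHyp) : ed Gen.d V_2080 = V_2079 :=
  flipE D.rels D.S (hinv Gen.d) (F_8318 IH)
theorem F_8320 (IH : D.IHyp) : ed Gen.b V_2080 = V_2081 :=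
  rfl
theorem F_8321 (IH : D.IHyp) : ed Gen.b V_2081 = V_2080 :=
  flipE D.rels D.S (hinv Gen.b) (F_8320 IH)
theorem F_8322 (IH : D.IHyp) : ed Gen.c V_2081 = V_2082 :=
  rfl
theorem F_8323 (IH : D.IHyp) : ed Gen.c V_2082 = V_2081 :=
  flipE D.rels D.S (hinv Gen.c) (F_8322 IH)
theorem F_8324 (IH : D.IHyp) : ed Gen.d V_2082 = V_2083 :=
  rfl
theorem F_8325 (IH : D.IHyp) : ed Gen.d V_2083 = V_2082 :=
  flipE D.rels D.S (hinv Gen.d) (F_8324 IH)
theorem F_8326 (IH : D.IHyp) : ed Gen.i V_2083 = V_2084 :=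
  rfl
theorem F_8327 (IH : D.IHyp) : ed Gen.i V_2084 = V_2083 :=
  flipE D.rels D.S (hinv Gen.i) (F_8326 IH)
theorem F_8328 (IH : D.IHyp) : ed Gen.h V_2084 = V_2085 :=
  rfl
theorem F_8329 (IH : D.IHyp) : ed Gen.h V_2085 = V_2084 :=
  flipE D.rels D.S (hinv Gen.h) (F_8328 IH)
theorem F_8330 (IH : D.IHyp) : ed Gen.d V_2085 = V_2086 :=
  rfl
theorem F_8331 (IH : D.IHyp) : ed Gen.d V_2086 = V_2085 :=
  flipE D.rels D.S (hinv Gen.d) (F_8330 IH)
theorem F_8332 (IH : D.IHyp) : ed Gen.f V_2086 = V_2087 :=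
  rfl
theorem F_8333 (IH : D.IHyp) : ed Gen.f V_2087 = V_2086 :=
  flipE D.rels D.S (hinv Gen.f) (F_8332 IH)
theorem F_8334 (IH : D.IHyp) : ed Gen.e V_2087 = V_2088 :=
  rfl
theorem F_8335 (IH : D.IHyp) : ed Gen.e V_2088 = V_2087 :=
  flipE D.rels D.S (hinv Gen.e) (F_8334 IH)
theorem F_8336 (IH : D.IHyp) : ed Gen.d V_2088 = V_2089 :=
  rfl
theorem F_8337 (IH : D.IHyp) : ed Gen.d V_2089 = V_2088 :=
  flipE D.rels D.S (hinv Gen.d) (F_8336 IH)
theorem F_8338 (IH : D.IHyp) : ed Gen.b V_2089 = V_2090 :=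
  rfl
theorem F_8339 (IH : D.IHyp) : ed Gen.b V_2090 = V_2089 :=
  flipE D.rels D.S (hinv Gen.b) (F_8338 IH)
theorem F_8340 (IH : D.IHyp) : ed Gen.c V_2090 = V_2091 :=
  rfl
theorem F_8341 (IH : D.IHyp) : ed Gen.c V_2091 = V_2090 :=
  flipE D.rels D.S (hinv Gen.c) (F_8340 IH)
theorem F_8342 (IH : D.IHyp) : ed Gen.d V_2091 = V_2092 :=
  rfl
theorem F_8343 (IH : D.IHyp) : ed Gen.d V_2092 = V_2091 :=
  flipE D.rels D.S (hinv Gen.d) (F_8342 IH)
theorem F_8344 (IH : D.IHyp) : ed Gen.i V_2092 = V_2093 :=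
  rfl
theorem F_8345 (IH : D.IHyp) : ed Gen.i V_2093 = V_2092 :=
  flipE D.rels D.S (hinv Gen.i) (F_8344 IH)
theorem F_8346 (IH : D.IHyp) : ed Gen.h V_2093 = V_2094 :=
  rfl
theorem F_8347 (IH : D.IHyp) : ed Gen.h V_2094 = V_2093 :=
  flipE D.rels D.S (hinv Gen.h) (F_8346 IH)
theorem F_8348 (IH : D.IHyp) : ed Gen.d V_2094 = V_2095 :=
  rfl
theorem F_8349 (IH : D.IHyp) : ed Gen.d V_2095 = V_2094 :=
  flipE D.rels D.S (hinv Gen.d) (F_8348 IH)
theorem F_8350 (IH : D.IHyp) : ed Gen.f V_2095 = V_2096 :=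
  rfl
theorem F_8351 (IH : D.IHyp) : ed Gen.f V_2096 = V_2095 :=
  flipE D.rels D.S (hinv Gen.f) (F_8350 IH)
theorem F_8352 (IH : D.IHyp) : ed Gen.e V_2096 = V_2097 :=
  rfl
theorem F_8353 (IH : D.IHyp) : ed Gen.e V_2097 = V_2096 :=
  flipE D.rels D.S (hinv Gen.e) (F_8352 IH)
theorem F_8354 (IH : D.IHyp) : ed Gen.d V_2097 = V_2098 :=
  rfl
theorem F_8355 (IH : D.IHyp) : ed Gen.d V_2098 = V_2097 :=
  flipE D.rels D.S (hinv Gen.d) (F_8354 IH)
theorem F_8356 (IH : D.IHyp) : ed Gen.b V_2098 = V_2099 :=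
  rfl
theorem F_8357 (IH : D.IHyp) : ed Gen.b V_2099 = V_2098 :=
  flipE D.rels D.S (hinv Gen.b) (F_8356 IH)
theorem F_8358 (IH : D.IHyp) : ed Gen.c V_2099 = V_2100 :=
  rfl
theorem F_8359 (IH : D.IHyp) : ed Gen.c V_2100 = V_2099 :=
  flipE D.rels D.S (hinv Gen.c) (F_8358 IH)
theorem F_8360 (IH : D.IHyp) : ed Gen.d V_2100 = V_2101 :=
  rfl
theorem F_8361 (IH : D.IHyp) : ed Gen.d V_2101 = V_2100 :=
  flipE D.rels D.S (hinv Gen.d) (F_8360 IH)
theorem F_8362 (IH : D.IHyp) : ed Gen.i V_2101 = V_2102 :=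
  rfl
theorem F_8363 (IH : D.IHyp) : ed Gen.i V_2102 = V_2101 :=
  flipE D.rels D.S (hinv Gen.i) (F_8362 IH)
theorem F_8364 (IH : D.IHyp) : ed Gen.h V_2102 = V_2103 :=
  rfl
theorem F_8365 (IH : D.IHyp) : ed Gen.h V_2103 = V_2102 :=
  flipE D.rels D.S (hinv Gen.h) (F_8364 IH)
theorem F_8366 (IH : D.IHyp) : ed Gen.d V_2103 = V_2104 :=
  rfl
theorem F_8367 (IH : D.IHyp) : ed Gen.d V_2104 = V_2103 :=
  flipE D.rels D.S (hinv Gen.d) (F_8366 IH)
theorem F_8368 (IH : D.IHyp) : ed Gen.f V_2104 = V_2105 :=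
  rfl
theorem F_8369 (IH : D.IHyp) : ed Gen.f V_2105 = V_2104 :=
  flipE D.rels D.S (hinv Gen.f) (F_8368 IH)
theorem F_8370 (IH : D.IHyp) : ed Gen.e V_2105 = V_2106 :=
  rfl
theorem F_8371 (IH : D.IHyp) : ed Gen.e V_2106 = V_2105 :=
  flipE D.rels D.S (hinv Gen.e) (F_8370 IH)
theorem F_8372 (IH : D.IHyp) : ed Gen.d V_2106 = V_2107 :=
  rfl
theorem F_8373 (IH : D.IHyp) : ed Gen.d V_2107 = V_2106 :=
  flipE D.rels D.S (hinv Gen.d) (F_8372 IH)
theorem F_8374 (IH : D.IHyp) : ed Gen.b V_2107 = V_2108 :=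
  rfl
theorem F_8375 (IH : D.IHyp) : ed Gen.b V_2108 = V_2107 :=
  flipE D.rels D.S (hinv Gen.b) (F_8374 IH)
theorem F_8376 (IH : D.IHyp) : ed Gen.c V_2108 = V_2109 :=
  rfl
theorem F_8377 (IH : D.IHyp) : ed Gen.c V_2109 = V_2108 :=
  flipE D.rels D.S (hinv Gen.c) (F_8376 IH)
theorem F_8378 (IH : D.IHyp) : ed Gen.d V_874 = V_2109 :=
  gap_rel RW_43 (path_edge (F_2739 IH) (path_edge (F_2731 IH) (path_edge (F_717 IH) (path_edge (F_1369 IH) (path_edge (F_1381 IH) (path_edge (F_1376 IH) (path_edge (F_1368 IH) (path_edge (F_1375 IH) (path_edge (F_751 IH) (path_edge (F_1196 IH) (path_edge (F_1195 IH) (path_edge (F_1162 IH) (path_edge (F_721 IH) (path_edge (F_948 IH) (path_edge (F_720 IH) (path_edge (F_1151 IH) (path_edge (F_8208 IH) (path_edge (F_1023 IH) (path_edge (F_1021 IH) (path_edge (F_8198 IH) (path_edge (F_1010 IH) (path_edge (F_2304 IH) (path_edge (F_1192 IH) (path_edge (F_1193 IH) (path_edge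 (F_1194 IH) (path_edge (F_8188 IH) (path_edge (F_8213 IH) (path_edge (F_8214 IH) (path_edge (F_8217 IH) (path_edge (F_8219 IH) (path_edge (F_8224 IH) (path_edge (F_8231 IH) (path_edge (F_8233 IH) (path_edge (F_8238 IH) (path_edge (F_8246 IH) (path_edge (F_8267 IH) (path_edge (F_8270 IH) (path_edge (F_8272 IH) (path_edge (F_8275 IH) (path_edge (F_8278 IH) (path_edge (F_8281 IH) (path_edge (F_8284 IH) (path_edge (F_8285 IH) (path_edge (F_8287 IH) (path_edge (F_8289 IH) (path_edge (F_8291 IH) (path_edge (F_8293 IH) (path_edge (F_8295 IH) (path_edge (F_8297 IH) (path_edge (F_8299 IH) (path_edge (F_8301 IH) (path_edge (F_8303 IH) (path_edge (F_8305 IH) (path_edge (F_8307 IH) (path_edge (F_8309 IH) (path_edge (F_8311 IH) (path_edge (F_8313 IH) (path_edge (F_8315 IH) (path_edge (F_8317 IH) (path_edge (F_8319 IH) (path_edge (F_8321 IH) (path_edge (F_8323 IH) (path_edge (F_8325 IH) (path_edge (F_8327 IH)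 (path_edge (F_8329 IH) (path_edge (F_8331 IH) (path_edge (F_8333 IH) (path_edge (F_8335 IH) (path_edge (F_8337 IH) (path_edge (F_8339 IH) (path_edge (F_8341 IH) (path_edge (F_8343 IH) (path_edge (F_8345 IH) (path_edge (F_8347 IH) (path_edge (F_8349 IH) (path_edge (F_8351 IH) (path_edge (F_8353 IH) (path_edge (F_8355 IH) (path_edge (F_8357 IH) (path_edge (F_8359 IH) (path_edge (F_8361 IH) (path_edge (F_8363 IH) (path_edge (F_8365 IH) (path_edge (F_8367 IH) (path_edge (F_8369 IH) (path_edge (F_8371 IH) (path_edge (F_8373 IH) (path_edge (F_8375 IH) (path_edge (F_8377 IH) (path_nil _))))))))))))))))))))))))))))))))))))))))))))))))))))))))))))))))))))))))))))))))))))))))))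
theorem F_8379 (IH : D.IHyp) : ed Gen.d V_2109 = V_874 :=
  flipE D.rels D.S (hinv Gen.d) (F_8378 IH)
theorem F_8381 (IH : D.IHyp) : ed Gen.f V_786 = V_2109 :=
  gap_rel RW_5 (path_edge (F_1355 IH) (path_edge (F_2751 IH) (path_edge (F_8379 IH) (path_nil _))))
theorem F_8382 (IH : D.IHyp) : ed Gen.f V_2109 = V_786 :=
  flipE D.rels D.S (hinv Gen.f) (F_8381 IH)
theorem F_8383 (IH : D.IHyp) : ed Gen.i V_1568 = V_2109 :=
  gap_rel RW_6 (path_edge (F_5894 IH) (path_edge (F_2738 IH) (path_edge (F_8379 IH) (path_nil _))))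
theorem F_8384 (IH : D.IHyp) : ed Gen.i V_2109 = V_1568 :=
  flipE D.rels D.S (hinv Gen.i) (F_8383 IH)
theorem F_8385 (IH : D.IHyp) : ed Gen.f V_785 = V_2108 :=
  gap_rel RW_1 (path_edge (F_1353 IH) (path_edge (F_8382 IH) (path_edge (F_8376 IH) (path_nil _))))
theorem F_8386 (IH : D.IHyp) : ed Gen.f V_2108 = V_785 :=
  flipE D.rels D.S (hinv Gen.f) (F_8385 IH)
theorem F_8387 (IH : D.IHyp) : ed Gen.i V_1569 = V_2108 :=
  gap_rel RW_2 (path_edge (F_5900 IH) (path_edge (F_8384 IH) (path_edge (F_8376 IH) (path_nil _))))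
theorem F_8390 (IH : D.IHyp) : ed Gen.f V_784 = V_2107 :=
  gap_rel RW_42 (path_edge (F_1351 IH) (path_edge (F_8386 IH) (path_edge (F_8374 IH) (path_nil _))))
theorem F_8392 (IH : D.IHyp) : ed Gen.d V_2108 = V_1571 :=
  gap_rel RW_23 (path_edge (F_8387 IH) (path_edge (F_5906 IH) (path_edge (F_5909 IH) (path_nil _))))
theorem F_8393 (IH : D.IHyp) : ed Gen.d V_1571 = V_2108 :=
  flipE D.rels D.S (hinv Gen.d) (F_8392 IH)
theorem F_8394 (IH : D.IHyp) : ed Gen.e V_2108 = V_818 :=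
  gap_rel RW_18 (path_edge (F_8387 IH) (path_edge (F_5903 IH) (path_edge (F_1604 IH) (path_nil _))))
theorem F_8395 (IH : D.IHyp) : ed Gen.e V_818 = V_2108 :=
  flipE D.rels D.S (hinv Gen.e) (F_8394 IH)
theorem F_8396 (IH : D.IHyp) : ed Gen.b V_2106 = V_1571 :=
  gap_rel RW_4 (path_edge (F_8373 IH) (path_edge (F_8375 IH) (path_edge (F_8393 IH) (path_nil _))))
theorem F_8397 (IH : D.IHyp) : ed Gen.b V_1571 = V_2106 :=
  flipE D.rels D.S (hinv Gen.b) (F_8396 IH)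
theorem F_8398 (IH : D.IHyp) : ed Gen.f V_2106 = V_783 :=
  gap_rel RW_5 (path_edge (F_8373 IH) (path_edge (F_8390 IH) (path_edge (F_1348 IH) (path_nil _))))
theorem F_8400 (IH : D.IHyp) : ed Gen.b V_2105 = V_1571 :=
  gap_rel RW_13 (path_edge (F_8371 IH) (path_edge (F_8397 IH) (path_edge (F_5910 IH) (path_nil _))))
theorem F_8401 (IH : D.IHyp) : ed Gen.b V_1571 = V_2105 :=
  flipE D.rels D.S (hinv Gen.b) (F_8400 IH)
theorem F_8402 (IH : D.IHyp) : V_2106 = V_2105 :=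
  edge_fun (F_8397 IH) (F_8401 IH)
theorem F_8405 (IH : D.IHyp) : ed Gen.d V_2105 = V_2107 :=
  edge_congr (F_8372 IH) (F_8402 IH)
theorem F_8406 (IH : D.IHyp) : ed Gen.d V_2107 = V_2105 :=
  flipE D.rels D.S (hinv Gen.d) (F_8405 IH)
theorem F_8407 (IH : D.IHyp) : ed Gen.e V_2105 = V_2105 :=
  edge_congr (F_8371 IH) (F_8402 IH)
theorem F_8408 (IH : D.IHyp) : ed Gen.f V_2105 = V_783 :=
  edge_congr (F_8398 IH) (F_8402 IH)
theorem F_8409 (IH : D.IHyp) : V_2104 = V_783 :=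
  edge_fun (F_8369 IH) (F_8408 IH)
theorem F_8410 (IH : D.IHyp) : ed Gen.f V_783 = V_2105 :=
  flipE D.rels D.S (hinv Gen.f) (F_8408 IH)
theorem F_8414 (IH : D.IHyp) : ed Gen.f V_783 = V_2105 :=
  edge_congr (F_8368 IH) (F_8409 IH)
theorem F_8415 (IH : D.IHyp) : ed Gen.f V_2105 = V_783 :=
  flipE D.rels D.S (hinv Gen.f) (F_8414 IH)
theorem F_8435 (IH : D.IHyp) : ed Gen.e V_781 = V_783 :=
  gap_rel RW_44 (path_edge (F_1345 IH) (path_edge (F_1347 IH) (path_edge (F_8415 IH) (path_edge (F_8407 IH) (path_edge (F_8410 IH) (path_nil _))))))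
theorem F_8436 (IH : D.IHyp) : ed Gen.e V_783 = V_781 :=
  flipE D.rels D.S (hinv Gen.e) (F_8435 IH)
theorem F_8437 (IH : D.IHyp) : V_782 = V_781 :=
  edge_fun (F_1347 IH) (F_8436 IH)
theorem F_8438 (IH : D.IHyp) : ed Gen.e V_781 = V_783 :=
  edge_congr (F_1346 IH) (F_8437 IH)
theorem F_8439 (IH : D.IHyp) : ed Gen.e V_783 = V_781 :=
  flipE D.rels D.S (hinv Gen.e) (F_8438 IH)
theorem F_8462 (IH : D.IHyp) : ed Gen.e V_1565 = V_2110 :=
  rfl
theorem F_8463 (IH : D.IHyp) : ed Gen.e V_2110 = V_1565 :=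
  flipE D.rels D.S (hinv Gen.e) (F_8462 IH)
theorem F_8464 (IH : D.IHyp) : ed Gen.b V_1562 = V_2110 :=
  gap_rel RW_13 (path_edge (F_5595 IH) (path_edge (F_5616 IH) (path_edge (F_8463 IH) (path_nil _))))
theorem F_8465 (IH : D.IHyp) : ed Gen.b V_2110 = V_1562 :=
  flipE D.rels D.S (hinv Gen.b) (F_8464 IH)
theorem F_8466 (IH : D.IHyp) : ed Gen.c V_874 = V_2110 :=
  gap_rel RW_14 (path_edge (F_1832 IH) (path_edge (F_5600 IH) (path_edge (F_8463 IH) (path_nil _))))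
theorem F_8467 (IH : D.IHyp) : ed Gen.c V_2110 = V_874 :=
  flipE D.rels D.S (hinv Gen.c) (F_8466 IH)
theorem F_8468 (IH : D.IHyp) : ed Gen.h V_2110 = V_2110 :=
  gap_rel RW_38 (path_edge (F_8462 IH) (path_edge (F_5603 IH) (path_edge (F_8463 IH) (path_nil _))))
theorem F_8469 (IH : D.IHyp) : ed Gen.i V_2110 = V_2011 :=
  gap_rel RW_15 (path_edge (F_8462 IH) (path_edge (F_5604 IH) (path_edge (F_7813 IH) (path_nil _))))
theorem F_8470 (IH : D.IHyp) : ed Gen.i V_2011 = V_2110 :=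
  flipE D.rels D.S (hinv Gen.i) (F_8469 IH)
theorem F_8471 (IH : D.IHyp) : ed Gen.d V_2110 = V_2111 :=
  rfl
theorem F_8472 (IH : D.IHyp) : ed Gen.d V_2111 = V_2110 :=
  flipE D.rels D.S (hinv Gen.d) (F_8471 IH)
theorem F_8473 (IH : D.IHyp) : ed Gen.c V_1571 = V_2111 :=
  gap_rel RW_7 (path_edge (F_8392 IH) (path_edge (F_8377 IH) (path_edge (F_8378 IH) (path_edge (F_8467 IH) (path_edge (F_8472 IH) (path_nil _))))))
theorem F_8474 (IH : D.IHyp) : ed Gen.c V_2111 = V_1571 :=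
  flipE D.rels D.S (hinv Gen.c) (F_8473 IH)
theorem F_8475 (IH : D.IHyp) : ed Gen.e V_2111 = V_2111 :=
  gap_rel RW_41 (path_edge (F_8471 IH) (path_edge (F_8462 IH) (path_edge (F_5606 IH) (path_edge (F_8463 IH) (path_edge (F_8472 IH) (path_nil _))))))
theorem F_8476 (IH : D.IHyp) : ed Gen.b V_2111 = V_2112 :=
  rfl
theorem F_8477 (IH : D.IHyp) : ed Gen.b V_2112 = V_2111 :=
  flipE D.rels D.S (hinv Gen.b) (F_8476 IH)
theorem F_8478 (IH : D.IHyp) : ed Gen.d V_2112 = V_1562 :=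
  gap_rel RW_29 (path_edge (F_8476 IH) (path_edge (F_8471 IH) (path_edge (F_8464 IH) (path_nil _))))
theorem F_8479 (IH : D.IHyp) : ed Gen.d V_1562 = V_2112 :=
  flipE D.rels D.S (hinv Gen.d) (F_8478 IH)
theorem F_8480 (IH : D.IHyp) : ed Gen.e V_2112 = V_2112 :=
  gap_rel RW_30 (path_edge (F_8476 IH) (path_edge (F_8475 IH) (path_edge (F_8477 IH) (path_nil _))))
theorem F_8481 (IH : D.IHyp) : ed Gen.f V_1560 = V_2112 :=
  gap_rel RW_5 (path_edge (F_5591 IH) (path_edge (F_5593 IH) (path_edge (F_8478 IH) (path_nil _))))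
theorem F_8482 (IH : D.IHyp) : ed Gen.f V_2112 = V_1560 :=
  flipE D.rels D.S (hinv Gen.f) (F_8481 IH)
theorem F_8483 (IH : D.IHyp) : ed Gen.i (D.P 294) = V_2112 :=
  gap_rel RW_6 (path_edge (F_2269 IH) (path_edge (F_5627 IH) (path_edge (F_8478 IH) (path_nil _))))
theorem F_8488 (IH : D.IHyp) : ed Gen.c V_2112 = V_2113 :=
  rfl
theorem F_8489 (IH : D.IHyp) : ed Gen.c V_2113 = V_2112 :=
  flipE D.rels D.S (hinv Gen.c) (F_8488 IH)
theorem F_8491 (IH : D.IHyp) : ed Gen.i V_2113 = (D.P 344) :=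
  gap_rel RW_2 (path_edge (F_8488 IH) (path_edge (F_8483 IH) (path_edge (F_5641 IH) (path_nil _))))
theorem F_8492 (IH : D.IHyp) : ed Gen.i (D.P 344) = V_2113 :=
  flipE D.rels D.S (hinv Gen.i) (F_8491 IH)
theorem F_8493 (IH : D.IHyp) : ed Gen.d V_2113 = V_2113 :=
  gap_rel RW_21 (path_edge (F_8488 IH) (path_edge (F_8479 IH) (path_edge (F_5628 IH) (path_edge (F_8478 IH) (path_edge (F_8489 IH) (path_nil _))))))
theorem F_8496 (IH : D.IHyp) : ed Gen.f (D.P 484) = (D.P 484) :=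
  D.real_edge' IH Gen.f 484 484 (by decide +kernel)
theorem F_8499 (IH : D.IHyp) : ed Gen.h V_2015 = V_2114 :=
  rfl
theorem F_8500 (IH : D.IHyp) : ed Gen.h V_2114 = V_2015 :=
  flipE D.rels D.S (hinv Gen.h) (F_8499 IH)
theorem F_8501 (IH : D.IHyp) : ed Gen.c V_1555 = V_2114 :=
  gap_rel RW_11 (path_edge (F_6017 IH) (path_edge (F_7984 IH) (path_edge (F_8500 IH) (path_nil _))))
theorem F_8502 (IH : D.IHyp) : ed Gen.c V_2114 = V_1555 :=
  flipE D.rels D.S (hinv Gen.c) (F_8501 IH)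
theorem F_8503 (IH : D.IHyp) : ed Gen.d V_2114 = V_2115 :=
  rfl
theorem F_8504 (IH : D.IHyp) : ed Gen.d V_2115 = V_2114 :=
  flipE D.rels D.S (hinv Gen.d) (F_8503 IH)
theorem F_8505 (IH : D.IHyp) : ed Gen.h V_2115 = V_2115 :=
  gap_rel RW_33 (path_edge (F_8503 IH) (path_edge (F_8499 IH) (path_edge (F_7983 IH) (path_edge (F_8500 IH) (path_edge (F_8504 IH) (path_nil _))))))
theorem F_8506 (IH : D.IHyp) : ed Gen.f V_2115 = V_2116 :=
  rfl
theorem F_8507 (IH : D.IHyp) : ed Gen.f V_2116 = V_2115 :=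
  flipE D.rels D.S (hinv Gen.f) (F_8506 IH)
theorem F_8508 (IH : D.IHyp) : ed Gen.h V_2116 = V_2116 :=
  gap_rel RW_39 (path_edge (F_8506 IH) (path_edge (F_8505 IH) (path_edge (F_8507 IH) (path_nil _))))
theorem F_8509 (IH : D.IHyp) : ed Gen.e V_2116 = V_2117 :=
  rfl
theorem F_8510 (IH : D.IHyp) : ed Gen.e V_2117 = V_2116 :=
  flipE D.rels D.S (hinv Gen.e) (F_8509 IH)
theorem F_8511 (IH : D.IHyp) : ed Gen.h V_2117 = V_2117 :=
  gap_rel RW_38 (path_edge (F_8509 IH) (path_edge (F_8508 IH) (path_edge (F_8510 IH) (path_nil _))))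
theorem F_8512 (IH : D.IHyp) : ed Gen.d V_2117 = V_2118 :=
  rfl
theorem F_8513 (IH : D.IHyp) : ed Gen.d V_2118 = V_2117 :=
  flipE D.rels D.S (hinv Gen.d) (F_8512 IH)
theorem F_8514 (IH : D.IHyp) : ed Gen.b V_2118 = V_2119 :=
  rfl
theorem F_8515 (IH : D.IHyp) : ed Gen.b V_2119 = V_2118 :=
  flipE D.rels D.S (hinv Gen.b) (F_8514 IH)
theorem F_8516 (IH : D.IHyp) : ed Gen.c V_2119 = V_2120 :=
  rfl
theorem F_8517 (IH : D.IHyp) : ed Gen.c V_2120 = V_2119 :=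
  flipE D.rels D.S (hinv Gen.c) (F_8516 IH)
theorem F_8518 (IH : D.IHyp) : ed Gen.d V_2120 = V_2121 :=
  rfl
theorem F_8519 (IH : D.IHyp) : ed Gen.d V_2121 = V_2120 :=
  flipE D.rels D.S (hinv Gen.d) (F_8518 IH)
theorem F_8520 (IH : D.IHyp) : ed Gen.i V_2121 = V_2122 :=
  rfl
theorem F_8521 (IH : D.IHyp) : ed Gen.i V_2122 = V_2121 :=
  flipE D.rels D.S (hinv Gen.i) (F_8520 IH)
theorem F_8522 (IH : D.IHyp) : ed Gen.h V_2122 = V_2123 :=
  rfl
theorem F_8523 (IH : D.IHyp) : ed Gen.h V_2123 = V_2122 :=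
  flipE D.rels D.S (hinv Gen.h) (F_8522 IH)
theorem F_8524 (IH : D.IHyp) : ed Gen.d V_2123 = V_2124 :=
  rfl
theorem F_8525 (IH : D.IHyp) : ed Gen.d V_2124 = V_2123 :=
  flipE D.rels D.S (hinv Gen.d) (F_8524 IH)
theorem F_8526 (IH : D.IHyp) : ed Gen.f V_2124 = V_2125 :=
  rfl
theorem F_8527 (IH : D.IHyp) : ed Gen.f V_2125 = V_2124 :=
  flipE D.rels D.S (hinv Gen.f) (F_8526 IH)
theorem F_8528 (IH : D.IHyp) : ed Gen.e V_2125 = V_2126 :=
  rfl
theorem F_8529 (IH : D.IHyp) : ed Gen.e V_2126 = V_2125 :=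
  flipE D.rels D.S (hinv Gen.e) (F_8528 IH)
theorem F_8530 (IH : D.IHyp) : ed Gen.d V_2126 = V_2127 :=
  rfl
theorem F_8531 (IH : D.IHyp) : ed Gen.d V_2127 = V_2126 :=
  flipE D.rels D.S (hinv Gen.d) (F_8530 IH)
theorem F_8532 (IH : D.IHyp) : ed Gen.b V_2127 = V_2128 :=
  rfl
theorem F_8533 (IH : D.IHyp) : ed Gen.b V_2128 = V_2127 :=
  flipE D.rels D.S (hinv Gen.b) (F_8532 IH)
theorem F_8534 (IH : D.IHyp) : ed Gen.c V_2128 = V_2129 :=
  rfl
theorem F_8535 (IH : D.IHyp) : ed Gen.c V_2129 = V_2128 :=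
  flipE D.rels D.S (hinv Gen.c) (F_8534 IH)
theorem F_8536 (IH : D.IHyp) : ed Gen.d V_2129 = V_2130 :=
  rfl
theorem F_8537 (IH : D.IHyp) : ed Gen.d V_2130 = V_2129 :=
  flipE D.rels D.S (hinv Gen.d) (F_8536 IH)
theorem F_8538 (IH : D.IHyp) : ed Gen.i V_2130 = V_2131 :=
  rfl
theorem F_8539 (IH : D.IHyp) : ed Gen.i V_2131 = V_2130 :=
  flipE D.rels D.S (hinv Gen.i) (F_8538 IH)
theorem F_8540 (IH : D.IHyp) : ed Gen.h V_2131 = V_2132 :=
  rfl
theorem F_8541 (IH : D.IHyp) : ed Gen.h V_2132 = V_2131 :=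
  flipE D.rels D.S (hinv Gen.h) (F_8540 IH)
theorem F_8542 (IH : D.IHyp) : ed Gen.d V_2132 = V_2133 :=
  rfl
theorem F_8543 (IH : D.IHyp) : ed Gen.d V_2133 = V_2132 :=
  flipE D.rels D.S (hinv Gen.d) (F_8542 IH)
theorem F_8544 (IH : D.IHyp) : ed Gen.f V_2133 = V_2134 :=
  rfl
theorem F_8545 (IH : D.IHyp) : ed Gen.f V_2134 = V_2133 :=
  flipE D.rels D.S (hinv Gen.f) (F_8544 IH)
theorem F_8546 (IH : D.IHyp) : ed Gen.e V_2134 = V_2135 :=
  rfl
theorem F_8547 (IH : D.IHyp) : ed Gen.e V_2135 = V_2134 :=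
  flipE D.rels D.S (hinv Gen.e) (F_8546 IH)
theorem F_8548 (IH : D.IHyp) : ed Gen.d V_2135 = V_2136 :=
  rfl
theorem F_8549 (IH : D.IHyp) : ed Gen.d V_2136 = V_2135 :=
  flipE D.rels D.S (hinv Gen.d) (F_8548 IH)
theorem F_8550 (IH : D.IHyp) : ed Gen.b V_2136 = V_2137 :=
  rfl
theorem F_8551 (IH : D.IHyp) : ed Gen.b V_2137 = V_2136 :=
  flipE D.rels D.S (hinv Gen.b) (F_8550 IH)
theorem F_8552 (IH : D.IHyp) : ed Gen.c V_2137 = V_2138 :=
  rfl
theorem F_8553 (IH : D.IHyp) : ed Gen.c V_2138 = V_2137 :=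
  flipE D.rels D.S (hinv Gen.c) (F_8552 IH)
theorem F_8554 (IH : D.IHyp) : ed Gen.d V_2138 = V_2139 :=
  rfl
theorem F_8555 (IH : D.IHyp) : ed Gen.d V_2139 = V_2138 :=
  flipE D.rels D.S (hinv Gen.d) (F_8554 IH)
theorem F_8556 (IH : D.IHyp) : ed Gen.i V_2139 = V_2140 :=
  rfl
theorem F_8557 (IH : D.IHyp) : ed Gen.i V_2140 = V_2139 :=
  flipE D.rels D.S (hinv Gen.i) (F_8556 IH)
theorem F_8558 (IH : D.IHyp) : ed Gen.h V_2140 = V_2141 :=
  rfl
theorem F_8559 (IH : D.IHyp) : ed Gen.h V_2141 = V_2140 :=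
  flipE D.rels D.S (hinv Gen.h) (F_8558 IH)
theorem F_8560 (IH : D.IHyp) : ed Gen.d V_2141 = V_2142 :=
  rfl
theorem F_8561 (IH : D.IHyp) : ed Gen.d V_2142 = V_2141 :=
  flipE D.rels D.S (hinv Gen.d) (F_8560 IH)
theorem F_8562 (IH : D.IHyp) : ed Gen.f V_2142 = V_2143 :=
  rfl
theorem F_8563 (IH : D.IHyp) : ed Gen.f V_2143 = V_2142 :=
  flipE D.rels D.S (hinv Gen.f) (F_8562 IH)
theorem F_8564 (IH : D.IHyp) : ed Gen.e V_2143 = V_2144 :=
  rfl
theorem F_8565 (IH : D.IHyp) : ed Gen.e V_2144 = V_2143 :=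
  flipE D.rels D.S (hinv Gen.e) (F_8564 IH)
theorem F_8566 (IH : D.IHyp) : ed Gen.d V_2144 = V_2145 :=
  rfl
theorem F_8567 (IH : D.IHyp) : ed Gen.d V_2145 = V_2144 :=
  flipE D.rels D.S (hinv Gen.d) (F_8566 IH)
theorem F_8568 (IH : D.IHyp) : ed Gen.b V_2145 = V_2146 :=
  rfl
theorem F_8569 (IH : D.IHyp) : ed Gen.b V_2146 = V_2145 :=
  flipE D.rels D.S (hinv Gen.b) (F_8568 IH)
theorem F_8570 (IH : D.IHyp) : ed Gen.c V_2146 = V_2147 :=
  rfl
theorem F_8571 (IH : D.IHyp) : ed Gen.c V_2147 = V_2146 :=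
  flipE D.rels D.S (hinv Gen.c) (F_8570 IH)
theorem F_8572 (IH : D.IHyp) : ed Gen.d V_2147 = V_2148 :=
  rfl
theorem F_8573 (IH : D.IHyp) : ed Gen.d V_2148 = V_2147 :=
  flipE D.rels D.S (hinv Gen.d) (F_8572 IH)
theorem F_8574 (IH : D.IHyp) : ed Gen.i V_2148 = V_2149 :=
  rfl
theorem F_8575 (IH : D.IHyp) : ed Gen.i V_2149 = V_2148 :=
  flipE D.rels D.S (hinv Gen.i) (F_8574 IH)
theorem F_8576 (IH : D.IHyp) : ed Gen.h V_2149 = V_2150 :=
  rfl
theorem F_8577 (IH : D.IHyp) : ed Gen.h V_2150 = V_2149 :=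
  flipE D.rels D.S (hinv Gen.h) (F_8576 IH)
theorem F_8578 (IH : D.IHyp) : ed Gen.d V_2150 = V_2151 :=
  rfl
theorem F_8579 (IH : D.IHyp) : ed Gen.d V_2151 = V_2150 :=
  flipE D.rels D.S (hinv Gen.d) (F_8578 IH)
theorem F_8580 (IH : D.IHyp) : ed Gen.f V_2151 = V_2152 :=
  rfl
theorem F_8581 (IH : D.IHyp) : ed Gen.f V_2152 = V_2151 :=
  flipE D.rels D.S (hinv Gen.f) (F_8580 IH)
theorem F_8582 (IH : D.IHyp) : ed Gen.e V_2152 = V_2153 :=
  rfl
theorem F_8583 (IH : D.IHyp) : ed Gen.e V_2153 = V_2152 :=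
  flipE D.rels D.S (hinv Gen.e) (F_8582 IH)
theorem F_8584 (IH : D.IHyp) : ed Gen.d V_2153 = V_2154 :=
  rfl
theorem F_8585 (IH : D.IHyp) : ed Gen.d V_2154 = V_2153 :=
  flipE D.rels D.S (hinv Gen.d) (F_8584 IH)
theorem F_8586 (IH : D.IHyp) : ed Gen.b V_2154 = V_2155 :=
  rfl
theorem F_8587 (IH : D.IHyp) : ed Gen.b V_2155 = V_2154 :=
  flipE D.rels D.S (hinv Gen.b) (F_8586 IH)
theorem F_8588 (IH : D.IHyp) : ed Gen.c V_2155 = V_2156 :=
  rfl
theorem F_8589 (IH : D.IHyp) : ed Gen.c V_2156 = V_2155 :=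
  flipE D.rels D.S (hinv Gen.c) (F_8588 IH)
theorem F_8590 (IH : D.IHyp) : ed Gen.d V_2156 = V_2157 :=
  rfl
theorem F_8591 (IH : D.IHyp) : ed Gen.d V_2157 = V_2156 :=
  flipE D.rels D.S (hinv Gen.d) (F_8590 IH)
theorem F_8592 (IH : D.IHyp) : ed Gen.i V_2157 = V_2158 :=
  rfl
theorem F_8593 (IH : D.IHyp) : ed Gen.i V_2158 = V_2157 :=
  flipE D.rels D.S (hinv Gen.i) (F_8592 IH)
theorem F_8594 (IH : D.IHyp) : ed Gen.h V_2158 = V_2159 :=
  rfl
theorem F_8595 (IH : D.IHyp) : ed Gen.h V_2159 = V_2158 :=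
  flipE D.rels D.S (hinv Gen.h) (F_8594 IH)
theorem F_8596 (IH : D.IHyp) : ed Gen.d V_2159 = V_2160 :=
  rfl
theorem F_8597 (IH : D.IHyp) : ed Gen.d V_2160 = V_2159 :=
  flipE D.rels D.S (hinv Gen.d) (F_8596 IH)
theorem F_8598 (IH : D.IHyp) : ed Gen.f V_2160 = V_2161 :=
  rfl
theorem F_8599 (IH : D.IHyp) : ed Gen.f V_2161 = V_2160 :=
  flipE D.rels D.S (hinv Gen.f) (F_8598 IH)
theorem F_8600 (IH : D.IHyp) : ed Gen.e V_2161 = V_2162 :=
  rfl
theorem F_8601 (IH : D.IHyp) : ed Gen.e V_2162 = V_2161 :=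
  flipE D.rels D.S (hinv Gen.e) (F_8600 IH)
theorem F_8602 (IH : D.IHyp) : ed Gen.d V_2162 = V_2163 :=
  rfl
theorem F_8603 (IH : D.IHyp) : ed Gen.d V_2163 = V_2162 :=
  flipE D.rels D.S (hinv Gen.d) (F_8602 IH)
theorem F_8604 (IH : D.IHyp) : ed Gen.b V_2163 = V_2164 :=
  rfl
theorem F_8605 (IH : D.IHyp) : ed Gen.b V_2164 = V_2163 :=
  flipE D.rels D.S (hinv Gen.b) (F_8604 IH)
theorem F_8606 (IH : D.IHyp) : ed Gen.c V_2164 = V_2165 :=
  rfl
theorem F_8607 (IH : D.IHyp) : ed Gen.c V_2165 = V_2164 :=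
  flipE D.rels D.S (hinv Gen.c) (F_8606 IH)
theorem F_8608 (IH : D.IHyp) : ed Gen.d V_2165 = V_2166 :=
  rfl
theorem F_8609 (IH : D.IHyp) : ed Gen.d V_2166 = V_2165 :=
  flipE D.rels D.S (hinv Gen.d) (F_8608 IH)
theorem F_8610 (IH : D.IHyp) : ed Gen.i V_2166 = V_2167 :=
  rfl
theorem F_8611 (IH : D.IHyp) : ed Gen.i V_2167 = V_2166 :=
  flipE D.rels D.S (hinv Gen.i) (F_8610 IH)
theorem F_8612 (IH : D.IHyp) : ed Gen.h V_2167 = V_2168 :=
  rfl
theorem F_8613 (IH : D.IHyp) : ed Gen.h V_2168 = V_2167 :=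
  flipE D.rels D.S (hinv Gen.h) (F_8612 IH)
theorem F_8614 (IH : D.IHyp) : ed Gen.d V_2168 = V_2169 :=
  rfl
theorem F_8615 (IH : D.IHyp) : ed Gen.d V_2169 = V_2168 :=
  flipE D.rels D.S (hinv Gen.d) (F_8614 IH)
theorem F_8616 (IH : D.IHyp) : ed Gen.f V_2169 = V_2170 :=
  rfl
theorem F_8617 (IH : D.IHyp) : ed Gen.f V_2170 = V_2169 :=
  flipE D.rels D.S (hinv Gen.f) (F_8616 IH)
theorem F_8618 (IH : D.IHyp) : ed Gen.e V_1464 = V_2170 :=
  gap_rel RW_48 (path_edge (F_5248 IH) (path_edge (F_5276 IH) (path_edge (F_5277 IH) (path_edge (F_5247 IH) (path_edge (F_5464 IH) (path_edge (F_5462 IH) (path_edge (F_5460 IH) (path_edge (F_5270 IH) (path_edge (F_1614 IH) (path_edge (F_845 IH) (path_edge (F_843 IH) (path_edge (F_2594 IH) (path_edge (F_2597 IH) (path_edge (F_5605 IH) (path_edge (F_5603 IH) (path_edge (F_5606 IH) (path_edge (F_5602 IH) (path_edge (F_8463 IH) (path_edge (F_8472 IH) (path_edge (F_8477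 IH) (path_edge (F_8489 IH) (path_edge (F_8493 IH) (path_edge (F_8492 IH) (path_edge (F_5737 IH) (path_edge (F_984 IH) (path_edge (F_6056 IH) (path_edge (F_6049 IH) (path_edge (F_1213 IH) (path_edge (F_6022 IH) (path_edge (F_1225 IH) (path_edge (F_1150 IH) (path_edge (F_7987 IH) (path_edge (F_8500 IH) (path_edge (F_8504 IH) (path_edge (F_8507 IH) (path_edge (F_8510 IH) (path_edge (F_8513 IH) (path_edge (F_8515 IH) (path_edge (F_8517 IH) (path_edge (F_8519 IH) (path_edge (F_8521 IH) (path_edge (F_8523 IH) (path_edge (F_8525 IH) (path_edge (F_8527 IH) (path_edge (F_8529 IH) (path_edge (F_8531 IH) (path_edge (F_8533 IH) (path_edge (F_8535 IH) (path_edge (F_8537 IH) (path_edge (F_8539 IH) (path_edge (F_8541 IH) (path_edge (F_8543 IH) (path_edge (F_8545 IH) (path_edge (F_8547 IH) (path_edge (F_8549 IH) (path_edge (F_8551 IH) (path_edge (F_8553 IH) (path_edge (F_8555 IH) (path_edge (F_8557 IH) (path_edge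 (F_8559 IH) (path_edge (F_8561 IH) (path_edge (F_8563 IH) (path_edge (F_8565 IH) (path_edge (F_8567 IH) (path_edge (F_8569 IH) (path_edge (F_8571 IH) (path_edge (F_8573 IH) (path_edge (F_8575 IH) (path_edge (F_8577 IH) (path_edge (F_8579 IH) (path_edge (F_8581 IH) (path_edge (F_8583 IH) (path_edge (F_8585 IH) (path_edge (F_8587 IH) (path_edge (F_8589 IH) (path_edge (F_8591 IH) (path_edge (F_8593 IH) (path_edge (F_8595 IH) (path_edge (F_8597 IH) (path_edge (F_8599 IH) (path_edge (F_8601 IH) (path_edge (F_8603 IH) (path_edge (F_8605 IH) (path_edge (F_8607 IH) (path_edge (F_8609 IH) (path_edge (F_8611 IH) (path_edge (F_8613 IH) (path_edge (F_8615 IH) (path_edge (F_8617 IH) (path_nil _))))))))))))))))))))))))))))))))))))))))))))))))))))))))))))))))))))))))))))))))))))))))))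
theorem F_8619 (IH : D.IHyp) : ed Gen.e V_2170 = V_1464 :=
  flipE D.rels D.S (hinv Gen.e) (F_8618 IH)
theorem F_8622 (IH : D.IHyp) : ed Gen.i V_1502 = V_2170 :=
  gap_rel RW_15 (path_edge (F_5465 IH) (path_edge (F_5463 IH) (path_edge (F_8619 IH) (path_nil _))))
theorem F_8623 (IH : D.IHyp) : ed Gen.i V_2170 = V_1502 :=
  flipE D.rels D.S (hinv Gen.i) (F_8622 IH)
theorem F_8624 (IH : D.IHyp) : ed Gen.i V_2169 = V_2047 :=
  gap_rel RW_35 (path_edge (F_8617 IH) (path_edge (F_8622 IH) (path_edge (F_8138 IH) (path_nil _))))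
theorem F_8626 (IH : D.IHyp) : ed Gen.d V_2170 = V_2170 :=
  gap_rel RW_23 (path_edge (F_8622 IH) (path_edge (F_5469 IH) (path_edge (F_8623 IH) (path_nil _))))
theorem F_8627 (IH : D.IHyp) : ed Gen.f V_2168 = V_2170 :=
  gap_rel RW_5 (path_edge (F_8615 IH) (path_edge (F_8617 IH) (path_edge (F_8626 IH) (path_nil _))))
theorem F_8628 (IH : D.IHyp) : ed Gen.f V_2170 = V_2168 :=
  flipE D.rels D.S (hinv Gen.f) (F_8627 IH)
theorem F_8629 (IH : D.IHyp) : V_2169 = V_2168 :=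
  edge_fun (F_8617 IH) (F_8628 IH)
theorem F_8633 (IH : D.IHyp) : ed Gen.f V_2168 = V_2170 :=
  edge_congr (F_8616 IH) (F_8629 IH)
theorem F_8634 (IH : D.IHyp) : ed Gen.f V_2170 = V_2168 :=
  flipE D.rels D.S (hinv Gen.f) (F_8633 IH)
theorem F_8635 (IH : D.IHyp) : ed Gen.i V_2168 = V_2047 :=
  edge_congr (F_8624 IH) (F_8629 IH)
theorem F_8636 (IH : D.IHyp) : ed Gen.i V_2047 = V_2168 :=
  flipE D.rels D.S (hinv Gen.i) (F_8635 IH)
theorem F_8637 (IH : D.IHyp) : ed Gen.e V_786 = V_2168 :=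
  gap_rel RW_18 (path_edge (F_8113 IH) (path_edge (F_8134 IH) (path_edge (F_8635 IH) (path_nil _))))
theorem F_8638 (IH : D.IHyp) : ed Gen.e V_2168 = V_786 :=
  flipE D.rels D.S (hinv Gen.e) (F_8637 IH)
theorem F_8639 (IH : D.IHyp) : ed Gen.h V_2166 = V_2168 :=
  gap_rel RW_20 (path_edge (F_8611 IH) (path_edge (F_8613 IH) (path_edge (F_8636 IH) (path_edge (F_8137 IH) (path_edge (F_8635 IH) (path_nil _))))))
theorem F_8640 (IH : D.IHyp) : ed Gen.h V_2168 = V_2166 :=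
  flipE D.rels D.S (hinv Gen.h) (F_8639 IH)
theorem F_8641 (IH : D.IHyp) : V_2167 = V_2166 :=
  edge_fun (F_8613 IH) (F_8640 IH)
theorem F_8642 (IH : D.IHyp) : ed Gen.h V_2166 = V_2168 :=
  edge_congr (F_8612 IH) (F_8641 IH)
theorem F_8643 (IH : D.IHyp) : ed Gen.h V_2168 = V_2166 :=
  flipE D.rels D.S (hinv Gen.h) (F_8642 IH)
theorem F_8646 (IH : D.IHyp) : ed Gen.e V_869 = V_2166 :=
  gap_rel RW_9 (path_edge (F_8148 IH) (path_edge (F_8638 IH) (path_edge (F_8639 IH) (path_nil _))))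
theorem F_8670 (IH : D.IHyp) : ed Gen.h V_1422 = V_2171 :=
  rfl
theorem F_8671 (IH : D.IHyp) : ed Gen.h V_2171 = V_1422 :=
  flipE D.rels D.S (hinv Gen.h) (F_8670 IH)
theorem F_8674 (IH : D.IHyp) : ed Gen.c V_791 = V_2171 :=
  gap_rel RW_11 (path_edge (F_1459 IH) (path_edge (F_5106 IH) (path_edge (F_8671 IH) (path_nil _))))
theorem F_8675 (IH : D.IHyp) : ed Gen.c V_2171 = V_791 :=
  flipE D.rels D.S (hinv Gen.c) (F_8674 IH)
theorem F_8677 (IH : D.IHyp) : ed Gen.f V_2171 = V_2171 :=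
  gap_rel RW_10 (path_edge (F_8670 IH) (path_edge (F_5104 IH) (path_edge (F_8671 IH) (path_nil _))))
theorem F_8678 (IH : D.IHyp) : ed Gen.i V_2171 = V_2172 :=
  rfl
theorem F_8679 (IH : D.IHyp) : ed Gen.i V_2172 = V_2171 :=
  flipE D.rels D.S (hinv Gen.i) (F_8678 IH)
theorem F_8682 (IH : D.IHyp) : ed Gen.c V_792 = V_2172 :=
  gap_rel RW_22 (path_edge (F_1540 IH) (path_edge (F_8675 IH) (path_edge (F_8679 IH) (path_nil _))))
theorem F_8685 (IH : D.IHyp) : ed Gen.f V_2172 = V_2172 :=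
  gap_rel RW_19 (path_edge (F_8678 IH) (path_edge (F_8677 IH) (path_edge (F_8679 IH) (path_nil _))))
theorem F_8686 (IH : D.IHyp) : ed Gen.d V_2172 = V_2173 :=
  rfl
theorem F_8687 (IH : D.IHyp) : ed Gen.d V_2173 = V_2172 :=
  flipE D.rels D.S (hinv Gen.d) (F_8686 IH)
theorem F_8690 (IH : D.IHyp) : ed Gen.f V_2173 = V_2173 :=
  gap_rel RW_5 (path_edge (F_8686 IH) (path_edge (F_8685 IH) (path_edge (F_8687 IH) (path_nil _))))
theorem F_8691 (IH : D.IHyp) : ed Gen.c V_2173 = V_2174 :=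
  rfl
theorem F_8692 (IH : D.IHyp) : ed Gen.c V_2174 = V_2173 :=
  flipE D.rels D.S (hinv Gen.c) (F_8691 IH)
theorem F_8693 (IH : D.IHyp) : ed Gen.f V_2174 = V_2174 :=
  gap_rel RW_1 (path_edge (F_8691 IH) (path_edge (F_8690 IH) (path_edge (F_8692 IH) (path_nil _))))
theorem F_8694 (IH : D.IHyp) : ed Gen.d V_2174 = V_794 :=
  gap_rel RW_21 (path_edge (F_8691 IH) (path_edge (F_8686 IH) (path_edge (F_8682 IH) (path_edge (F_1546 IH) (path_edge (F_1550 IH) (path_nil _))))))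
theorem F_8695 (IH : D.IHyp) : ed Gen.d V_794 = V_2174 :=
  flipE D.rels D.S (hinv Gen.d) (F_8694 IH)
theorem F_8900 (IH : D.IHyp) : ed Gen.e V_876 = V_2219 :=
  rfl
theorem F_8901 (IH : D.IHyp) : ed Gen.e V_2219 = V_876 :=
  flipE D.rels D.S (hinv Gen.e) (F_8900 IH)
theorem F_8902 (IH : D.IHyp) : ed Gen.b V_2219 = V_2219 :=
  gap_rel RW_13 (path_edge (F_8900 IH) (path_edge (F_1867 IH) (path_edge (F_8901 IH) (path_nil _))))
theorem F_8904 (IH : D.IHyp) : ed Gen.h V_2219 = V_977 :=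
  gap_rel RW_38 (path_edge (F_8900 IH) (path_edge (F_2559 IH) (path_edge (F_2412 IH) (path_nil _))))
theorem F_8905 (IH : D.IHyp) : ed Gen.h V_977 = V_2219 :=
  flipE D.rels D.S (hinv Gen.h) (F_8904 IH)
theorem F_8908 (IH : D.IHyp) : ed Gen.f V_2219 = V_1465 :=
  gap_rel RW_10 (path_edge (F_8905 IH) (path_edge (F_2410 IH) (path_edge (F_6327 IH) (path_nil _))))
theorem F_8909 (IH : D.IHyp) : ed Gen.f V_1465 = V_2219 :=
  flipE D.rels D.S (hinv Gen.f) (F_8908 IH)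
theorem F_8910 (IH : D.IHyp) : ed Gen.d V_2219 = V_2220 :=
  rfl
theorem F_8911 (IH : D.IHyp) : ed Gen.d V_2220 = V_2219 :=
  flipE D.rels D.S (hinv Gen.d) (F_8910 IH)
theorem F_8912 (IH : D.IHyp) : ed Gen.b V_2220 = V_2220 :=
  gap_rel RW_4 (path_edge (F_8910 IH) (path_edge (F_8902 IH) (path_edge (F_8911 IH) (path_nil _))))
theorem F_8913 (IH : D.IHyp) : ed Gen.f V_2220 = V_1464 :=
  gap_rel RW_5 (path_edge (F_8910 IH) (path_edge (F_8909 IH) (path_edge (F_5247 IH) (path_nil _))))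
theorem F_8914 (IH : D.IHyp) : ed Gen.f V_1464 = V_2220 :=
  flipE D.rels D.S (hinv Gen.f) (F_8913 IH)
theorem F_8917 (IH : D.IHyp) : ed Gen.e V_2220 = V_2109 :=
  gap_rel RW_41 (path_edge (F_8910 IH) (path_edge (F_8900 IH) (path_edge (F_1833 IH) (path_edge (F_1831 IH) (path_edge (F_8379 IH) (path_nil _))))))
theorem F_8918 (IH : D.IHyp) : ed Gen.e V_2109 = V_2220 :=
  flipE D.rels D.S (hinv Gen.e) (F_8917 IH)
theorem F_8919 (IH : D.IHyp) : ed Gen.c V_2220 = V_818 :=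
  gap_rel RW_14 (path_edge (F_8918 IH) (path_edge (F_8376 IH) (path_edge (F_8395 IH) (path_nil _))))
theorem F_8921 (IH : D.IHyp) : ed Gen.f V_818 = V_1463 :=
  gap_rel RW_1 (path_edge (F_8919 IH) (path_edge (F_8914 IH) (path_edge (F_5245 IH) (path_nil _))))
theorem F_8922 (IH : D.IHyp) : ed Gen.f V_1463 = V_818 :=
  flipE D.rels D.S (hinv Gen.f) (F_8921 IH)
theorem F_8923 (IH : D.IHyp) : ed Gen.f V_971 = V_817 :=
  gap_rel RW_10 (path_edge (F_6372 IH) (path_edge (F_8921 IH) (path_edge (F_1602 IH) (path_nil _))))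
theorem F_8924 (IH : D.IHyp) : ed Gen.f V_817 = V_971 :=
  flipE D.rels D.S (hinv Gen.f) (F_8923 IH)
theorem F_8925 (IH : D.IHyp) : ed Gen.d V_971 = V_815 :=
  gap_rel RW_40 (path_edge (F_8924 IH) (path_edge (F_1600 IH) (path_edge (F_1598 IH) (path_nil _))))
theorem F_8926 (IH : D.IHyp) : ed Gen.d V_815 = V_971 :=
  flipE D.rels D.S (hinv Gen.d) (F_8925 IH)
theorem F_8927 (IH : D.IHyp) : ed Gen.b V_969 = V_815 :=
  gap_rel RW_4 (path_edge (F_2397 IH) (path_edge (F_2399 IH) (path_edge (F_8926 IH) (path_nil _))))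
theorem F_8928 (IH : D.IHyp) : ed Gen.b V_815 = V_969 :=
  flipE D.rels D.S (hinv Gen.b) (F_8927 IH)
theorem F_8929 (IH : D.IHyp) : ed Gen.b V_968 = V_814 :=
  gap_rel RW_13 (path_edge (F_2395 IH) (path_edge (F_8928 IH) (path_edge (F_1596 IH) (path_nil _))))
theorem F_8930 (IH : D.IHyp) : ed Gen.b V_814 = V_968 :=
  flipE D.rels D.S (hinv Gen.b) (F_8929 IH)
theorem F_8931 (IH : D.IHyp) : ed Gen.d V_812 = V_968 :=
  gap_rel RW_29 (path_edge (F_1593 IH) (path_edge (F_1595 IH) (path_edge (F_8929 IH) (path_nil _))))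
theorem F_8932 (IH : D.IHyp) : ed Gen.d V_968 = V_812 :=
  flipE D.rels D.S (hinv Gen.d) (F_8931 IH)
theorem F_8933 (IH : D.IHyp) : ed Gen.f V_812 = V_966 :=
  gap_rel RW_5 (path_edge (F_8932 IH) (path_edge (F_2392 IH) (path_edge (F_2390 IH) (path_nil _))))
theorem F_8935 (IH : D.IHyp) : ed Gen.f V_819 = V_2221 :=
  rfl
theorem F_8936 (IH : D.IHyp) : ed Gen.f V_2221 = V_819 :=
  flipE D.rels D.S (hinv Gen.f) (F_8935 IH)
theorem F_8937 (IH : D.IHyp) : ed Gen.c V_1501 = V_2221 :=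
  gap_rel RW_27 (path_edge (F_5457 IH) (path_edge (F_1624 IH) (path_edge (F_8936 IH) (path_nil _))))
theorem F_8938 (IH : D.IHyp) : ed Gen.c V_2221 = V_1501 :=
  flipE D.rels D.S (hinv Gen.c) (F_8937 IH)
theorem F_8939 (IH : D.IHyp) : ed Gen.d V_2221 = V_2221 :=
  gap_rel RW_40 (path_edge (F_8935 IH) (path_edge (F_1629 IH) (path_edge (F_8936 IH) (path_nil _))))
theorem F_8941 (IH : D.IHyp) : ed Gen.i V_2221 = V_1463 :=
  gap_rel RW_35 (path_edge (F_8935 IH) (path_edge (F_1604 IH) (path_edge (F_8922 IH) (path_nil _))))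
theorem F_8943 (IH : D.IHyp) : ed Gen.e V_1503 = V_2221 :=
  gap_rel RW_0 (path_edge (F_5470 IH) (path_edge (F_5465 IH) (path_edge (F_8938 IH) (path_nil _))))
theorem F_8944 (IH : D.IHyp) : ed Gen.e V_2221 = V_1503 :=
  flipE D.rels D.S (hinv Gen.e) (F_8943 IH)
theorem F_8945 (IH : D.IHyp) : ed Gen.e V_1504 = V_1504 :=
  gap_rel RW_41 (path_edge (F_5473 IH) (path_edge (F_8944 IH) (path_edge (F_8939 IH) (path_edge (F_8943 IH) (path_edge (F_5474 IH) (path_nil _))))))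
theorem F_8946 (IH : D.IHyp) : ed Gen.e V_1505 = V_1505 :=
  gap_rel RW_18 (path_edge (F_5476 IH) (path_edge (F_8945 IH) (path_edge (F_5477 IH) (path_nil _))))
theorem F_8947 (IH : D.IHyp) : ed Gen.e V_1506 = V_1506 :=
  gap_rel RW_9 (path_edge (F_5479 IH) (path_edge (F_8946 IH) (path_edge (F_5480 IH) (path_nil _))))
theorem F_8948 (IH : D.IHyp) : ed Gen.e V_2039 = V_1507 :=
  gap_rel RW_41 (path_edge (F_8086 IH) (path_edge (F_8175 IH) (path_edge (F_5482 IH) (path_edge (F_8947 IH) (path_edge (F_5483 IH) (path_nil _))))))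
theorem F_8949 (IH : D.IHyp) : ed Gen.e V_1507 = V_2039 :=
  flipE D.rels D.S (hinv Gen.e) (F_8948 IH)
theorem F_8950 (IH : D.IHyp) : V_2040 = V_2039 :=
  edge_fun (F_8175 IH) (F_8949 IH)
theorem F_8952 (IH : D.IHyp) : ed Gen.e V_2039 = V_1507 :=
  edge_congr (F_8176 IH) (F_8950 IH)
theorem F_8953 (IH : D.IHyp) : ed Gen.e V_1507 = V_2039 :=
  flipE D.rels D.S (hinv Gen.e) (F_8952 IH)
theorem F_8958 (IH : D.IHyp) : ed Gen.b V_1504 = V_2222 :=
  rfl
theorem F_8959 (IH : D.IHyp) : ed Gen.b V_2222 = V_1504 :=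
  flipE D.rels D.S (hinv Gen.b) (F_8958 IH)
theorem F_8961 (IH : D.IHyp) : ed Gen.c V_2222 = V_2223 :=
  rfl
theorem F_8962 (IH : D.IHyp) : ed Gen.c V_2223 = V_2222 :=
  flipE D.rels D.S (hinv Gen.c) (F_8961 IH)
theorem F_8964 (IH : D.IHyp) : ed Gen.b V_2223 = V_2223 :=
  gap_rel RW_24 (path_edge (F_8961 IH) (path_edge (F_8958 IH) (path_edge (F_5475 IH) (path_edge (F_8959 IH) (path_edge (F_8962 IH) (path_nil _))))))
theorem F_8965 (IH : D.IHyp) : ed Gen.d V_2223 = V_2224 :=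
  rfl
theorem F_8966 (IH : D.IHyp) : ed Gen.d V_2224 = V_2223 :=
  flipE D.rels D.S (hinv Gen.d) (F_8965 IH)
theorem F_8967 (IH : D.IHyp) : ed Gen.b V_2224 = V_2224 :=
  gap_rel RW_4 (path_edge (F_8965 IH) (path_edge (F_8964 IH) (path_edge (F_8966 IH) (path_nil _))))
theorem F_8968 (IH : D.IHyp) : ed Gen.i V_2224 = V_2225 :=
  rfl
theorem F_8969 (IH : D.IHyp) : ed Gen.i V_2225 = V_2224 :=
  flipE D.rels D.S (hinv Gen.i) (F_8968 IH)
theorem F_8970 (IH : D.IHyp) : ed Gen.b V_2225 = V_2225 :=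
  gap_rel RW_17 (path_edge (F_8968 IH) (path_edge (F_8967 IH) (path_edge (F_8969 IH) (path_nil _))))
theorem F_8971 (IH : D.IHyp) : ed Gen.h V_2225 = V_2226 :=
  rfl
theorem F_8972 (IH : D.IHyp) : ed Gen.h V_2226 = V_2225 :=
  flipE D.rels D.S (hinv Gen.h) (F_8971 IH)
theorem F_8973 (IH : D.IHyp) : ed Gen.b V_2226 = V_2226 :=
  gap_rel RW_8 (path_edge (F_8971 IH) (path_edge (F_8970 IH) (path_edge (F_8972 IH) (path_nil _))))
theorem F_8974 (IH : D.IHyp) : ed Gen.d V_2226 = V_2227 :=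
  rfl
theorem F_8975 (IH : D.IHyp) : ed Gen.d V_2227 = V_2226 :=
  flipE D.rels D.S (hinv Gen.d) (F_8974 IH)
theorem F_8976 (IH : D.IHyp) : ed Gen.b V_2227 = V_2227 :=
  gap_rel RW_4 (path_edge (F_8974 IH) (path_edge (F_8973 IH) (path_edge (F_8975 IH) (path_nil _))))
theorem F_8977 (IH : D.IHyp) : ed Gen.f V_2227 = V_2228 :=
  rfl
theorem F_8978 (IH : D.IHyp) : ed Gen.f V_2228 = V_2227 :=
  flipE D.rels D.S (hinv Gen.f) (F_8977 IH)
theorem F_8979 (IH : D.IHyp) : ed Gen.b V_2228 = V_2228 :=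
  gap_rel RW_26 (path_edge (F_8977 IH) (path_edge (F_8976 IH) (path_edge (F_8978 IH) (path_nil _))))
theorem F_8980 (IH : D.IHyp) : ed Gen.e V_2228 = V_2229 :=
  rfl
theorem F_8981 (IH : D.IHyp) : ed Gen.e V_2229 = V_2228 :=
  flipE D.rels D.S (hinv Gen.e) (F_8980 IH)
theorem F_8982 (IH : D.IHyp) : ed Gen.b V_2229 = V_2229 :=
  gap_rel RW_13 (path_edge (F_8980 IH) (path_edge (F_8979 IH) (path_edge (F_8981 IH) (path_nil _))))
theorem F_8983 (IH : D.IHyp) : ed Gen.d V_2229 = V_2230 :=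
  rfl
theorem F_8984 (IH : D.IHyp) : ed Gen.d V_2230 = V_2229 :=
  flipE D.rels D.S (hinv Gen.d) (F_8983 IH)
theorem F_8985 (IH : D.IHyp) : ed Gen.b V_2230 = V_2230 :=
  gap_rel RW_4 (path_edge (F_8983 IH) (path_edge (F_8982 IH) (path_edge (F_8984 IH) (path_nil _))))
theorem F_8986 (IH : D.IHyp) : ed Gen.c V_2230 = V_2231 :=
  rfl
theorem F_8988 (IH : D.IHyp) : ed Gen.d V_2231 = V_2232 :=
  rfl
theorem F_8990 (IH : D.IHyp) : ed Gen.i V_2232 = V_2233 :=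
  rfl
theorem F_8992 (IH : D.IHyp) : ed Gen.h V_2233 = V_2234 :=
  rfl
theorem F_8994 (IH : D.IHyp) : ed Gen.d V_2234 = V_2235 :=
  rfl
theorem F_8996 (IH : D.IHyp) : ed Gen.f V_2235 = V_2236 :=
  rfl
theorem F_8998 (IH : D.IHyp) : ed Gen.e V_2236 = V_2237 :=
  rfl
theorem F_9000 (IH : D.IHyp) : ed Gen.d V_2237 = V_2238 :=
  rfl
theorem F_9002 (IH : D.IHyp) : ed Gen.b V_2238 = V_2239 :=
  rfl
theorem F_9004 (IH : D.IHyp) : ed Gen.c V_2239 = V_2240 :=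
  rfl
theorem F_9006 (IH : D.IHyp) : ed Gen.d V_2240 = V_2241 :=
  rfl
theorem F_9008 (IH : D.IHyp) : ed Gen.i V_2241 = V_2242 :=
  rfl
theorem F_9010 (IH : D.IHyp) : ed Gen.h V_2242 = V_2243 :=
  rfl
theorem F_9012 (IH : D.IHyp) : ed Gen.d V_2243 = V_2244 :=
  rfl
theorem F_9014 (IH : D.IHyp) : ed Gen.f V_2244 = V_2245 :=
  rfl
theorem F_9016 (IH : D.IHyp) : ed Gen.e V_2245 = V_2246 :=
  rfl
theorem F_9018 (IH : D.IHyp) : ed Gen.d V_2246 = V_2247 :=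
  rfl
theorem F_9020 (IH : D.IHyp) : ed Gen.b V_2247 = V_2248 :=
  rfl
theorem F_9022 (IH : D.IHyp) : ed Gen.c V_2248 = V_2249 :=
  rfl
theorem F_9024 (IH : D.IHyp) : ed Gen.d V_2249 = V_2250 :=
  rfl
theorem F_9026 (IH : D.IHyp) : ed Gen.i V_2250 = V_2251 :=
  rfl
theorem F_9028 (IH : D.IHyp) : ed Gen.h V_2251 = V_2252 :=
  rfl
theorem F_9030 (IH : D.IHyp) : ed Gen.d V_2252 = V_2253 :=
  rfl
theorem F_9032 (IH : D.IHyp) : ed Gen.f V_2253 = V_2254 :=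
  rfl
theorem F_9034 (IH : D.IHyp) : ed Gen.e V_2254 = V_2255 :=
  rfl
theorem F_9036 (IH : D.IHyp) : ed Gen.d V_2255 = V_2256 :=
  rfl
theorem F_9038 (IH : D.IHyp) : ed Gen.b V_2256 = V_2257 :=
  rfl
theorem F_9040 (IH : D.IHyp) : ed Gen.c V_2257 = V_2258 :=
  rfl
theorem F_9042 (IH : D.IHyp) : ed Gen.d V_2258 = V_2259 :=
  rfl
theorem F_9044 (IH : D.IHyp) : ed Gen.i V_2259 = V_2260 :=
  rfl
theorem F_9046 (IH : D.IHyp) : ed Gen.h V_2260 = V_2261 :=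
  rfl
theorem F_9048 (IH : D.IHyp) : ed Gen.d V_2261 = V_2262 :=
  rfl
theorem F_9050 (IH : D.IHyp) : ed Gen.f V_2262 = V_2263 :=
  rfl
theorem F_9052 (IH : D.IHyp) : ed Gen.e V_2263 = V_2264 :=
  rfl
theorem F_9054 (IH : D.IHyp) : ed Gen.d V_2264 = V_2265 :=
  rfl
theorem F_9056 (IH : D.IHyp) : ed Gen.b V_2265 = V_2266 :=
  rfl
theorem F_9058 (IH : D.IHyp) : ed Gen.c V_2266 = V_2267 :=
  rfl
theorem F_9060 (IH : D.IHyp) : ed Gen.d V_2267 = V_2268 :=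
  rfl
theorem F_9062 (IH : D.IHyp) : ed Gen.i V_2268 = V_2269 :=
  rfl
theorem F_9064 (IH : D.IHyp) : ed Gen.h V_2269 = V_2270 :=
  rfl
theorem F_9066 (IH : D.IHyp) : ed Gen.d V_2270 = V_2271 :=
  rfl
theorem F_9068 (IH : D.IHyp) : ed Gen.f V_2271 = V_2272 :=
  rfl
theorem F_9070 (IH : D.IHyp) : ed Gen.e V_2272 = V_2273 :=
  rfl
theorem F_9072 (IH : D.IHyp) : ed Gen.d V_2273 = V_2274 :=
  rfl
theorem F_9074 (IH : D.IHyp) : ed Gen.b V_2274 = V_2275 :=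
  rfl
theorem F_9076 (IH : D.IHyp) : ed Gen.c V_2275 = V_2276 :=
  rfl
theorem F_9078 (IH : D.IHyp) : ed Gen.d V_2276 = V_2277 :=
  rfl
theorem F_9080 (IH : D.IHyp) : ed Gen.i V_2277 = V_2278 :=
  rfl
theorem F_9082 (IH : D.IHyp) : ed Gen.h V_2278 = V_2279 :=
  rfl
theorem F_9084 (IH : D.IHyp) : ed Gen.d V_2279 = V_2280 :=
  rfl
theorem F_9085 (IH : D.IHyp) : ed Gen.d V_2280 = V_2279 :=
  flipE D.rels D.S (hinv Gen.d) (F_9084 IH)
theorem F_9086 (IH : D.IHyp) : ed Gen.f V_2280 = V_2281 :=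
  rfl
theorem F_9087 (IH : D.IHyp) : ed Gen.f V_2281 = V_2280 :=
  flipE D.rels D.S (hinv Gen.f) (F_9086 IH)
theorem F_9088 (IH : D.IHyp) : ed Gen.e V_2281 = V_2282 :=
  rfl
theorem F_9089 (IH : D.IHyp) : ed Gen.e V_2282 = V_2281 :=
  flipE D.rels D.S (hinv Gen.e) (F_9088 IH)
theorem F_9090 (IH : D.IHyp) : ed Gen.d V_2282 = V_2283 :=
  rfl
theorem F_9091 (IH : D.IHyp) : ed Gen.d V_2283 = V_2282 :=
  flipE D.rels D.S (hinv Gen.d) (F_9090 IH)
theorem F_9092 (IH : D.IHyp) : ed Gen.b V_2283 = V_2284 :=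
  rfl
theorem F_9093 (IH : D.IHyp) : ed Gen.b V_2284 = V_2283 :=
  flipE D.rels D.S (hinv Gen.b) (F_9092 IH)
theorem F_9094 (IH : D.IHyp) : ed Gen.c V_2284 = V_787 :=
  gap_rel RW_45 (path_edge (F_9092 IH) (path_edge (F_9090 IH) (path_edge (F_9088 IH) (path_edge (F_9086 IH) (path_edge (F_9084 IH) (path_edge (F_9082 IH) (path_edge (F_9080 IH) (path_edge (F_9078 IH) (path_edge (F_9076 IH) (path_edge (F_9074 IH) (path_edge (F_9072 IH) (path_edge (F_9070 IH) (path_edge (F_9068 IH) (path_edge (F_9066 IH) (path_edge (F_9064 IH) (path_edge (F_9062 IH) (path_edge (F_9060 IH) (path_edge (F_9058 IH) (path_edge (F_9056 IH) (path_edge (F_9054 IH) (path_edge (F_9052 IH) (path_edge (F_9050 IH) (path_edge (F_9048 IH) (path_edge (F_9046 IH) (path_edge (F_9044 IH) (path_edge (F_9042 IH) (path_edge (F_9040 IH) (path_edge (F_9038 IH) (path_edge (F_9036 IH) (path_edge (F_9034 IH) (path_edge (F_9032 IH) (path_edge (F_9030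 IH) (path_edge (F_9028 IH) (path_edge (F_9026 IH) (path_edge (F_9024 IH) (path_edge (F_9022 IH) (path_edge (F_9020 IH) (path_edge (F_9018 IH) (path_edge (F_9016 IH) (path_edge (F_9014 IH) (path_edge (F_9012 IH) (path_edge (F_9010 IH) (path_edge (F_9008 IH) (path_edge (F_9006 IH) (path_edge (F_9004 IH) (path_edge (F_9002 IH) (path_edge (F_9000 IH) (path_edge (F_8998 IH) (path_edge (F_8996 IH) (path_edge (F_8994 IH) (path_edge (F_8992 IH) (path_edge (F_8990 IH) (path_edge (F_8988 IH) (path_edge (F_8986 IH) (path_edge (F_8985 IH) (path_edge (F_8983 IH) (path_edge (F_8980 IH) (path_edge (F_8977 IH) (path_edge (F_8974 IH) (path_edge (F_8971 IH) (path_edge (F_8968 IH) (path_edge (F_8965 IH) (path_edge (F_8961 IH) (path_edge (F_8958 IH) (path_edge (F_5473 IH) (path_edge (F_8944 IH) (path_edge (F_8935 IH) (path_edge (F_1629 IH) (path_edge (F_2164 IH) (path_edge (F_1604 IH) (path_edge (F_1630 IH) (path_edge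 (F_8919 IH) (path_edge (F_8912 IH) (path_edge (F_8910 IH) (path_edge (F_8900 IH) (path_edge (F_1874 IH) (path_edge (F_1833 IH) (path_edge (F_1884 IH) (path_edge (F_1886 IH) (path_edge (F_846 IH) (path_edge (F_856 IH) (path_edge (F_847 IH) (path_edge (F_845 IH) (path_edge (F_2735 IH) (path_edge (F_2736 IH) (path_edge (F_8110 IH) (path_edge (F_8115 IH) (path_edge (F_8112 IH) (path_edge (F_1355 IH) (path_nil _))))))))))))))))))))))))))))))))))))))))))))))))))))))))))))))))))))))))))))))))))))))))))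
theorem F_9095 (IH : D.IHyp) : ed Gen.c V_787 = V_2284 :=
  flipE D.rels D.S (hinv Gen.c) (F_9094 IH)
theorem F_9096 (IH : D.IHyp) : ed Gen.e V_2284 = V_2284 :=
  gap_rel RW_0 (path_edge (F_9095 IH) (path_edge (F_1456 IH) (path_edge (F_9094 IH) (path_nil _))))
theorem F_9097 (IH : D.IHyp) : ed Gen.f V_2110 = V_2284 :=
  gap_rel RW_1 (path_edge (F_8466 IH) (path_edge (F_2740 IH) (path_edge (F_9094 IH) (path_nil _))))
theorem F_9098 (IH : D.IHyp) : ed Gen.f V_2284 = V_2110 :=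
  flipE D.rels D.S (hinv Gen.f) (F_9097 IH)
theorem F_9101 (IH : D.IHyp) : ed Gen.b V_1561 = V_2284 :=
  gap_rel RW_26 (path_edge (F_5593 IH) (path_edge (F_8465 IH) (path_edge (F_9098 IH) (path_nil _))))
theorem F_9102 (IH : D.IHyp) : ed Gen.b V_2284 = V_1561 :=
  flipE D.rels D.S (hinv Gen.b) (F_9101 IH)
theorem F_9103 (IH : D.IHyp) : V_2283 = V_1561 :=
  edge_fun (F_9093 IH) (F_9102 IH)
theorem F_9104 (IH : D.IHyp) : ed Gen.b V_1561 = V_2284 :=
  edge_congr (F_9092 IH) (F_9103 IH)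
theorem F_9105 (IH : D.IHyp) : ed Gen.b V_2284 = V_1561 :=
  flipE D.rels D.S (hinv Gen.b) (F_9104 IH)
theorem F_9106 (IH : D.IHyp) : ed Gen.d V_1561 = V_2282 :=
  edge_congr (F_9091 IH) (F_9103 IH)
theorem F_9107 (IH : D.IHyp) : V_1560 = V_2282 :=
  edge_fun (F_5591 IH) (F_9106 IH)
theorem F_9111 (IH : D.IHyp) : V_2282 = V_1560 :=
  (F_9107 IH).symm
theorem F_9113 (IH : D.IHyp) : ed Gen.e V_1560 = V_2281 :=
  edge_congr (F_9089 IH) (F_9111 IH)
theorem F_9114 (IH : D.IHyp) : ed Gen.e V_2281 = V_1560 :=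
  flipE D.rels D.S (hinv Gen.e) (F_9113 IH)
theorem F_9115 (IH : D.IHyp) : ed Gen.d V_2281 = V_2281 :=
  gap_rel RW_16 (path_edge (F_9113 IH) (path_edge (F_5591 IH) (path_edge (F_5630 IH) (path_edge (F_5590 IH) (path_edge (F_9114 IH) (path_nil _))))))
theorem F_9116 (IH : D.IHyp) : ed Gen.i V_2281 = (D.P 434) :=
  gap_rel RW_15 (path_edge (F_9113 IH) (path_edge (F_5711 IH) (path_edge (F_1066 IH) (path_nil _))))
theorem F_9118 (IH : D.IHyp) : ed Gen.e V_2280 = V_1560 :=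
  gap_rel RW_44 (path_edge (F_9087 IH) (path_edge (F_9113 IH) (path_edge (F_8482 IH) (path_edge (F_8480 IH) (path_edge (F_8481 IH) (path_nil _))))))
theorem F_9119 (IH : D.IHyp) : ed Gen.e V_1560 = V_2280 :=
  flipE D.rels D.S (hinv Gen.e) (F_9118 IH)
theorem F_9120 (IH : D.IHyp) : V_2281 = V_2280 :=
  edge_fun (F_9113 IH) (F_9119 IH)
theorem F_9121 (IH : D.IHyp) : ed Gen.d V_2281 = V_2280 :=
  (F_9115 IH).trans (F_9120 IH)
theorem F_9122 (IH : D.IHyp) : ed Gen.d V_2280 = V_2280 :=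
  edge_congr (F_9121 IH) (F_9120 IH)
theorem F_9123 (IH : D.IHyp) : V_2279 = V_2280 :=
  edge_fun (F_9085 IH) (F_9122 IH)
theorem F_9129 (IH : D.IHyp) : ed Gen.i V_2280 = (D.P 434) :=
  edge_congr (F_9116 IH) (F_9120 IH)
theorem F_9131 (IH : D.IHyp) : V_2280 = V_2279 :=
  (F_9123 IH).symm
theorem F_9133 (IH : D.IHyp) : ed Gen.e V_2279 = V_1560 :=
  edge_congr (F_9118 IH) (F_9131 IH)
theorem F_9137 (IH : D.IHyp) : ed Gen.i V_2279 = (D.P 434) :=
  edge_congr (F_9129 IH) (F_9131 IH)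
theorem F_9138 (IH : D.IHyp) : ed Gen.i (D.P 434) = V_2279 :=
  flipE D.rels D.S (hinv Gen.i) (F_9137 IH)
theorem F_9147 (IH : D.IHyp) : ed Gen.c (D.P 362) = (D.P 413) :=
  D.real_edge' IH Gen.c 362 413 (by decide +kernel)
theorem F_9954 (IH : D.IHyp) : ed Gen.b V_742 = V_2535 :=
  rfl
theorem F_9955 (IH : D.IHyp) : ed Gen.b V_2535 = V_742 :=
  flipE D.rels D.S (hinv Gen.b) (F_9954 IH)
theorem F_9956 (IH : D.IHyp) : ed Gen.d V_2535 = V_2535 :=
  gap_rel RW_29 (path_edge (F_9954 IH) (path_edge (F_967 IH) (path_edge (F_9955 IH) (path_nil _))))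
theorem F_9957 (IH : D.IHyp) : ed Gen.e V_2535 = V_2535 :=
  gap_rel RW_30 (path_edge (F_9954 IH) (path_edge (F_937 IH) (path_edge (F_9955 IH) (path_nil _))))
theorem F_9958 (IH : D.IHyp) : ed Gen.f V_2535 = V_2015 :=
  gap_rel RW_42 (path_edge (F_9954 IH) (path_edge (F_7958 IH) (path_edge (F_7982 IH) (path_nil _))))
theorem F_9962 (IH : D.IHyp) : ed Gen.c V_2535 = V_1617 :=
  gap_rel RW_3 (path_edge (F_9954 IH) (path_edge (F_920 IH) (path_edge (F_61 IH) (path_edge (F_5845 IH) (path_edge (F_6065 IH) (path_nil _))))))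
theorem F_9963 (IH : D.IHyp) : ed Gen.c V_1617 = V_2535 :=
  flipE D.rels D.S (hinv Gen.c) (F_9962 IH)
theorem F_9999 (IH : D.IHyp) : ed Gen.h V_2535 = V_2538 :=
  rfl
theorem F_10000 (IH : D.IHyp) : ed Gen.h V_2538 = V_2535 :=
  flipE D.rels D.S (hinv Gen.h) (F_9999 IH)
theorem F_10001 (IH : D.IHyp) : ed Gen.b V_825 = V_2538 :=
  gap_rel RW_8 (path_edge (F_1720 IH) (path_edge (F_9955 IH) (path_edge (F_10000 IH) (path_nil _))))
theorem F_10003 (IH : D.IHyp) : ed Gen.c V_1616 = V_2538 :=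
  gap_rel RW_11 (path_edge (F_6003 IH) (path_edge (F_9962 IH) (path_edge (F_10000 IH) (path_nil _))))
theorem F_10004 (IH : D.IHyp) : ed Gen.c V_2538 = V_1616 :=
  flipE D.rels D.S (hinv Gen.c) (F_10003 IH)
theorem F_10005 (IH : D.IHyp) : ed Gen.e V_2538 = V_2538 :=
  gap_rel RW_9 (path_edge (F_9999 IH) (path_edge (F_9957 IH) (path_edge (F_10000 IH) (path_nil _))))
theorem F_10006 (IH : D.IHyp) : ed Gen.f V_2114 = V_2538 :=
  gap_rel RW_10 (path_edge (F_8499 IH) (path_edge (F_9958 IH) (path_edge (F_10000 IH) (path_nil _))))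
theorem F_10008 (IH : D.IHyp) : ed Gen.d V_2538 = V_2116 :=
  gap_rel RW_40 (path_edge (F_10006 IH) (path_edge (F_8504 IH) (path_edge (F_8507 IH) (path_nil _))))
theorem F_10009 (IH : D.IHyp) : ed Gen.d V_2116 = V_2538 :=
  flipE D.rels D.S (hinv Gen.d) (F_10008 IH)
theorem F_10010 (IH : D.IHyp) : ed Gen.c V_2058 = V_2116 :=
  gap_rel RW_7 (path_edge (F_8266 IH) (path_edge (F_8245 IH) (path_edge (F_8240 IH) (path_edge (F_10004 IH) (path_edge (F_10009 IH) (path_nil _))))))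
theorem F_10011 (IH : D.IHyp) : ed Gen.c V_2116 = V_2058 :=
  flipE D.rels D.S (hinv Gen.c) (F_10010 IH)
theorem F_10012 (IH : D.IHyp) : ed Gen.e V_2118 = V_2116 :=
  gap_rel RW_41 (path_edge (F_8512 IH) (path_edge (F_8509 IH) (path_edge (F_10008 IH) (path_edge (F_10005 IH) (path_edge (F_10009 IH) (path_nil _))))))
theorem F_10013 (IH : D.IHyp) : ed Gen.e V_2116 = V_2118 :=
  flipE D.rels D.S (hinv Gen.e) (F_10012 IH)
theorem F_10014 (IH : D.IHyp) : V_2117 = V_2118 :=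
  edge_fun (F_8509 IH) (F_10013 IH)
theorem F_10015 (IH : D.IHyp) : V_2118 = V_2117 :=
  (F_10014 IH).symm
theorem F_10016 (IH : D.IHyp) : ed Gen.b V_2117 = V_2119 :=
  edge_congr (F_8514 IH) (F_10015 IH)
theorem F_10017 (IH : D.IHyp) : ed Gen.b V_2119 = V_2117 :=
  flipE D.rels D.S (hinv Gen.b) (F_10016 IH)
theorem F_10018 (IH : D.IHyp) : ed Gen.d V_2117 = V_2117 :=
  edge_congr (F_8513 IH) (F_10015 IH)
theorem F_10020 (IH : D.IHyp) : ed Gen.b V_2116 = V_826 :=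
  gap_rel RW_4 (path_edge (F_10008 IH) (path_edge (F_10001 IH) (path_edge (F_1722 IH) (path_nil _))))
theorem F_10022 (IH : D.IHyp) : ed Gen.e V_826 = V_2119 :=
  gap_rel RW_30 (path_edge (F_10020 IH) (path_edge (F_8510 IH) (path_edge (F_10017 IH) (path_nil _))))
theorem F_10023 (IH : D.IHyp) : ed Gen.e V_2119 = V_826 :=
  flipE D.rels D.S (hinv Gen.e) (F_10022 IH)
theorem F_10024 (IH : D.IHyp) : ed Gen.h V_2058 = V_2058 :=
  gap_rel RW_32 (path_edge (F_10011 IH) (path_edge (F_8508 IH) (path_edge (F_10010 IH) (path_nil _))))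
theorem F_10026 (IH : D.IHyp) : ed Gen.d V_2119 = V_2119 :=
  gap_rel RW_29 (path_edge (F_10016 IH) (path_edge (F_10018 IH) (path_edge (F_10017 IH) (path_nil _))))
theorem F_10027 (IH : D.IHyp) : ed Gen.h V_2119 = V_2119 :=
  gap_rel RW_31 (path_edge (F_10016 IH) (path_edge (F_8511 IH) (path_edge (F_10017 IH) (path_nil _))))
theorem F_10028 (IH : D.IHyp) : ed Gen.e V_2120 = V_826 :=
  gap_rel RW_0 (path_edge (F_8516 IH) (path_edge (F_10022 IH) (path_edge (F_1723 IH) (path_nil _))))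
theorem F_10029 (IH : D.IHyp) : ed Gen.e V_826 = V_2120 :=
  flipE D.rels D.S (hinv Gen.e) (F_10028 IH)
theorem F_10030 (IH : D.IHyp) : V_2119 = V_2120 :=
  edge_fun (F_10022 IH) (F_10029 IH)
theorem F_10031 (IH : D.IHyp) : V_2120 = V_2119 :=
  (F_10030 IH).symm
theorem F_10033 (IH : D.IHyp) : ed Gen.d V_2119 = V_2121 :=
  edge_congr (F_8518 IH) (F_10031 IH)
theorem F_10034 (IH : D.IHyp) : V_2119 = V_2121 :=
  edge_fun (F_10026 IH) (F_10033 IH)
theorem F_10037 (IH : D.IHyp) : V_2121 = V_2119 :=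
  (F_10034 IH).symm
theorem F_10039 (IH : D.IHyp) : ed Gen.i V_2119 = V_2122 :=
  edge_congr (F_8520 IH) (F_10037 IH)
theorem F_10040 (IH : D.IHyp) : ed Gen.i V_2122 = V_2119 :=
  flipE D.rels D.S (hinv Gen.i) (F_10039 IH)
theorem F_10042 (IH : D.IHyp) : ed Gen.d V_2122 = V_2122 :=
  gap_rel RW_23 (path_edge (F_10039 IH) (path_edge (F_10026 IH) (path_edge (F_10040 IH) (path_nil _))))
theorem F_10043 (IH : D.IHyp) : ed Gen.e V_827 = V_2122 :=
  gap_rel RW_18 (path_edge (F_1725 IH) (path_edge (F_10023 IH) (path_edge (F_10040 IH) (path_nil _))))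
theorem F_10044 (IH : D.IHyp) : ed Gen.e V_2122 = V_827 :=
  flipE D.rels D.S (hinv Gen.e) (F_10043 IH)
theorem F_10045 (IH : D.IHyp) : ed Gen.i V_2123 = V_2123 :=
  gap_rel RW_34 (path_edge (F_8522 IH) (path_edge (F_10039 IH) (path_edge (F_10027 IH) (path_edge (F_10040 IH) (path_edge (F_8523 IH) (path_nil _))))))
theorem F_10048 (IH : D.IHyp) : ed Gen.e V_828 = V_2123 :=
  gap_rel RW_9 (path_edge (F_1728 IH) (path_edge (F_10044 IH) (path_edge (F_8523 IH) (path_nil _))))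
theorem F_10050 (IH : D.IHyp) : ed Gen.h V_2124 = V_2124 :=
  gap_rel RW_33 (path_edge (F_8524 IH) (path_edge (F_8522 IH) (path_edge (F_10042 IH) (path_edge (F_8523 IH) (path_edge (F_8525 IH) (path_nil _))))))
theorem F_10051 (IH : D.IHyp) : ed Gen.i V_2124 = V_2124 :=
  gap_rel RW_6 (path_edge (F_8524 IH) (path_edge (F_10045 IH) (path_edge (F_8525 IH) (path_nil _))))
theorem F_10054 (IH : D.IHyp) : ed Gen.i V_2125 = V_2125 :=
  gap_rel RW_35 (path_edge (F_8526 IH) (path_edge (F_10051 IH) (path_edge (F_8527 IH) (path_nil _))))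
theorem F_10057 (IH : D.IHyp) : ed Gen.i V_2126 = V_2126 :=
  gap_rel RW_15 (path_edge (F_8528 IH) (path_edge (F_10054 IH) (path_edge (F_8529 IH) (path_nil _))))
theorem F_10059 (IH : D.IHyp) : ed Gen.i V_2127 = V_2127 :=
  gap_rel RW_6 (path_edge (F_8530 IH) (path_edge (F_10057 IH) (path_edge (F_8531 IH) (path_nil _))))
theorem F_10061 (IH : D.IHyp) : ed Gen.i V_2128 = V_2128 :=
  gap_rel RW_36 (path_edge (F_8532 IH) (path_edge (F_10059 IH) (path_edge (F_8533 IH) (path_nil _))))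
theorem F_10070 (IH : D.IHyp) : ed Gen.i V_2129 = V_2129 :=
  gap_rel RW_2 (path_edge (F_8534 IH) (path_edge (F_10061 IH) (path_edge (F_8535 IH) (path_nil _))))
theorem F_10071 (IH : D.IHyp) : ed Gen.d V_2131 = V_2129 :=
  gap_rel RW_23 (path_edge (F_8538 IH) (path_edge (F_8536 IH) (path_edge (F_10070 IH) (path_nil _))))
theorem F_10072 (IH : D.IHyp) : ed Gen.d V_2129 = V_2131 :=
  flipE D.rels D.S (hinv Gen.d) (F_10071 IH)
theorem F_10073 (IH : D.IHyp) : V_2130 = V_2131 :=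
  edge_fun (F_8536 IH) (F_10072 IH)
theorem F_10074 (IH : D.IHyp) : V_2131 = V_2130 :=
  (F_10073 IH).symm
theorem F_10076 (IH : D.IHyp) : ed Gen.h V_2130 = V_2132 :=
  edge_congr (F_8540 IH) (F_10074 IH)
theorem F_10077 (IH : D.IHyp) : ed Gen.h V_2132 = V_2130 :=
  flipE D.rels D.S (hinv Gen.h) (F_10076 IH)
theorem F_10079 (IH : D.IHyp) : ed Gen.h V_2014 = V_2539 :=
  rfl
theorem F_10080 (IH : D.IHyp) : ed Gen.h V_2539 = V_2014 :=
  flipE D.rels D.S (hinv Gen.h) (F_10079 IH)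
theorem F_10081 (IH : D.IHyp) : ed Gen.b V_2114 = V_2539 :=
  gap_rel RW_8 (path_edge (F_8499 IH) (path_edge (F_7981 IH) (path_edge (F_10080 IH) (path_nil _))))
theorem F_10083 (IH : D.IHyp) : ed Gen.e V_928 = V_2539 :=
  gap_rel RW_9 (path_edge (F_5100 IH) (path_edge (F_7956 IH) (path_edge (F_10080 IH) (path_nil _))))
theorem F_10085 (IH : D.IHyp) : ed Gen.f V_825 = V_2539 :=
  gap_rel RW_10 (path_edge (F_1720 IH) (path_edge (F_7958 IH) (path_edge (F_10080 IH) (path_nil _))))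
theorem F_10087 (IH : D.IHyp) : ed Gen.i V_2014 = V_2540 :=
  rfl
theorem F_10088 (IH : D.IHyp) : ed Gen.i V_2540 = V_2014 :=
  flipE D.rels D.S (hinv Gen.i) (F_10087 IH)
theorem F_10089 (IH : D.IHyp) : ed Gen.b (D.P 479) = V_2540 :=
  gap_rel RW_17 (path_edge (F_7987 IH) (path_edge (F_7981 IH) (path_edge (F_10088 IH) (path_nil _))))
theorem F_10093 (IH : D.IHyp) : ed Gen.d V_2540 = V_2540 :=
  gap_rel RW_23 (path_edge (F_10087 IH) (path_edge (F_7967 IH) (path_edge (F_10088 IH) (path_nil _))))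
theorem F_10094 (IH : D.IHyp) : ed Gen.f V_743 = V_2540 :=
  gap_rel RW_19 (path_edge (F_1092 IH) (path_edge (F_7958 IH) (path_edge (F_10088 IH) (path_nil _))))
theorem F_10095 (IH : D.IHyp) : ed Gen.f V_2540 = V_743 :=
  flipE D.rels D.S (hinv Gen.f) (F_10094 IH)
theorem F_10295 (IH : D.IHyp) : ed Gen.i V_825 = V_2545 :=
  rfl
theorem F_10296 (IH : D.IHyp) : ed Gen.i V_2545 = V_825 :=
  flipE D.rels D.S (hinv Gen.i) (F_10295 IH)
theorem F_10297 (IH : D.IHyp) : ed Gen.d V_827 = V_2545 :=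
  gap_rel RW_23 (path_edge (F_1725 IH) (path_edge (F_1721 IH) (path_edge (F_10296 IH) (path_nil _))))
theorem F_10298 (IH : D.IHyp) : ed Gen.d V_2545 = V_827 :=
  flipE D.rels D.S (hinv Gen.d) (F_10297 IH)
theorem F_10299 (IH : D.IHyp) : ed Gen.e V_2545 = V_2545 :=
  gap_rel RW_18 (path_edge (F_10295 IH) (path_edge (F_1718 IH) (path_edge (F_10296 IH) (path_nil _))))
theorem F_10300 (IH : D.IHyp) : ed Gen.h V_2545 = V_2546 :=
  rfl
theorem F_10301 (IH : D.IHyp) : ed Gen.h V_2546 = V_2545 :=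
  flipE D.rels D.S (hinv Gen.h) (F_10300 IH)
theorem F_10303 (IH : D.IHyp) : ed Gen.i V_2546 = V_744 :=
  gap_rel RW_34 (path_edge (F_10300 IH) (path_edge (F_10295 IH) (path_edge (F_1720 IH) (path_edge (F_1093 IH) (path_edge (F_1265 IH) (path_nil _))))))
theorem F_10304 (IH : D.IHyp) : ed Gen.i V_744 = V_2546 :=
  flipE D.rels D.S (hinv Gen.i) (F_10303 IH)
theorem F_10305 (IH : D.IHyp) : ed Gen.d (D.P 568) = V_2547 :=
  rfl
theorem F_10306 (IH : D.IHyp) : ed Gen.d V_2547 = (D.P 568) :=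
  flipE D.rels D.S (hinv Gen.d) (F_10305 IH)
theorem F_10307 (IH : D.IHyp) : ed Gen.b V_2547 = V_2547 :=
  gap_rel RW_4 (path_edge (F_10305 IH) (path_edge (F_2007 IH) (path_edge (F_10306 IH) (path_nil _))))
theorem F_10312 (IH : D.IHyp) : ed Gen.h (D.P 568) = (D.P 504) :=
  D.real_edge' IH Gen.h 568 504 (by decide +kernel)
theorem F_10313 (IH : D.IHyp) : ed Gen.c (D.P 568) = (D.P 509) :=
  D.real_edge' IH Gen.c 568 509 (by decide +kernel)
theorem F_10316 (IH : D.IHyp) : ed Gen.i V_2547 = V_2547 :=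
  gap_rel RW_6 (path_edge (F_10305 IH) (path_edge (F_1515 IH) (path_edge (F_10306 IH) (path_nil _))))
theorem F_10326 (IH : D.IHyp) : ed Gen.i (D.P 369) = (D.P 304) :=
  D.real_edge' IH Gen.i 369 304 (by decide +kernel)
theorem F_10330 (IH : D.IHyp) : ed Gen.h V_2547 = V_2548 :=
  rfl
theorem F_10331 (IH : D.IHyp) : ed Gen.h V_2548 = V_2547 :=
  flipE D.rels D.S (hinv Gen.h) (F_10330 IH)
theorem F_10332 (IH : D.IHyp) : ed Gen.b V_2548 = V_2548 :=
  gap_rel RW_8 (path_edge (F_10330 IH) (path_edge (F_10307 IH) (path_edge (F_10331 IH) (path_nil _))))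
theorem F_10334 (IH : D.IHyp) : ed Gen.d V_791 = V_2548 :=
  gap_rel RW_12 (path_edge (F_1459 IH) (path_edge (F_109 IH) (path_edge (F_10312 IH) (path_edge (F_10306 IH) (path_edge (F_10331 IH) (path_nil _))))))
theorem F_10335 (IH : D.IHyp) : ed Gen.d V_2548 = V_791 :=
  flipE D.rels D.S (hinv Gen.d) (F_10334 IH)
theorem F_10336 (IH : D.IHyp) : ed Gen.i V_793 = V_2548 :=
  gap_rel RW_6 (path_edge (F_1545 IH) (path_edge (F_1540 IH) (path_edge (F_10335 IH) (path_nil _))))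
theorem F_10337 (IH : D.IHyp) : ed Gen.i V_2548 = V_793 :=
  flipE D.rels D.S (hinv Gen.i) (F_10336 IH)
theorem F_10338 (IH : D.IHyp) : ed Gen.h V_793 = V_793 :=
  gap_rel RW_20 (path_edge (F_10337 IH) (path_edge (F_10330 IH) (path_edge (F_10316 IH) (path_edge (F_10331 IH) (path_edge (F_10336 IH) (path_nil _))))))
theorem F_10339 (IH : D.IHyp) : ed Gen.h V_794 = V_794 :=
  gap_rel RW_32 (path_edge (F_1549 IH) (path_edge (F_10338 IH) (path_edge (F_1550 IH) (path_nil _))))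
theorem F_10352 (IH : D.IHyp) : ed Gen.c V_2548 = V_2549 :=
  rfl
theorem F_10353 (IH : D.IHyp) : ed Gen.c V_2549 = V_2548 :=
  flipE D.rels D.S (hinv Gen.c) (F_10352 IH)
theorem F_10355 (IH : D.IHyp) : ed Gen.i V_2549 = V_794 :=
  gap_rel RW_2 (path_edge (F_10352 IH) (path_edge (F_10336 IH) (path_edge (F_1550 IH) (path_nil _))))
theorem F_10356 (IH : D.IHyp) : ed Gen.i V_794 = V_2549 :=
  flipE D.rels D.S (hinv Gen.i) (F_10355 IH)
theorem F_10357 (IH : D.IHyp) : ed Gen.d V_2549 = V_2550 :=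
  rfl
theorem F_10358 (IH : D.IHyp) : ed Gen.d V_2550 = V_2549 :=
  flipE D.rels D.S (hinv Gen.d) (F_10357 IH)
theorem F_10360 (IH : D.IHyp) : ed Gen.i V_2550 = V_2174 :=
  gap_rel RW_6 (path_edge (F_10357 IH) (path_edge (F_10356 IH) (path_edge (F_8694 IH) (path_nil _))))
theorem F_10361 (IH : D.IHyp) : ed Gen.i V_2174 = V_2550 :=
  flipE D.rels D.S (hinv Gen.i) (F_10360 IH)
theorem F_10362 (IH : D.IHyp) : ed Gen.h V_2174 = V_2551 :=
  rfl
theorem F_10363 (IH : D.IHyp) : ed Gen.h V_2551 = V_2174 :=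
  flipE D.rels D.S (hinv Gen.h) (F_10362 IH)
theorem F_10364 (IH : D.IHyp) : ed Gen.f V_2551 = V_2551 :=
  gap_rel RW_10 (path_edge (F_10362 IH) (path_edge (F_8693 IH) (path_edge (F_10363 IH) (path_nil _))))
theorem F_10365 (IH : D.IHyp) : ed Gen.d V_2551 = V_2551 :=
  gap_rel RW_12 (path_edge (F_10362 IH) (path_edge (F_8695 IH) (path_edge (F_10339 IH) (path_edge (F_8694 IH) (path_edge (F_10363 IH) (path_nil _))))))
theorem F_10366 (IH : D.IHyp) : ed Gen.e V_2551 = V_2552 :=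
  rfl
theorem F_10367 (IH : D.IHyp) : ed Gen.e V_2552 = V_2551 :=
  flipE D.rels D.S (hinv Gen.e) (F_10366 IH)
theorem F_10368 (IH : D.IHyp) : ed Gen.d V_2552 = V_2553 :=
  rfl
theorem F_10369 (IH : D.IHyp) : ed Gen.d V_2553 = V_2552 :=
  flipE D.rels D.S (hinv Gen.d) (F_10368 IH)
theorem F_10371 (IH : D.IHyp) : ed Gen.b V_2553 = V_2554 :=
  rfl
theorem F_10372 (IH : D.IHyp) : ed Gen.b V_2554 = V_2553 :=
  flipE D.rels D.S (hinv Gen.b) (F_10371 IH)
theorem F_10374 (IH : D.IHyp) : ed Gen.c V_2554 = V_2555 :=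
  rfl
theorem F_10375 (IH : D.IHyp) : ed Gen.c V_2555 = V_2554 :=
  flipE D.rels D.S (hinv Gen.c) (F_10374 IH)
theorem F_10377 (IH : D.IHyp) : ed Gen.d V_2555 = V_2556 :=
  rfl
theorem F_10378 (IH : D.IHyp) : ed Gen.d V_2556 = V_2555 :=
  flipE D.rels D.S (hinv Gen.d) (F_10377 IH)
theorem F_10379 (IH : D.IHyp) : ed Gen.i V_2556 = V_2557 :=
  rfl
theorem F_10380 (IH : D.IHyp) : ed Gen.i V_2557 = V_2556 :=
  flipE D.rels D.S (hinv Gen.i) (F_10379 IH)
theorem F_10381 (IH : D.IHyp) : ed Gen.h V_2557 = V_2558 :=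
  rfl
theorem F_10382 (IH : D.IHyp) : ed Gen.h V_2558 = V_2557 :=
  flipE D.rels D.S (hinv Gen.h) (F_10381 IH)
theorem F_10383 (IH : D.IHyp) : ed Gen.d V_2558 = V_2559 :=
  rfl
theorem F_10384 (IH : D.IHyp) : ed Gen.d V_2559 = V_2558 :=
  flipE D.rels D.S (hinv Gen.d) (F_10383 IH)
theorem F_10385 (IH : D.IHyp) : ed Gen.f V_2559 = V_2560 :=
  rfl
theorem F_10386 (IH : D.IHyp) : ed Gen.f V_2560 = V_2559 :=
  flipE D.rels D.S (hinv Gen.f) (F_10385 IH)
theorem F_10387 (IH : D.IHyp) : ed Gen.e V_2560 = V_2561 :=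
  rfl
theorem F_10388 (IH : D.IHyp) : ed Gen.e V_2561 = V_2560 :=
  flipE D.rels D.S (hinv Gen.e) (F_10387 IH)
theorem F_10389 (IH : D.IHyp) : ed Gen.d V_2561 = V_2562 :=
  rfl
theorem F_10390 (IH : D.IHyp) : ed Gen.d V_2562 = V_2561 :=
  flipE D.rels D.S (hinv Gen.d) (F_10389 IH)
theorem F_10391 (IH : D.IHyp) : ed Gen.b V_2562 = V_2563 :=
  rfl
theorem F_10392 (IH : D.IHyp) : ed Gen.b V_2563 = V_2562 :=
  flipE D.rels D.S (hinv Gen.b) (F_10391 IH)
theorem F_10393 (IH : D.IHyp) : ed Gen.c V_2563 = V_2564 :=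
  rfl
theorem F_10394 (IH : D.IHyp) : ed Gen.c V_2564 = V_2563 :=
  flipE D.rels D.S (hinv Gen.c) (F_10393 IH)
theorem F_10395 (IH : D.IHyp) : ed Gen.d V_2564 = V_2565 :=
  rfl
theorem F_10396 (IH : D.IHyp) : ed Gen.d V_2565 = V_2564 :=
  flipE D.rels D.S (hinv Gen.d) (F_10395 IH)
theorem F_10397 (IH : D.IHyp) : ed Gen.i V_2565 = V_2566 :=
  rfl
theorem F_10398 (IH : D.IHyp) : ed Gen.i V_2566 = V_2565 :=
  flipE D.rels D.S (hinv Gen.i) (F_10397 IH)
theorem F_10399 (IH : D.IHyp) : ed Gen.h V_2566 = V_2567 :=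
  rfl
theorem F_10400 (IH : D.IHyp) : ed Gen.h V_2567 = V_2566 :=
  flipE D.rels D.S (hinv Gen.h) (F_10399 IH)
theorem F_10401 (IH : D.IHyp) : ed Gen.d V_2567 = V_2568 :=
  rfl
theorem F_10402 (IH : D.IHyp) : ed Gen.d V_2568 = V_2567 :=
  flipE D.rels D.S (hinv Gen.d) (F_10401 IH)
theorem F_10403 (IH : D.IHyp) : ed Gen.f V_2568 = V_2569 :=
  rfl
theorem F_10404 (IH : D.IHyp) : ed Gen.f V_2569 = V_2568 :=
  flipE D.rels D.S (hinv Gen.f) (F_10403 IH)
theorem F_10405 (IH : D.IHyp) : ed Gen.e V_2569 = V_2570 :=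
  rfl
theorem F_10406 (IH : D.IHyp) : ed Gen.e V_2570 = V_2569 :=
  flipE D.rels D.S (hinv Gen.e) (F_10405 IH)
theorem F_10407 (IH : D.IHyp) : ed Gen.d V_2570 = V_2571 :=
  rfl
theorem F_10408 (IH : D.IHyp) : ed Gen.d V_2571 = V_2570 :=
  flipE D.rels D.S (hinv Gen.d) (F_10407 IH)
theorem F_10409 (IH : D.IHyp) : ed Gen.b V_2571 = V_2572 :=
  rfl
theorem F_10410 (IH : D.IHyp) : ed Gen.b V_2572 = V_2571 :=
  flipE D.rels D.S (hinv Gen.b) (F_10409 IH)
theorem F_10411 (IH : D.IHyp) : ed Gen.c V_2572 = V_2573 :=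
  rfl
theorem F_10412 (IH : D.IHyp) : ed Gen.c V_2573 = V_2572 :=
  flipE D.rels D.S (hinv Gen.c) (F_10411 IH)
theorem F_10413 (IH : D.IHyp) : ed Gen.d V_2573 = V_2574 :=
  rfl
theorem F_10414 (IH : D.IHyp) : ed Gen.d V_2574 = V_2573 :=
  flipE D.rels D.S (hinv Gen.d) (F_10413 IH)
theorem F_10415 (IH : D.IHyp) : ed Gen.i V_2574 = V_2575 :=
  rfl
theorem F_10416 (IH : D.IHyp) : ed Gen.i V_2575 = V_2574 :=
  flipE D.rels D.S (hinv Gen.i) (F_10415 IH)
theorem F_10417 (IH : D.IHyp) : ed Gen.h V_2575 = V_2576 :=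
  rfl
theorem F_10418 (IH : D.IHyp) : ed Gen.h V_2576 = V_2575 :=
  flipE D.rels D.S (hinv Gen.h) (F_10417 IH)
theorem F_10419 (IH : D.IHyp) : ed Gen.d V_2576 = V_2577 :=
  rfl
theorem F_10420 (IH : D.IHyp) : ed Gen.d V_2577 = V_2576 :=
  flipE D.rels D.S (hinv Gen.d) (F_10419 IH)
theorem F_10421 (IH : D.IHyp) : ed Gen.f V_2577 = V_2578 :=
  rfl
theorem F_10422 (IH : D.IHyp) : ed Gen.f V_2578 = V_2577 :=
  flipE D.rels D.S (hinv Gen.f) (F_10421 IH)
theorem F_10423 (IH : D.IHyp) : ed Gen.e V_2578 = V_2579 :=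
  rfl
theorem F_10424 (IH : D.IHyp) : ed Gen.e V_2579 = V_2578 :=
  flipE D.rels D.S (hinv Gen.e) (F_10423 IH)
theorem F_10425 (IH : D.IHyp) : ed Gen.d V_2579 = V_2580 :=
  rfl
theorem F_10426 (IH : D.IHyp) : ed Gen.d V_2580 = V_2579 :=
  flipE D.rels D.S (hinv Gen.d) (F_10425 IH)
theorem F_10427 (IH : D.IHyp) : ed Gen.b V_2580 = V_2581 :=
  rfl
theorem F_10428 (IH : D.IHyp) : ed Gen.b V_2581 = V_2580 :=
  flipE D.rels D.S (hinv Gen.b) (F_10427 IH)
theorem F_10429 (IH : D.IHyp) : ed Gen.c V_2581 = V_2582 :=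
  rfl
theorem F_10430 (IH : D.IHyp) : ed Gen.c V_2582 = V_2581 :=
  flipE D.rels D.S (hinv Gen.c) (F_10429 IH)
theorem F_10431 (IH : D.IHyp) : ed Gen.d V_2582 = V_2583 :=
  rfl
theorem F_10432 (IH : D.IHyp) : ed Gen.d V_2583 = V_2582 :=
  flipE D.rels D.S (hinv Gen.d) (F_10431 IH)
theorem F_10433 (IH : D.IHyp) : ed Gen.i V_2583 = V_2584 :=
  rfl
theorem F_10434 (IH : D.IHyp) : ed Gen.i V_2584 = V_2583 :=
  flipE D.rels D.S (hinv Gen.i) (F_10433 IH)
theorem F_10435 (IH : D.IHyp) : ed Gen.h V_2584 = V_2585 :=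
  rfl
theorem F_10436 (IH : D.IHyp) : ed Gen.h V_2585 = V_2584 :=
  flipE D.rels D.S (hinv Gen.h) (F_10435 IH)
theorem F_10437 (IH : D.IHyp) : ed Gen.d V_2585 = V_2586 :=
  rfl
theorem F_10438 (IH : D.IHyp) : ed Gen.d V_2586 = V_2585 :=
  flipE D.rels D.S (hinv Gen.d) (F_10437 IH)
theorem F_10439 (IH : D.IHyp) : ed Gen.f V_2586 = V_2587 :=
  rfl
theorem F_10440 (IH : D.IHyp) : ed Gen.f V_2587 = V_2586 :=
  flipE D.rels D.S (hinv Gen.f) (F_10439 IH)
theorem F_10441 (IH : D.IHyp) : ed Gen.e V_2587 = V_2588 :=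
  rfl
theorem F_10442 (IH : D.IHyp) : ed Gen.e V_2588 = V_2587 :=
  flipE D.rels D.S (hinv Gen.e) (F_10441 IH)
theorem F_10443 (IH : D.IHyp) : ed Gen.d V_2588 = V_2589 :=
  rfl
theorem F_10444 (IH : D.IHyp) : ed Gen.d V_2589 = V_2588 :=
  flipE D.rels D.S (hinv Gen.d) (F_10443 IH)
theorem F_10445 (IH : D.IHyp) : ed Gen.b V_2589 = V_2590 :=
  rfl
theorem F_10446 (IH : D.IHyp) : ed Gen.b V_2590 = V_2589 :=
  flipE D.rels D.S (hinv Gen.b) (F_10445 IH)
theorem F_10447 (IH : D.IHyp) : ed Gen.c V_2590 = V_2591 :=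
  rfl
theorem F_10448 (IH : D.IHyp) : ed Gen.c V_2591 = V_2590 :=
  flipE D.rels D.S (hinv Gen.c) (F_10447 IH)
theorem F_10449 (IH : D.IHyp) : ed Gen.d V_2591 = V_2592 :=
  rfl
theorem F_10450 (IH : D.IHyp) : ed Gen.d V_2592 = V_2591 :=
  flipE D.rels D.S (hinv Gen.d) (F_10449 IH)
theorem F_10451 (IH : D.IHyp) : ed Gen.i V_2592 = V_2593 :=
  rfl
theorem F_10452 (IH : D.IHyp) : ed Gen.i V_2593 = V_2592 :=
  flipE D.rels D.S (hinv Gen.i) (F_10451 IH)
theorem F_10453 (IH : D.IHyp) : ed Gen.h V_2593 = V_2594 :=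
  rfl
theorem F_10454 (IH : D.IHyp) : ed Gen.h V_2594 = V_2593 :=
  flipE D.rels D.S (hinv Gen.h) (F_10453 IH)
theorem F_10455 (IH : D.IHyp) : ed Gen.d V_2594 = V_2595 :=
  rfl
theorem F_10456 (IH : D.IHyp) : ed Gen.d V_2595 = V_2594 :=
  flipE D.rels D.S (hinv Gen.d) (F_10455 IH)
theorem F_10457 (IH : D.IHyp) : ed Gen.f V_2595 = V_2596 :=
  rfl
theorem F_10458 (IH : D.IHyp) : ed Gen.f V_2596 = V_2595 :=
  flipE D.rels D.S (hinv Gen.f) (F_10457 IH)
theorem F_10459 (IH : D.IHyp) : ed Gen.e V_2596 = V_2597 :=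
  rfl
theorem F_10460 (IH : D.IHyp) : ed Gen.e V_2597 = V_2596 :=
  flipE D.rels D.S (hinv Gen.e) (F_10459 IH)
theorem F_10461 (IH : D.IHyp) : ed Gen.d V_2597 = V_2598 :=
  rfl
theorem F_10462 (IH : D.IHyp) : ed Gen.d V_2598 = V_2597 :=
  flipE D.rels D.S (hinv Gen.d) (F_10461 IH)
theorem F_10463 (IH : D.IHyp) : ed Gen.b V_2598 = V_2599 :=
  rfl
theorem F_10464 (IH : D.IHyp) : ed Gen.b V_2599 = V_2598 :=
  flipE D.rels D.S (hinv Gen.b) (F_10463 IH)
theorem F_10465 (IH : D.IHyp) : ed Gen.c V_2599 = V_2600 :=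
  rfl
theorem F_10466 (IH : D.IHyp) : ed Gen.c V_2600 = V_2599 :=
  flipE D.rels D.S (hinv Gen.c) (F_10465 IH)
theorem F_10467 (IH : D.IHyp) : ed Gen.d V_2600 = V_2601 :=
  rfl
theorem F_10468 (IH : D.IHyp) : ed Gen.d V_2601 = V_2600 :=
  flipE D.rels D.S (hinv Gen.d) (F_10467 IH)
theorem F_10469 (IH : D.IHyp) : ed Gen.i V_2539 = V_2601 :=
  gap_rel RW_37 (path_edge (F_10079 IH) (path_edge (F_7967 IH) (path_edge (F_7959 IH) (path_edge (F_937 IH) (path_edge (F_967 IH) (path_edge (F_9955 IH) (path_edge (F_9963 IH) (path_edge (F_6005 IH) (path_edge (F_6118 IH) (path_edge (F_6114 IH) (path_edge (F_1146 IH) (path_edge (F_1226 IH) (path_edge (F_6071 IH) (path_edge (F_5136 IH) (path_edge (F_988 IH) (path_edge (F_9147 IH) (path_edge (F_726 IH) (path_edge (F_10326 IH) (path_edge (F_2213 IH) (path_edge (F_1908 IH) (path_edge (F_1913 IH) (path_edge (F_1910 IH) (path_edge (F_1507 IH) (path_edge (F_1925 IH)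 (path_edge (F_10313 IH) (path_edge (F_10306 IH) (path_edge (F_10316 IH) (path_edge (F_10331 IH) (path_edge (F_10334 IH) (path_edge (F_1478 IH) (path_edge (F_1476 IH) (path_edge (F_10335 IH) (path_edge (F_10332 IH) (path_edge (F_10353 IH) (path_edge (F_10358 IH) (path_edge (F_10361 IH) (path_edge (F_10363 IH) (path_edge (F_10365 IH) (path_edge (F_10364 IH) (path_edge (F_10367 IH) (path_edge (F_10369 IH) (path_edge (F_10372 IH) (path_edge (F_10375 IH) (path_edge (F_10378 IH) (path_edge (F_10380 IH) (path_edge (F_10382 IH) (path_edge (F_10384 IH) (path_edge (F_10386 IH) (path_edge (F_10388 IH) (path_edge (F_10390 IH) (path_edge (F_10392 IH) (path_edge (F_10394 IH) (path_edge (F_10396 IH) (path_edge (F_10398 IH) (path_edge (F_10400 IH) (path_edge (F_10402 IH) (path_edge (F_10404 IH) (path_edge (F_10406 IH) (path_edge (F_10408 IH) (path_edge (F_10410 IH) (path_edge (F_10412 IH) (path_edge (F_10414 IH)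 (path_edge (F_10416 IH) (path_edge (F_10418 IH) (path_edge (F_10420 IH) (path_edge (F_10422 IH) (path_edge (F_10424 IH) (path_edge (F_10426 IH) (path_edge (F_10428 IH) (path_edge (F_10430 IH) (path_edge (F_10432 IH) (path_edge (F_10434 IH) (path_edge (F_10436 IH) (path_edge (F_10438 IH) (path_edge (F_10440 IH) (path_edge (F_10442 IH) (path_edge (F_10444 IH) (path_edge (F_10446 IH) (path_edge (F_10448 IH) (path_edge (F_10450 IH) (path_edge (F_10452 IH) (path_edge (F_10454 IH) (path_edge (F_10456 IH) (path_edge (F_10458 IH) (path_edge (F_10460 IH) (path_edge (F_10462 IH) (path_edge (F_10464 IH) (path_edge (F_10466 IH) (path_edge (F_10468 IH) (path_nil _))))))))))))))))))))))))))))))))))))))))))))))))))))))))))))))))))))))))))))))))))))))))))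
theorem F_10471 (IH : D.IHyp) : ed Gen.f V_2601 = V_2545 :=
  gap_rel RW_19 (path_edge (F_10469 IH) (path_edge (F_10085 IH) (path_edge (F_10296 IH) (path_nil _))))
theorem F_10472 (IH : D.IHyp) : ed Gen.f V_2545 = V_2601 :=
  flipE D.rels D.S (hinv Gen.f) (F_10471 IH)
theorem F_10473 (IH : D.IHyp) : ed Gen.f V_2600 = V_827 :=
  gap_rel RW_5 (path_edge (F_10468 IH) (path_edge (F_10472 IH) (path_edge (F_10297 IH) (path_nil _))))
theorem F_10474 (IH : D.IHyp) : ed Gen.f V_827 = V_2600 :=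
  flipE D.rels D.S (hinv Gen.f) (F_10473 IH)
theorem F_10475 (IH : D.IHyp) : ed Gen.f V_2599 = V_827 :=
  gap_rel RW_1 (path_edge (F_10466 IH) (path_edge (F_10474 IH) (path_edge (F_1727 IH) (path_nil _))))
theorem F_10476 (IH : D.IHyp) : ed Gen.f V_827 = V_2599 :=
  flipE D.rels D.S (hinv Gen.f) (F_10475 IH)
theorem F_10477 (IH : D.IHyp) : V_2600 = V_2599 :=
  edge_fun (F_10474 IH) (F_10476 IH)
theorem F_10478 (IH : D.IHyp) : ed Gen.c V_2599 = V_2599 :=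
  edge_congr (F_10466 IH) (F_10477 IH)
theorem F_10479 (IH : D.IHyp) : ed Gen.d V_2599 = V_2601 :=
  edge_congr (F_10467 IH) (F_10477 IH)
theorem F_10481 (IH : D.IHyp) : ed Gen.f V_2599 = V_827 :=
  edge_congr (F_10473 IH) (F_10477 IH)
theorem F_10482 (IH : D.IHyp) : ed Gen.f V_827 = V_2599 :=
  flipE D.rels D.S (hinv Gen.f) (F_10481 IH)
theorem F_10483 (IH : D.IHyp) : ed Gen.b V_2601 = V_2597 :=
  gap_rel RW_4 (path_edge (F_10479 IH) (path_edge (F_10463 IH) (path_edge (F_10461 IH) (path_nil _))))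
theorem F_10485 (IH : D.IHyp) : ed Gen.i V_2597 = V_2114 :=
  gap_rel RW_36 (path_edge (F_10483 IH) (path_edge (F_10469 IH) (path_edge (F_10081 IH) (path_nil _))))
theorem F_10486 (IH : D.IHyp) : ed Gen.i V_2114 = V_2597 :=
  flipE D.rels D.S (hinv Gen.i) (F_10485 IH)
theorem F_10487 (IH : D.IHyp) : ed Gen.i V_2598 = V_2115 :=
  gap_rel RW_6 (path_edge (F_10461 IH) (path_edge (F_10486 IH) (path_edge (F_8504 IH) (path_nil _))))
theorem F_10488 (IH : D.IHyp) : ed Gen.i V_2115 = V_2598 :=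
  flipE D.rels D.S (hinv Gen.i) (F_10487 IH)
theorem F_10489 (IH : D.IHyp) : ed Gen.c V_2598 = V_2602 :=
  rfl
theorem F_10490 (IH : D.IHyp) : ed Gen.c V_2602 = V_2598 :=
  flipE D.rels D.S (hinv Gen.c) (F_10489 IH)
theorem F_10491 (IH : D.IHyp) : ed Gen.b V_2602 = V_2602 :=
  gap_rel RW_24 (path_edge (F_10489 IH) (path_edge (F_10464 IH) (path_edge (F_10478 IH) (path_edge (F_10463 IH) (path_edge (F_10490 IH) (path_nil _))))))
theorem F_10492 (IH : D.IHyp) : ed Gen.d V_2602 = V_2603 :=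
  rfl
theorem F_10493 (IH : D.IHyp) : ed Gen.d V_2603 = V_2602 :=
  flipE D.rels D.S (hinv Gen.d) (F_10492 IH)
theorem F_10495 (IH : D.IHyp) : ed Gen.e V_2603 = V_2604 :=
  rfl
theorem F_10498 (IH : D.IHyp) : ed Gen.f V_2604 = V_2605 :=
  rfl
theorem F_10501 (IH : D.IHyp) : ed Gen.d V_2605 = V_2606 :=
  rfl
theorem F_10504 (IH : D.IHyp) : ed Gen.h V_2606 = V_2607 :=
  rfl
theorem F_10507 (IH : D.IHyp) : ed Gen.i V_2607 = V_2608 :=
  rfl
theorem F_10510 (IH : D.IHyp) : ed Gen.d V_2608 = V_2609 :=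
  rfl
theorem F_10513 (IH : D.IHyp) : ed Gen.c V_2609 = V_2610 :=
  rfl
theorem F_10515 (IH : D.IHyp) : ed Gen.b V_2610 = V_2611 :=
  rfl
theorem F_10518 (IH : D.IHyp) : ed Gen.d V_2611 = V_2612 :=
  rfl
theorem F_10520 (IH : D.IHyp) : ed Gen.e V_2612 = V_2613 :=
  rfl
theorem F_10522 (IH : D.IHyp) : ed Gen.f V_2613 = V_2614 :=
  rfl
theorem F_10524 (IH : D.IHyp) : ed Gen.d V_2614 = V_2615 :=
  rfl
theorem F_10526 (IH : D.IHyp) : ed Gen.h V_2615 = V_2616 :=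
  rfl
theorem F_10528 (IH : D.IHyp) : ed Gen.i V_2616 = V_2617 :=
  rfl
theorem F_10530 (IH : D.IHyp) : ed Gen.d V_2617 = V_2618 :=
  rfl
theorem F_10532 (IH : D.IHyp) : ed Gen.c V_2618 = V_2619 :=
  rfl
theorem F_10534 (IH : D.IHyp) : ed Gen.b V_2619 = V_2620 :=
  rfl
theorem F_10536 (IH : D.IHyp) : ed Gen.d V_2620 = V_2621 :=
  rfl
theorem F_10538 (IH : D.IHyp) : ed Gen.e V_2621 = V_2622 :=
  rfl
theorem F_10540 (IH : D.IHyp) : ed Gen.f V_2622 = V_2623 :=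
  rfl
theorem F_10542 (IH : D.IHyp) : ed Gen.d V_2623 = V_2624 :=
  rfl
theorem F_10544 (IH : D.IHyp) : ed Gen.h V_2624 = V_2625 :=
  rfl
theorem F_10546 (IH : D.IHyp) : ed Gen.i V_2625 = V_2626 :=
  rfl
theorem F_10548 (IH : D.IHyp) : ed Gen.d V_2626 = V_2627 :=
  rfl
theorem F_10550 (IH : D.IHyp) : ed Gen.c V_2627 = V_2628 :=
  rfl
theorem F_10552 (IH : D.IHyp) : ed Gen.b V_2628 = V_2629 :=
  rfl
theorem F_10554 (IH : D.IHyp) : ed Gen.d V_2629 = V_2630 :=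
  rfl
theorem F_10556 (IH : D.IHyp) : ed Gen.e V_2630 = V_2631 :=
  rfl
theorem F_10558 (IH : D.IHyp) : ed Gen.f V_2631 = V_2632 :=
  rfl
theorem F_10560 (IH : D.IHyp) : ed Gen.d V_2632 = V_2633 :=
  rfl
theorem F_10561 (IH : D.IHyp) : ed Gen.d V_2633 = V_2632 :=
  flipE D.rels D.S (hinv Gen.d) (F_10560 IH)
theorem F_10562 (IH : D.IHyp) : ed Gen.h V_2633 = V_2634 :=
  rfl
theorem F_10563 (IH : D.IHyp) : ed Gen.h V_2634 = V_2633 :=
  flipE D.rels D.S (hinv Gen.h) (F_10562 IH)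
theorem F_10564 (IH : D.IHyp) : ed Gen.i V_2634 = V_2635 :=
  rfl
theorem F_10565 (IH : D.IHyp) : ed Gen.i V_2635 = V_2634 :=
  flipE D.rels D.S (hinv Gen.i) (F_10564 IH)
theorem F_10566 (IH : D.IHyp) : ed Gen.d V_2635 = V_2636 :=
  rfl
theorem F_10567 (IH : D.IHyp) : ed Gen.d V_2636 = V_2635 :=
  flipE D.rels D.S (hinv Gen.d) (F_10566 IH)
theorem F_10568 (IH : D.IHyp) : ed Gen.c V_2636 = V_2637 :=
  rfl
theorem F_10569 (IH : D.IHyp) : ed Gen.c V_2637 = V_2636 :=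
  flipE D.rels D.S (hinv Gen.c) (F_10568 IH)
theorem F_10570 (IH : D.IHyp) : ed Gen.b V_2637 = V_2638 :=
  rfl
theorem F_10571 (IH : D.IHyp) : ed Gen.b V_2638 = V_2637 :=
  flipE D.rels D.S (hinv Gen.b) (F_10570 IH)
theorem F_10572 (IH : D.IHyp) : ed Gen.d V_2638 = V_2639 :=
  rfl
theorem F_10573 (IH : D.IHyp) : ed Gen.d V_2639 = V_2638 :=
  flipE D.rels D.S (hinv Gen.d) (F_10572 IH)
theorem F_10574 (IH : D.IHyp) : ed Gen.e V_2639 = V_2640 :=
  rfl
theorem F_10575 (IH : D.IHyp) : ed Gen.e V_2640 = V_2639 :=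
  flipE D.rels D.S (hinv Gen.e) (F_10574 IH)
theorem F_10576 (IH : D.IHyp) : ed Gen.f V_2640 = V_2641 :=
  rfl
theorem F_10577 (IH : D.IHyp) : ed Gen.f V_2641 = V_2640 :=
  flipE D.rels D.S (hinv Gen.f) (F_10576 IH)
theorem F_10578 (IH : D.IHyp) : ed Gen.d V_2641 = V_2642 :=
  rfl
theorem F_10579 (IH : D.IHyp) : ed Gen.d V_2642 = V_2641 :=
  flipE D.rels D.S (hinv Gen.d) (F_10578 IH)
theorem F_10580 (IH : D.IHyp) : ed Gen.h V_2642 = V_2643 :=
  rfl
theorem F_10581 (IH : D.IHyp) : ed Gen.h V_2643 = V_2642 :=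
  flipE D.rels D.S (hinv Gen.h) (F_10580 IH)
theorem F_10582 (IH : D.IHyp) : ed Gen.i V_2643 = V_2644 :=
  rfl
theorem F_10583 (IH : D.IHyp) : ed Gen.i V_2644 = V_2643 :=
  flipE D.rels D.S (hinv Gen.i) (F_10582 IH)
theorem F_10584 (IH : D.IHyp) : ed Gen.d V_2644 = V_2645 :=
  rfl
theorem F_10585 (IH : D.IHyp) : ed Gen.d V_2645 = V_2644 :=
  flipE D.rels D.S (hinv Gen.d) (F_10584 IH)
theorem F_10586 (IH : D.IHyp) : ed Gen.c V_2645 = V_2646 :=
  rfl
theorem F_10587 (IH : D.IHyp) : ed Gen.c V_2646 = V_2645 :=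
  flipE D.rels D.S (hinv Gen.c) (F_10586 IH)
theorem F_10588 (IH : D.IHyp) : ed Gen.b V_2646 = V_2647 :=
  rfl
theorem F_10589 (IH : D.IHyp) : ed Gen.b V_2647 = V_2646 :=
  flipE D.rels D.S (hinv Gen.b) (F_10588 IH)
theorem F_10590 (IH : D.IHyp) : ed Gen.d V_2647 = V_2648 :=
  rfl
theorem F_10591 (IH : D.IHyp) : ed Gen.d V_2648 = V_2647 :=
  flipE D.rels D.S (hinv Gen.d) (F_10590 IH)
theorem F_10592 (IH : D.IHyp) : ed Gen.e V_2648 = V_2649 :=
  rfl
theorem F_10593 (IH : D.IHyp) : ed Gen.e V_2649 = V_2648 :=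
  flipE D.rels D.S (hinv Gen.e) (F_10592 IH)
theorem F_10594 (IH : D.IHyp) : ed Gen.f V_2649 = V_2650 :=
  rfl
theorem F_10595 (IH : D.IHyp) : ed Gen.f V_2650 = V_2649 :=
  flipE D.rels D.S (hinv Gen.f) (F_10594 IH)
theorem F_10596 (IH : D.IHyp) : ed Gen.d V_2650 = V_2651 :=
  rfl
theorem F_10597 (IH : D.IHyp) : ed Gen.d V_2651 = V_2650 :=
  flipE D.rels D.S (hinv Gen.d) (F_10596 IH)
theorem F_10598 (IH : D.IHyp) : ed Gen.h V_2651 = V_2652 :=
  rfl
theorem F_10599 (IH : D.IHyp) : ed Gen.h V_2652 = V_2651 :=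
  flipE D.rels D.S (hinv Gen.h) (F_10598 IH)
theorem F_10600 (IH : D.IHyp) : ed Gen.i V_2652 = V_2653 :=
  rfl
theorem F_10601 (IH : D.IHyp) : ed Gen.i V_2653 = V_2652 :=
  flipE D.rels D.S (hinv Gen.i) (F_10600 IH)
theorem F_10602 (IH : D.IHyp) : ed Gen.d V_2653 = V_2654 :=
  rfl
theorem F_10603 (IH : D.IHyp) : ed Gen.d V_2654 = V_2653 :=
  flipE D.rels D.S (hinv Gen.d) (F_10602 IH)
theorem F_10604 (IH : D.IHyp) : ed Gen.c V_2654 = (D.P 216) :=
  gap_rel RW_49 (path_edge (F_10602 IH) (path_edge (F_10600 IH) (path_edge (F_10598 IH) (path_edge (F_10596 IH) (path_edge (F_10594 IH) (path_edge (F_10592 IH) (path_edge (F_10590 IH) (path_edge (F_10588 IH) (path_edge (F_10586 IH) (path_edge (F_10584 IH) (path_edge (F_10582 IH) (path_edge (F_10580 IH) (path_edge (F_10578 IH) (path_edge (F_10576 IH) (path_edge (F_10574 IH) (path_edge (F_10572 IH) (path_edge (F_10570 IH) (path_edge (F_10568 IH) (path_edge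 (F_10566 IH) (path_edge (F_10564 IH) (path_edge (F_10562 IH) (path_edge (F_10560 IH) (path_edge (F_10558 IH) (path_edge (F_10556 IH) (path_edge (F_10554 IH) (path_edge (F_10552 IH) (path_edge (F_10550 IH) (path_edge (F_10548 IH) (path_edge (F_10546 IH) (path_edge (F_10544 IH) (path_edge (F_10542 IH) (path_edge (F_10540 IH) (path_edge (F_10538 IH) (path_edge (F_10536 IH) (path_edge (F_10534 IH) (path_edge (F_10532 IH) (path_edge (F_10530 IH) (path_edge (F_10528 IH) (path_edge (F_10526 IH) (path_edge (F_10524 IH) (path_edge (F_10522 IH) (path_edge (F_10520 IH) (path_edge (F_10518 IH) (path_edge (F_10515 IH) (path_edge (F_10513 IH) (path_edge (F_10510 IH) (path_edge (F_10507 IH) (path_edge (F_10504 IH) (path_edge (F_10501 IH) (path_edge (F_10498 IH) (path_edge (F_10495 IH) (path_edge (F_10492 IH) (path_edge (F_10491 IH) (path_edge (F_10489 IH) (path_edge (F_10461 IH) (path_edge (F_10486 IH) (path_edge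 (F_8499 IH) (path_edge (F_7983 IH) (path_edge (F_9958 IH) (path_edge (F_9957 IH) (path_edge (F_9956 IH) (path_edge (F_9954 IH) (path_edge (F_920 IH) (path_edge (F_297 IH) (path_edge (F_825 IH) (path_edge (F_719 IH) (path_edge (F_123 IH) (path_edge (F_214 IH) (path_edge (F_213 IH) (path_edge (F_751 IH) (path_edge (F_1402 IH) (path_edge (F_2650 IH) (path_edge (F_828 IH) (path_edge (F_829 IH) (path_edge (F_6026 IH) (path_edge (F_132 IH) (path_edge (F_130 IH) (path_edge (F_6194 IH) (path_edge (F_328 IH) (path_edge (F_834 IH) (path_edge (F_835 IH) (path_edge (F_833 IH) (path_edge (F_6092 IH) (path_edge (F_6187 IH) (path_edge (F_839 IH) (path_edge (F_837 IH) (path_edge (F_838 IH) (path_edge (F_795 IH) (path_edge (F_840 IH) (path_nil _))))))))))))))))))))))))))))))))))))))))))))))))))))))))))))))))))))))))))))))))))))))))))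
theorem F_10605 (IH : D.IHyp) : ed Gen.c (D.P 216) = V_2654 :=
  flipE D.rels D.S (hinv Gen.c) (F_10604 IH)
theorem F_10606 (IH : D.IHyp) : ed Gen.f V_2654 = V_2654 :=
  gap_rel RW_1 (path_edge (F_10605 IH) (path_edge (F_5804 IH) (path_edge (F_10604 IH) (path_nil _))))
theorem F_10607 (IH : D.IHyp) : ed Gen.h (D.P 217) = V_2654 :=
  gap_rel RW_32 (path_edge (F_6127 IH) (path_edge (F_6187 IH) (path_edge (F_10604 IH) (path_nil _))))
theorem F_10609 (IH : D.IHyp) : ed Gen.i V_2654 = V_2654 :=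
  gap_rel RW_2 (path_edge (F_10605 IH) (path_edge (F_794 IH) (path_edge (F_10604 IH) (path_nil _))))
theorem F_10611 (IH : D.IHyp) : ed Gen.d V_2652 = V_2654 :=
  gap_rel RW_23 (path_edge (F_10601 IH) (path_edge (F_10603 IH) (path_edge (F_10609 IH) (path_nil _))))
theorem F_10612 (IH : D.IHyp) : ed Gen.d V_2654 = V_2652 :=
  flipE D.rels D.S (hinv Gen.d) (F_10611 IH)
theorem F_10613 (IH : D.IHyp) : V_2653 = V_2652 :=
  edge_fun (F_10603 IH) (F_10612 IH)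
theorem F_10614 (IH : D.IHyp) : ed Gen.d V_2652 = V_2654 :=
  edge_congr (F_10602 IH) (F_10613 IH)
theorem F_10615 (IH : D.IHyp) : ed Gen.d V_2654 = V_2652 :=
  flipE D.rels D.S (hinv Gen.d) (F_10614 IH)
theorem F_10621 (IH : D.IHyp) : ed Gen.h V_2650 = (D.P 217) :=
  gap_rel RW_33 (path_edge (F_10597 IH) (path_edge (F_10599 IH) (path_edge (F_10615 IH) (path_edge (F_10607 IH) (path_edge (F_1244 IH) (path_nil _))))))
theorem F_10622 (IH : D.IHyp) : ed Gen.h (D.P 217) = V_2650 :=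
  flipE D.rels D.S (hinv Gen.h) (F_10621 IH)
theorem F_10623 (IH : D.IHyp) : V_2654 = V_2650 :=
  edge_fun (F_10607 IH) (F_10622 IH)
theorem F_10624 (IH : D.IHyp) : ed Gen.c V_2650 = (D.P 216) :=
  edge_congr (F_10604 IH) (F_10623 IH)
theorem F_10629 (IH : D.IHyp) : ed Gen.f V_2654 = V_2650 :=
  (F_10606 IH).trans (F_10623 IH)
theorem F_10630 (IH : D.IHyp) : ed Gen.f V_2650 = V_2650 :=
  edge_congr (F_10629 IH) (F_10623 IH)
theorem F_10631 (IH : D.IHyp) : V_2649 = V_2650 :=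
  edge_fun (F_10595 IH) (F_10630 IH)
theorem F_10636 (IH : D.IHyp) : ed Gen.i V_2654 = V_2650 :=
  (F_10609 IH).trans (F_10623 IH)
theorem F_10637 (IH : D.IHyp) : ed Gen.i V_2650 = V_2650 :=
  edge_congr (F_10636 IH) (F_10623 IH)
theorem F_10647 (IH : D.IHyp) : V_2650 = V_2649 :=
  (F_10631 IH).symm
theorem F_10648 (IH : D.IHyp) : ed Gen.c V_2649 = (D.P 216) :=
  edge_congr (F_10624 IH) (F_10647 IH)
theorem F_10649 (IH : D.IHyp) : ed Gen.c (D.P 216) = V_2649 :=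
  flipE D.rels D.S (hinv Gen.c) (F_10648 IH)
theorem F_10653 (IH : D.IHyp) : ed Gen.h V_2649 = (D.P 217) :=
  edge_congr (F_10621 IH) (F_10647 IH)
theorem F_10655 (IH : D.IHyp) : ed Gen.i V_2650 = V_2649 :=
  (F_10637 IH).trans (F_10647 IH)
theorem F_10656 (IH : D.IHyp) : ed Gen.i V_2649 = V_2649 :=
  edge_congr (F_10655 IH) (F_10647 IH)
theorem F_10660 (IH : D.IHyp) : ed Gen.c V_2648 = (D.P 273) :=
  gap_rel RW_14 (path_edge (F_10593 IH) (path_edge (F_10649 IH) (path_edge (F_2305 IH) (path_nil _))))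
theorem F_10664 (IH : D.IHyp) : ed Gen.h (D.P 274) = V_2648 :=
  gap_rel RW_38 (path_edge (F_6061 IH) (path_edge (F_10653 IH) (path_edge (F_10592 IH) (path_nil _))))
theorem F_10683 (IH : D.IHyp) : ed Gen.i V_2648 = V_2648 :=
  gap_rel RW_15 (path_edge (F_10593 IH) (path_edge (F_10656 IH) (path_edge (F_10592 IH) (path_nil _))))
theorem F_10688 (IH : D.IHyp) : ed Gen.i V_2647 = V_2647 :=
  gap_rel RW_6 (path_edge (F_10591 IH) (path_edge (F_10683 IH) (path_edge (F_10590 IH) (path_nil _))))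
theorem F_10690 (IH : D.IHyp) : ed Gen.h V_2647 = V_2055 :=
  gap_rel RW_33 (path_edge (F_10591 IH) (path_edge (F_10664 IH) (path_edge (F_981 IH) (path_edge (F_8229 IH) (path_edge (F_8233 IH) (path_nil _))))))
theorem F_10691 (IH : D.IHyp) : ed Gen.h V_2055 = V_2647 :=
  flipE D.rels D.S (hinv Gen.h) (F_10690 IH)
theorem F_10693 (IH : D.IHyp) : ed Gen.h V_2646 = V_2056 :=
  gap_rel RW_31 (path_edge (F_10589 IH) (path_edge (F_10691 IH) (path_edge (F_8238 IH) (path_nil _))))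
theorem F_10694 (IH : D.IHyp) : ed Gen.h V_2056 = V_2646 :=
  flipE D.rels D.S (hinv Gen.h) (F_10693 IH)
theorem F_10695 (IH : D.IHyp) : ed Gen.i V_2646 = V_2646 :=
  gap_rel RW_36 (path_edge (F_10589 IH) (path_edge (F_10688 IH) (path_edge (F_10588 IH) (path_nil _))))
theorem F_10697 (IH : D.IHyp) : ed Gen.h V_2645 = V_2057 :=
  gap_rel RW_32 (path_edge (F_10587 IH) (path_edge (F_10694 IH) (path_edge (F_8246 IH) (path_nil _))))
theorem F_10698 (IH : D.IHyp) : ed Gen.h V_2057 = V_2645 :=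
  flipE D.rels D.S (hinv Gen.h) (F_10697 IH)
theorem F_10699 (IH : D.IHyp) : ed Gen.i V_2645 = V_2645 :=
  gap_rel RW_2 (path_edge (F_10587 IH) (path_edge (F_10695 IH) (path_edge (F_10586 IH) (path_nil _))))
theorem F_10702 (IH : D.IHyp) : ed Gen.d V_2643 = V_2645 :=
  gap_rel RW_23 (path_edge (F_10583 IH) (path_edge (F_10585 IH) (path_edge (F_10699 IH) (path_nil _))))
theorem F_10703 (IH : D.IHyp) : ed Gen.d V_2645 = V_2643 :=
  flipE D.rels D.S (hinv Gen.d) (F_10702 IH)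
theorem F_10704 (IH : D.IHyp) : V_2644 = V_2643 :=
  edge_fun (F_10585 IH) (F_10703 IH)
theorem F_10707 (IH : D.IHyp) : ed Gen.d V_2643 = V_2645 :=
  edge_congr (F_10584 IH) (F_10704 IH)
theorem F_10708 (IH : D.IHyp) : ed Gen.d V_2645 = V_2643 :=
  flipE D.rels D.S (hinv Gen.d) (F_10707 IH)
theorem F_10709 (IH : D.IHyp) : ed Gen.i V_2643 = V_2643 :=
  edge_congr (F_10583 IH) (F_10704 IH)
theorem F_10710 (IH : D.IHyp) : ed Gen.h V_2641 = V_2058 :=
  gap_rel RW_33 (path_edge (F_10579 IH) (path_edge (F_10581 IH) (path_edge (F_10708 IH) (path_edge (F_10698 IH) (path_edge (F_8267 IH) (path_nil _))))))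
theorem F_10711 (IH : D.IHyp) : ed Gen.h V_2058 = V_2641 :=
  flipE D.rels D.S (hinv Gen.h) (F_10710 IH)
theorem F_10712 (IH : D.IHyp) : V_2058 = V_2641 :=
  edge_fun (F_10024 IH) (F_10711 IH)
theorem F_10713 (IH : D.IHyp) : V_2641 = V_2058 :=
  (F_10712 IH).symm
theorem F_10714 (IH : D.IHyp) : ed Gen.d V_2058 = V_2642 :=
  edge_congr (F_10578 IH) (F_10713 IH)
theorem F_10715 (IH : D.IHyp) : V_2057 = V_2642 :=
  edge_fun (F_8267 IH) (F_10714 IH)
theorem F_10717 (IH : D.IHyp) : ed Gen.f V_2058 = V_2640 :=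
  edge_congr (F_10577 IH) (F_10713 IH)
theorem F_10718 (IH : D.IHyp) : ed Gen.f V_2640 = V_2058 :=
  flipE D.rels D.S (hinv Gen.f) (F_10717 IH)
theorem F_10720 (IH : D.IHyp) : V_2642 = V_2057 :=
  (F_10715 IH).symm
theorem F_10722 (IH : D.IHyp) : ed Gen.h V_2057 = V_2643 :=
  edge_congr (F_10580 IH) (F_10720 IH)
theorem F_10723 (IH : D.IHyp) : V_2645 = V_2643 :=
  edge_fun (F_10698 IH) (F_10722 IH)
theorem F_10724 (IH : D.IHyp) : ed Gen.h V_2643 = V_2057 :=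
  flipE D.rels D.S (hinv Gen.h) (F_10722 IH)
theorem F_10730 (IH : D.IHyp) : ed Gen.h V_2643 = V_2057 :=
  edge_congr (F_10697 IH) (F_10723 IH)
theorem F_10731 (IH : D.IHyp) : ed Gen.h V_2057 = V_2643 :=
  flipE D.rels D.S (hinv Gen.h) (F_10730 IH)
theorem F_10734 (IH : D.IHyp) : ed Gen.h V_1612 = V_1612 :=
  gap_rel RW_20 (path_edge (F_8257 IH) (path_edge (F_10724 IH) (path_edge (F_10709 IH) (path_edge (F_10731 IH) (path_edge (F_8250 IH) (path_nil _))))))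
theorem F_10735 (IH : D.IHyp) : ed Gen.b V_2640 = V_2640 :=
  gap_rel RW_26 (path_edge (F_10717 IH) (path_edge (F_8268 IH) (path_edge (F_10718 IH) (path_nil _))))
theorem F_10736 (IH : D.IHyp) : ed Gen.c V_2115 = V_2640 :=
  gap_rel RW_27 (path_edge (F_8507 IH) (path_edge (F_10010 IH) (path_edge (F_10718 IH) (path_nil _))))
theorem F_10737 (IH : D.IHyp) : ed Gen.c V_2640 = V_2115 :=
  flipE D.rels D.S (hinv Gen.c) (F_10736 IH)
theorem F_10739 (IH : D.IHyp) : ed Gen.b V_2639 = V_2639 :=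
  gap_rel RW_13 (path_edge (F_10575 IH) (path_edge (F_10735 IH) (path_edge (F_10574 IH) (path_nil _))))
theorem F_10740 (IH : D.IHyp) : ed Gen.i V_2602 = V_2640 :=
  gap_rel RW_2 (path_edge (F_10489 IH) (path_edge (F_10488 IH) (path_edge (F_10737 IH) (path_nil _))))
theorem F_10743 (IH : D.IHyp) : ed Gen.f V_1611 = V_2602 :=
  gap_rel RW_19 (path_edge (F_8269 IH) (path_edge (F_10718 IH) (path_edge (F_10740 IH) (path_nil _))))
theorem F_10744 (IH : D.IHyp) : ed Gen.f V_2602 = V_1611 :=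
  flipE D.rels D.S (hinv Gen.f) (F_10743 IH)
theorem F_10745 (IH : D.IHyp) : ed Gen.f V_2603 = V_1612 :=
  gap_rel RW_5 (path_edge (F_10492 IH) (path_edge (F_10743 IH) (path_edge (F_5993 IH) (path_nil _))))
theorem F_10746 (IH : D.IHyp) : ed Gen.f V_1612 = V_2603 :=
  flipE D.rels D.S (hinv Gen.f) (F_10745 IH)
theorem F_10747 (IH : D.IHyp) : ed Gen.h V_2603 = V_2603 :=
  gap_rel RW_39 (path_edge (F_10746 IH) (path_edge (F_10734 IH) (path_edge (F_10745 IH) (path_nil _))))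
theorem F_10748 (IH : D.IHyp) : ed Gen.h V_2060 = V_1611 :=
  gap_rel RW_33 (path_edge (F_8274 IH) (path_edge (F_8271 IH) (path_edge (F_5993 IH) (path_edge (F_10734 IH) (path_edge (F_5992 IH) (path_nil _))))))
theorem F_10749 (IH : D.IHyp) : ed Gen.h V_1611 = V_2060 :=
  flipE D.rels D.S (hinv Gen.h) (F_10748 IH)
theorem F_10750 (IH : D.IHyp) : V_2059 = V_2060 :=
  edge_fun (F_8271 IH) (F_10749 IH)
theorem F_10751 (IH : D.IHyp) : V_2060 = V_2059 :=
  (F_10750 IH).symm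
theorem F_10755 (IH : D.IHyp) : ed Gen.f V_2059 = V_2061 :=
  edge_congr (F_8277 IH) (F_10751 IH)
theorem F_10760 (IH : D.IHyp) : ed Gen.d V_2637 = V_2639 :=
  gap_rel RW_29 (path_edge (F_10571 IH) (path_edge (F_10573 IH) (path_edge (F_10739 IH) (path_nil _))))
theorem F_10761 (IH : D.IHyp) : ed Gen.d V_2639 = V_2637 :=
  flipE D.rels D.S (hinv Gen.d) (F_10760 IH)
theorem F_10762 (IH : D.IHyp) : V_2638 = V_2637 :=
  edge_fun (F_10573 IH) (F_10761 IH)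
theorem F_10764 (IH : D.IHyp) : ed Gen.d V_2637 = V_2639 :=
  edge_congr (F_10572 IH) (F_10762 IH)
theorem F_10765 (IH : D.IHyp) : ed Gen.d V_2639 = V_2637 :=
  flipE D.rels D.S (hinv Gen.d) (F_10764 IH)
theorem F_10766 (IH : D.IHyp) : ed Gen.h V_2061 = V_2602 :=
  gap_rel RW_39 (path_edge (F_10755 IH) (path_edge (F_8271 IH) (path_edge (F_10744 IH) (path_nil _))))
theorem F_10767 (IH : D.IHyp) : ed Gen.h V_2602 = V_2061 :=
  flipE D.rels D.S (hinv Gen.h) (F_10766 IH)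
theorem F_10768 (IH : D.IHyp) : ed Gen.d V_2061 = V_2061 :=
  gap_rel RW_12 (path_edge (F_10767 IH) (path_edge (F_10493 IH) (path_edge (F_10747 IH) (path_edge (F_10492 IH) (path_edge (F_10766 IH) (path_nil _))))))
theorem F_10784 (IH : D.IHyp) : ed Gen.h (D.P 543) = V_2655 :=
  rfl
theorem F_10785 (IH : D.IHyp) : ed Gen.h V_2655 = (D.P 543) :=
  flipE D.rels D.S (hinv Gen.h) (F_10784 IH)
theorem F_10788 (IH : D.IHyp) : ed Gen.f V_2655 = V_2655 :=
  gap_rel RW_10 (path_edge (F_10784 IH) (path_edge (F_1231 IH) (path_edge (F_10785 IH) (path_nil _))))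
theorem F_10805 (IH : D.IHyp) : ed Gen.d V_2655 = V_2656 :=
  rfl
theorem F_10806 (IH : D.IHyp) : ed Gen.d V_2656 = V_2655 :=
  flipE D.rels D.S (hinv Gen.d) (F_10805 IH)
theorem F_10807 (IH : D.IHyp) : ed Gen.f V_2656 = V_2656 :=
  gap_rel RW_5 (path_edge (F_10805 IH) (path_edge (F_10788 IH) (path_edge (F_10806 IH) (path_nil _))))
theorem F_10808 (IH : D.IHyp) : ed Gen.e V_2656 = V_2657 :=
  rfl
theorem F_10810 (IH : D.IHyp) : ed Gen.d V_2657 = V_2658 :=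
  rfl
theorem F_10812 (IH : D.IHyp) : ed Gen.b V_2658 = V_2659 :=
  rfl
theorem F_10814 (IH : D.IHyp) : ed Gen.c V_2659 = V_2660 :=
  rfl
theorem F_10816 (IH : D.IHyp) : ed Gen.d V_2660 = V_2661 :=
  rfl
theorem F_10818 (IH : D.IHyp) : ed Gen.i V_2661 = V_2662 :=
  rfl
theorem F_10820 (IH : D.IHyp) : ed Gen.h V_2662 = V_2663 :=
  rfl
theorem F_10822 (IH : D.IHyp) : ed Gen.d V_2663 = V_2664 :=
  rfl
theorem F_10824 (IH : D.IHyp) : ed Gen.f V_2664 = V_2665 :=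
  rfl
theorem F_10826 (IH : D.IHyp) : ed Gen.e V_2665 = V_2666 :=
  rfl
theorem F_10828 (IH : D.IHyp) : ed Gen.d V_2666 = V_2667 :=
  rfl
theorem F_10830 (IH : D.IHyp) : ed Gen.b V_2667 = V_2668 :=
  rfl
theorem F_10832 (IH : D.IHyp) : ed Gen.c V_2668 = V_2669 :=
  rfl
theorem F_10834 (IH : D.IHyp) : ed Gen.d V_2669 = V_2670 :=
  rfl
theorem F_10836 (IH : D.IHyp) : ed Gen.i V_2670 = V_2671 :=
  rfl
theorem F_10838 (IH : D.IHyp) : ed Gen.h V_2671 = V_2672 :=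
  rfl
theorem F_10840 (IH : D.IHyp) : ed Gen.d V_2672 = V_2673 :=
  rfl
theorem F_10842 (IH : D.IHyp) : ed Gen.f V_2673 = V_2674 :=
  rfl
theorem F_10844 (IH : D.IHyp) : ed Gen.e V_2674 = V_2675 :=
  rfl
theorem F_10846 (IH : D.IHyp) : ed Gen.d V_2675 = V_2676 :=
  rfl
theorem F_10848 (IH : D.IHyp) : ed Gen.b V_2676 = V_2677 :=
  rfl
theorem F_10850 (IH : D.IHyp) : ed Gen.c V_2677 = V_2678 :=
  rfl
theorem F_10852 (IH : D.IHyp) : ed Gen.d V_2678 = V_2679 :=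
  rfl
theorem F_10854 (IH : D.IHyp) : ed Gen.i V_2679 = V_2680 :=
  rfl
theorem F_10856 (IH : D.IHyp) : ed Gen.h V_2680 = V_2681 :=
  rfl
theorem F_10858 (IH : D.IHyp) : ed Gen.d V_2681 = V_2682 :=
  rfl
theorem F_10860 (IH : D.IHyp) : ed Gen.f V_2682 = V_2683 :=
  rfl
theorem F_10862 (IH : D.IHyp) : ed Gen.e V_2683 = V_2684 :=
  rfl
theorem F_10864 (IH : D.IHyp) : ed Gen.d V_2684 = V_2685 :=
  rfl
theorem F_10866 (IH : D.IHyp) : ed Gen.b V_2685 = V_2686 :=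
  rfl
theorem F_10868 (IH : D.IHyp) : ed Gen.c V_2686 = V_2687 :=
  rfl
theorem F_10870 (IH : D.IHyp) : ed Gen.d V_2687 = V_2688 :=
  rfl
theorem F_10872 (IH : D.IHyp) : ed Gen.i V_2688 = V_2689 :=
  rfl
theorem F_10874 (IH : D.IHyp) : ed Gen.h V_2689 = V_2690 :=
  rfl
theorem F_10876 (IH : D.IHyp) : ed Gen.d V_2690 = V_2691 :=
  rfl
theorem F_10878 (IH : D.IHyp) : ed Gen.f V_2691 = V_2692 :=
  rfl
theorem F_10880 (IH : D.IHyp) : ed Gen.e V_2692 = V_2693 :=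
  rfl
theorem F_10882 (IH : D.IHyp) : ed Gen.d V_2693 = V_2694 :=
  rfl
theorem F_10884 (IH : D.IHyp) : ed Gen.b V_2694 = V_2695 :=
  rfl
theorem F_10886 (IH : D.IHyp) : ed Gen.c V_2695 = V_2696 :=
  rfl
theorem F_10888 (IH : D.IHyp) : ed Gen.d V_2696 = V_2697 :=
  rfl
theorem F_10890 (IH : D.IHyp) : ed Gen.i V_2697 = V_2698 :=
  rfl
theorem F_10892 (IH : D.IHyp) : ed Gen.h V_2698 = V_2699 :=
  rfl
theorem F_10894 (IH : D.IHyp) : ed Gen.d V_2699 = V_2700 :=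
  rfl
theorem F_10896 (IH : D.IHyp) : ed Gen.f V_2700 = V_2701 :=
  rfl
theorem F_10898 (IH : D.IHyp) : ed Gen.e V_2701 = V_2702 :=
  rfl
theorem F_10900 (IH : D.IHyp) : ed Gen.d V_2702 = V_2703 :=
  rfl
theorem F_10902 (IH : D.IHyp) : ed Gen.b V_2703 = V_2704 :=
  rfl
theorem F_10904 (IH : D.IHyp) : ed Gen.c V_2704 = V_2705 :=
  rfl
theorem F_10906 (IH : D.IHyp) : ed Gen.d V_2705 = V_2706 :=
  rfl
theorem F_10908 (IH : D.IHyp) : ed Gen.i V_2706 = V_2707 :=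
  rfl
theorem F_10910 (IH : D.IHyp) : ed Gen.h V_2707 = V_2708 :=
  rfl
theorem F_10912 (IH : D.IHyp) : ed Gen.d V_2708 = V_2709 :=
  rfl
theorem F_10914 (IH : D.IHyp) : ed Gen.f V_2709 = V_2710 :=
  rfl
theorem F_10916 (IH : D.IHyp) : ed Gen.e V_2710 = V_2711 :=
  rfl
theorem F_10918 (IH : D.IHyp) : ed Gen.d V_2711 = V_2712 :=
  rfl
theorem F_10920 (IH : D.IHyp) : ed Gen.b V_2712 = V_2713 :=
  rfl
theorem F_10922 (IH : D.IHyp) : ed Gen.c V_2713 = V_2714 :=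
  rfl
theorem F_10924 (IH : D.IHyp) : ed Gen.d V_2714 = V_2715 :=
  rfl
theorem F_10925 (IH : D.IHyp) : ed Gen.d V_2715 = V_2714 :=
  flipE D.rels D.S (hinv Gen.d) (F_10924 IH)
theorem F_10926 (IH : D.IHyp) : ed Gen.i V_2715 = V_2716 :=
  rfl
theorem F_10927 (IH : D.IHyp) : ed Gen.i V_2716 = V_2715 :=
  flipE D.rels D.S (hinv Gen.i) (F_10926 IH)
theorem F_10928 (IH : D.IHyp) : ed Gen.h V_2716 = V_2717 :=
  rfl
theorem F_10929 (IH : D.IHyp) : ed Gen.h V_2717 = V_2716 :=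
  flipE D.rels D.S (hinv Gen.h) (F_10928 IH)
theorem F_10930 (IH : D.IHyp) : ed Gen.d V_2717 = V_2718 :=
  rfl
theorem F_10931 (IH : D.IHyp) : ed Gen.d V_2718 = V_2717 :=
  flipE D.rels D.S (hinv Gen.d) (F_10930 IH)
theorem F_10932 (IH : D.IHyp) : ed Gen.f V_2718 = V_2719 :=
  rfl
theorem F_10934 (IH : D.IHyp) : ed Gen.e V_2719 = V_2720 :=
  rfl
theorem F_10936 (IH : D.IHyp) : ed Gen.d V_2720 = V_2721 :=
  rfl
theorem F_10938 (IH : D.IHyp) : ed Gen.b V_2721 = V_2722 :=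
  rfl
theorem F_10940 (IH : D.IHyp) : ed Gen.c V_2722 = V_2723 :=
  rfl
theorem F_10941 (IH : D.IHyp) : ed Gen.c V_2723 = V_2722 :=
  flipE D.rels D.S (hinv Gen.c) (F_10940 IH)
theorem F_10942 (IH : D.IHyp) : ed Gen.d V_2723 = V_2724 :=
  rfl
theorem F_10943 (IH : D.IHyp) : ed Gen.d V_2724 = V_2723 :=
  flipE D.rels D.S (hinv Gen.d) (F_10942 IH)
theorem F_10944 (IH : D.IHyp) : ed Gen.i V_2724 = V_2725 :=
  rfl
theorem F_10945 (IH : D.IHyp) : ed Gen.i V_2725 = V_2724 :=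
  flipE D.rels D.S (hinv Gen.i) (F_10944 IH)
theorem F_10946 (IH : D.IHyp) : ed Gen.h V_2725 = V_2726 :=
  rfl
theorem F_10947 (IH : D.IHyp) : ed Gen.h V_2726 = V_2725 :=
  flipE D.rels D.S (hinv Gen.h) (F_10946 IH)
theorem F_10948 (IH : D.IHyp) : ed Gen.d V_2726 = V_2727 :=
  rfl
theorem F_10949 (IH : D.IHyp) : ed Gen.d V_2727 = V_2726 :=
  flipE D.rels D.S (hinv Gen.d) (F_10948 IH)
theorem F_10950 (IH : D.IHyp) : ed Gen.f V_2727 = V_2728 :=
  rfl
theorem F_10951 (IH : D.IHyp) : ed Gen.f V_2728 = V_2727 :=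
  flipE D.rels D.S (hinv Gen.f) (F_10950 IH)
theorem F_10952 (IH : D.IHyp) : ed Gen.e V_2728 = V_2729 :=
  rfl
theorem F_10953 (IH : D.IHyp) : ed Gen.e V_2729 = V_2728 :=
  flipE D.rels D.S (hinv Gen.e) (F_10952 IH)
theorem F_10954 (IH : D.IHyp) : ed Gen.d V_2729 = V_2730 :=
  rfl
theorem F_10955 (IH : D.IHyp) : ed Gen.d V_2730 = V_2729 :=
  flipE D.rels D.S (hinv Gen.d) (F_10954 IH)
theorem F_10956 (IH : D.IHyp) : ed Gen.b V_2730 = V_827 :=
  gap_rel RW_46 (path_edge (F_10954 IH) (path_edge (F_10952 IH) (path_edge (F_10950 IH) (path_edge (F_10948 IH) (path_edge (F_10946 IH) (path_edge (F_10944 IH) (path_edge (F_10942 IH) (path_edge (F_10940 IH) (path_edge (F_10938 IH) (path_edge (F_10936 IH) (path_edge (F_10934 IH) (path_edge (F_10932 IH) (path_edge (F_10930 IH) (path_edge (F_10928 IH) (path_edge (F_10926 IH) (path_edge (F_10924 IH) (path_edge (F_10922 IH) (path_edge (F_10920 IH) (path_edge (F_10918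 IH) (path_edge (F_10916 IH) (path_edge (F_10914 IH) (path_edge (F_10912 IH) (path_edge (F_10910 IH) (path_edge (F_10908 IH) (path_edge (F_10906 IH) (path_edge (F_10904 IH) (path_edge (F_10902 IH) (path_edge (F_10900 IH) (path_edge (F_10898 IH) (path_edge (F_10896 IH) (path_edge (F_10894 IH) (path_edge (F_10892 IH) (path_edge (F_10890 IH) (path_edge (F_10888 IH) (path_edge (F_10886 IH) (path_edge (F_10884 IH) (path_edge (F_10882 IH) (path_edge (F_10880 IH) (path_edge (F_10878 IH) (path_edge (F_10876 IH) (path_edge (F_10874 IH) (path_edge (F_10872 IH) (path_edge (F_10870 IH) (path_edge (F_10868 IH) (path_edge (F_10866 IH) (path_edge (F_10864 IH) (path_edge (F_10862 IH) (path_edge (F_10860 IH) (path_edge (F_10858 IH) (path_edge (F_10856 IH) (path_edge (F_10854 IH) (path_edge (F_10852 IH) (path_edge (F_10850 IH) (path_edge (F_10848 IH) (path_edge (F_10846 IH) (path_edge (F_10844 IH) (path_edge (F_10842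 IH) (path_edge (F_10840 IH) (path_edge (F_10838 IH) (path_edge (F_10836 IH) (path_edge (F_10834 IH) (path_edge (F_10832 IH) (path_edge (F_10830 IH) (path_edge (F_10828 IH) (path_edge (F_10826 IH) (path_edge (F_10824 IH) (path_edge (F_10822 IH) (path_edge (F_10820 IH) (path_edge (F_10818 IH) (path_edge (F_10816 IH) (path_edge (F_10814 IH) (path_edge (F_10812 IH) (path_edge (F_10810 IH) (path_edge (F_10808 IH) (path_edge (F_10807 IH) (path_edge (F_10805 IH) (path_edge (F_10784 IH) (path_edge (F_7999 IH) (path_edge (F_8014 IH) (path_edge (F_8023 IH) (path_edge (F_8015 IH) (path_edge (F_5102 IH) (path_edge (F_7956 IH) (path_edge (F_7959 IH) (path_edge (F_967 IH) (path_edge (F_1719 IH) (path_edge (F_10296 IH) (path_edge (F_10297 IH) (path_edge (F_1727 IH) (path_nil _))))))))))))))))))))))))))))))))))))))))))))))))))))))))))))))))))))))))))))))))))))))))))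
theorem F_10958 (IH : D.IHyp) : ed Gen.b V_2545 = V_2729 :=
  gap_rel RW_4 (path_edge (F_10297 IH) (path_edge (F_10956 IH) (path_edge (F_10954 IH) (path_nil _))))
theorem F_10959 (IH : D.IHyp) : ed Gen.b V_2729 = V_2545 :=
  flipE D.rels D.S (hinv Gen.b) (F_10958 IH)
theorem F_10960 (IH : D.IHyp) : ed Gen.f V_2598 = V_2730 :=
  gap_rel RW_42 (path_edge (F_10464 IH) (path_edge (F_10482 IH) (path_edge (F_10956 IH) (path_nil _))))
theorem F_10966 (IH : D.IHyp) : ed Gen.f V_2729 = V_2597 :=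
  gap_rel RW_5 (path_edge (F_10955 IH) (path_edge (F_10960 IH) (path_edge (F_10461 IH) (path_nil _))))
theorem F_10972 (IH : D.IHyp) : ed Gen.b V_2728 = V_2545 :=
  gap_rel RW_13 (path_edge (F_10953 IH) (path_edge (F_10958 IH) (path_edge (F_10299 IH) (path_nil _))))
theorem F_10973 (IH : D.IHyp) : ed Gen.b V_2545 = V_2728 :=
  flipE D.rels D.S (hinv Gen.b) (F_10972 IH)
theorem F_10974 (IH : D.IHyp) : V_2729 = V_2728 :=
  edge_fun (F_10958 IH) (F_10973 IH)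
theorem F_10975 (IH : D.IHyp) : ed Gen.b V_2728 = V_2545 :=
  edge_congr (F_10959 IH) (F_10974 IH)
theorem F_10976 (IH : D.IHyp) : ed Gen.b V_2545 = V_2728 :=
  flipE D.rels D.S (hinv Gen.b) (F_10975 IH)
theorem F_10979 (IH : D.IHyp) : ed Gen.d V_2728 = V_2730 :=
  edge_congr (F_10954 IH) (F_10974 IH)
theorem F_10981 (IH : D.IHyp) : ed Gen.e V_2728 = V_2728 :=
  edge_congr (F_10953 IH) (F_10974 IH)
theorem F_10982 (IH : D.IHyp) : ed Gen.f V_2728 = V_2597 :=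
  edge_congr (F_10966 IH) (F_10974 IH)
theorem F_10983 (IH : D.IHyp) : V_2727 = V_2597 :=
  edge_fun (F_10951 IH) (F_10982 IH)
theorem F_10984 (IH : D.IHyp) : ed Gen.f V_2597 = V_2728 :=
  flipE D.rels D.S (hinv Gen.f) (F_10982 IH)
theorem F_10987 (IH : D.IHyp) : ed Gen.d V_2597 = V_2726 :=
  edge_congr (F_10949 IH) (F_10983 IH)
theorem F_10988 (IH : D.IHyp) : V_2598 = V_2726 :=
  edge_fun (F_10461 IH) (F_10987 IH)
theorem F_10990 (IH : D.IHyp) : ed Gen.f V_2597 = V_2728 :=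
  edge_congr (F_10950 IH) (F_10983 IH)
theorem F_10991 (IH : D.IHyp) : ed Gen.f V_2728 = V_2597 :=
  flipE D.rels D.S (hinv Gen.f) (F_10990 IH)
theorem F_10992 (IH : D.IHyp) : V_2726 = V_2598 :=
  (F_10988 IH).symm
theorem F_10994 (IH : D.IHyp) : ed Gen.h V_2598 = V_2725 :=
  edge_congr (F_10947 IH) (F_10992 IH)
theorem F_10995 (IH : D.IHyp) : ed Gen.h V_2725 = V_2598 :=
  flipE D.rels D.S (hinv Gen.h) (F_10994 IH)
theorem F_10996 (IH : D.IHyp) : ed Gen.c V_2061 = V_2725 :=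
  gap_rel RW_11 (path_edge (F_10767 IH) (path_edge (F_10489 IH) (path_edge (F_10995 IH) (path_nil _))))
theorem F_10997 (IH : D.IHyp) : ed Gen.c V_2725 = V_2061 :=
  flipE D.rels D.S (hinv Gen.c) (F_10996 IH)
theorem F_10998 (IH : D.IHyp) : ed Gen.h V_2724 = V_2598 :=
  gap_rel RW_20 (path_edge (F_10945 IH) (path_edge (F_10994 IH) (path_edge (F_10488 IH) (path_edge (F_8505 IH) (path_edge (F_10487 IH) (path_nil _))))))
theorem F_10999 (IH : D.IHyp) : ed Gen.h V_2598 = V_2724 :=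
  flipE D.rels D.S (hinv Gen.h) (F_10998 IH)
theorem F_11000 (IH : D.IHyp) : V_2725 = V_2724 :=
  edge_fun (F_10994 IH) (F_10999 IH)
theorem F_11001 (IH : D.IHyp) : ed Gen.c V_2724 = V_2061 :=
  edge_congr (F_10997 IH) (F_11000 IH)
theorem F_11002 (IH : D.IHyp) : ed Gen.c V_2061 = V_2724 :=
  flipE D.rels D.S (hinv Gen.c) (F_11001 IH)
theorem F_11003 (IH : D.IHyp) : ed Gen.h V_2724 = V_2598 :=
  edge_congr (F_10995 IH) (F_11000 IH)
theorem F_11004 (IH : D.IHyp) : ed Gen.h V_2598 = V_2724 :=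
  flipE D.rels D.S (hinv Gen.h) (F_11003 IH)
theorem F_11006 (IH : D.IHyp) : ed Gen.e V_2595 = V_2597 :=
  gap_rel RW_44 (path_edge (F_10458 IH) (path_edge (F_10460 IH) (path_edge (F_10991 IH) (path_edge (F_10981 IH) (path_edge (F_10984 IH) (path_nil _))))))
theorem F_11007 (IH : D.IHyp) : ed Gen.e V_2597 = V_2595 :=
  flipE D.rels D.S (hinv Gen.e) (F_11006 IH)
theorem F_11008 (IH : D.IHyp) : V_2596 = V_2595 :=
  edge_fun (F_10460 IH) (F_11007 IH)
theorem F_11009 (IH : D.IHyp) : ed Gen.e V_2595 = V_2597 :=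
  edge_congr (F_10459 IH) (F_11008 IH)
theorem F_11010 (IH : D.IHyp) : ed Gen.e V_2597 = V_2595 :=
  flipE D.rels D.S (hinv Gen.e) (F_11009 IH)
theorem F_11012 (IH : D.IHyp) : ed Gen.d V_2722 = V_2724 :=
  gap_rel RW_21 (path_edge (F_10941 IH) (path_edge (F_10943 IH) (path_edge (F_11002 IH) (path_edge (F_10768 IH) (path_edge (F_11001 IH) (path_nil _))))))
theorem F_11018 (IH : D.IHyp) : ed Gen.b V_2724 = V_2720 :=
  gap_rel RW_4 (path_edge (F_11012 IH) (path_edge (F_10938 IH) (path_edge (F_10936 IH) (path_nil _))))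
theorem F_11020 (IH : D.IHyp) : ed Gen.h V_2720 = V_2599 :=
  gap_rel RW_31 (path_edge (F_11018 IH) (path_edge (F_11004 IH) (path_edge (F_10464 IH) (path_nil _))))
theorem F_11021 (IH : D.IHyp) : ed Gen.h V_2599 = V_2720 :=
  flipE D.rels D.S (hinv Gen.h) (F_11020 IH)
theorem F_11029 (IH : D.IHyp) : ed Gen.f V_2720 = V_828 :=
  gap_rel RW_10 (path_edge (F_11021 IH) (path_edge (F_10482 IH) (path_edge (F_1729 IH) (path_nil _))))
theorem F_11030 (IH : D.IHyp) : ed Gen.f V_828 = V_2720 :=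
  flipE D.rels D.S (hinv Gen.f) (F_11029 IH)
theorem F_11031 (IH : D.IHyp) : ed Gen.f V_2721 = V_829 :=
  gap_rel RW_5 (path_edge (F_10936 IH) (path_edge (F_11030 IH) (path_edge (F_1733 IH) (path_nil _))))
theorem F_11032 (IH : D.IHyp) : ed Gen.f V_829 = V_2721 :=
  flipE D.rels D.S (hinv Gen.f) (F_11031 IH)
theorem F_11033 (IH : D.IHyp) : V_830 = V_2721 :=
  edge_fun (F_1735 IH) (F_11032 IH)
theorem F_11034 (IH : D.IHyp) : V_2721 = V_830 :=
  (F_11033 IH).symm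
theorem F_11035 (IH : D.IHyp) : ed Gen.b V_830 = V_2722 :=
  edge_congr (F_10938 IH) (F_11034 IH)
theorem F_11053 (IH : D.IHyp) : ed Gen.f V_826 = V_2731 :=
  rfl
theorem F_11054 (IH : D.IHyp) : ed Gen.f V_2731 = V_826 :=
  flipE D.rels D.S (hinv Gen.f) (F_11053 IH)
theorem F_11058 (IH : D.IHyp) : ed Gen.d V_2539 = V_2731 :=
  gap_rel RW_40 (path_edge (F_10085 IH) (path_edge (F_1722 IH) (path_edge (F_11054 IH) (path_nil _))))
theorem F_11061 (IH : D.IHyp) : ed Gen.i V_2731 = V_2599 :=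
  gap_rel RW_35 (path_edge (F_11053 IH) (path_edge (F_1726 IH) (path_edge (F_10475 IH) (path_nil _))))
theorem F_11062 (IH : D.IHyp) : ed Gen.i V_2599 = V_2731 :=
  flipE D.rels D.S (hinv Gen.i) (F_11061 IH)
theorem F_11063 (IH : D.IHyp) : ed Gen.e V_2731 = V_2732 :=
  rfl
theorem F_11064 (IH : D.IHyp) : ed Gen.e V_2732 = V_2731 :=
  flipE D.rels D.S (hinv Gen.e) (F_11063 IH)
theorem F_11067 (IH : D.IHyp) : ed Gen.d V_2732 = V_2733 :=
  rfl
theorem F_11068 (IH : D.IHyp) : ed Gen.d V_2733 = V_2732 :=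
  flipE D.rels D.S (hinv Gen.d) (F_11067 IH)
theorem F_11069 (IH : D.IHyp) : ed Gen.e V_2733 = V_929 :=
  gap_rel RW_41 (path_edge (F_11067 IH) (path_edge (F_11063 IH) (path_edge (F_11058 IH) (path_edge (F_10083 IH) (path_edge (F_2311 IH) (path_nil _))))))
theorem F_11070 (IH : D.IHyp) : ed Gen.e V_929 = V_2733 :=
  flipE D.rels D.S (hinv Gen.e) (F_11069 IH)
theorem F_11071 (IH : D.IHyp) : ed Gen.b V_2733 = V_2734 :=
  rfl
theorem F_11072 (IH : D.IHyp) : ed Gen.b V_2734 = V_2733 :=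
  flipE D.rels D.S (hinv Gen.b) (F_11071 IH)
theorem F_11073 (IH : D.IHyp) : ed Gen.c V_2734 = V_2735 :=
  rfl
theorem F_11074 (IH : D.IHyp) : ed Gen.c V_2735 = V_2734 :=
  flipE D.rels D.S (hinv Gen.c) (F_11073 IH)
theorem F_11075 (IH : D.IHyp) : ed Gen.d V_2735 = V_2736 :=
  rfl
theorem F_11076 (IH : D.IHyp) : ed Gen.d V_2736 = V_2735 :=
  flipE D.rels D.S (hinv Gen.d) (F_11075 IH)
theorem F_11077 (IH : D.IHyp) : ed Gen.i V_2736 = V_2737 :=
  rfl
theorem F_11078 (IH : D.IHyp) : ed Gen.i V_2737 = V_2736 :=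
  flipE D.rels D.S (hinv Gen.i) (F_11077 IH)
theorem F_11079 (IH : D.IHyp) : ed Gen.h V_2737 = V_2738 :=
  rfl
theorem F_11080 (IH : D.IHyp) : ed Gen.h V_2738 = V_2737 :=
  flipE D.rels D.S (hinv Gen.h) (F_11079 IH)
theorem F_11081 (IH : D.IHyp) : ed Gen.d V_2738 = V_2739 :=
  rfl
theorem F_11082 (IH : D.IHyp) : ed Gen.d V_2739 = V_2738 :=
  flipE D.rels D.S (hinv Gen.d) (F_11081 IH)
theorem F_11083 (IH : D.IHyp) : ed Gen.f V_2739 = V_2740 :=
  rfl
theorem F_11084 (IH : D.IHyp) : ed Gen.f V_2740 = V_2739 :=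
  flipE D.rels D.S (hinv Gen.f) (F_11083 IH)
theorem F_11085 (IH : D.IHyp) : ed Gen.e V_2740 = V_2741 :=
  rfl
theorem F_11086 (IH : D.IHyp) : ed Gen.e V_2741 = V_2740 :=
  flipE D.rels D.S (hinv Gen.e) (F_11085 IH)
theorem F_11087 (IH : D.IHyp) : ed Gen.d V_2741 = V_2742 :=
  rfl
theorem F_11088 (IH : D.IHyp) : ed Gen.d V_2742 = V_2741 :=
  flipE D.rels D.S (hinv Gen.d) (F_11087 IH)
theorem F_11089 (IH : D.IHyp) : ed Gen.b V_2742 = V_2743 :=
  rfl
theorem F_11090 (IH : D.IHyp) : ed Gen.b V_2743 = V_2742 :=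
  flipE D.rels D.S (hinv Gen.b) (F_11089 IH)
theorem F_11091 (IH : D.IHyp) : ed Gen.c V_2743 = V_2744 :=
  rfl
theorem F_11092 (IH : D.IHyp) : ed Gen.c V_2744 = V_2743 :=
  flipE D.rels D.S (hinv Gen.c) (F_11091 IH)
theorem F_11093 (IH : D.IHyp) : ed Gen.d V_2744 = V_2745 :=
  rfl
theorem F_11094 (IH : D.IHyp) : ed Gen.d V_2745 = V_2744 :=
  flipE D.rels D.S (hinv Gen.d) (F_11093 IH)
theorem F_11095 (IH : D.IHyp) : ed Gen.i V_2745 = V_2746 :=
  rfl
theorem F_11096 (IH : D.IHyp) : ed Gen.i V_2746 = V_2745 :=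
  flipE D.rels D.S (hinv Gen.i) (F_11095 IH)
theorem F_11097 (IH : D.IHyp) : ed Gen.h V_2746 = V_2747 :=
  rfl
theorem F_11098 (IH : D.IHyp) : ed Gen.h V_2747 = V_2746 :=
  flipE D.rels D.S (hinv Gen.h) (F_11097 IH)
theorem F_11099 (IH : D.IHyp) : ed Gen.d V_2747 = V_2748 :=
  rfl
theorem F_11100 (IH : D.IHyp) : ed Gen.d V_2748 = V_2747 :=
  flipE D.rels D.S (hinv Gen.d) (F_11099 IH)
theorem F_11101 (IH : D.IHyp) : ed Gen.f V_2748 = V_2749 :=
  rfl
theorem F_11102 (IH : D.IHyp) : ed Gen.f V_2749 = V_2748 :=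
  flipE D.rels D.S (hinv Gen.f) (F_11101 IH)
theorem F_11103 (IH : D.IHyp) : ed Gen.e V_2749 = V_2750 :=
  rfl
theorem F_11104 (IH : D.IHyp) : ed Gen.e V_2750 = V_2749 :=
  flipE D.rels D.S (hinv Gen.e) (F_11103 IH)
theorem F_11105 (IH : D.IHyp) : ed Gen.d V_2750 = V_2751 :=
  rfl
theorem F_11106 (IH : D.IHyp) : ed Gen.d V_2751 = V_2750 :=
  flipE D.rels D.S (hinv Gen.d) (F_11105 IH)
theorem F_11107 (IH : D.IHyp) : ed Gen.b V_2751 = V_2752 :=
  rfl
theorem F_11108 (IH : D.IHyp) : ed Gen.b V_2752 = V_2751 :=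
  flipE D.rels D.S (hinv Gen.b) (F_11107 IH)
theorem F_11109 (IH : D.IHyp) : ed Gen.c V_2752 = V_2753 :=
  rfl
theorem F_11110 (IH : D.IHyp) : ed Gen.c V_2753 = V_2752 :=
  flipE D.rels D.S (hinv Gen.c) (F_11109 IH)
theorem F_11111 (IH : D.IHyp) : ed Gen.d V_2753 = V_2754 :=
  rfl
theorem F_11112 (IH : D.IHyp) : ed Gen.d V_2754 = V_2753 :=
  flipE D.rels D.S (hinv Gen.d) (F_11111 IH)
theorem F_11113 (IH : D.IHyp) : ed Gen.i V_2754 = V_2755 :=
  rfl
theorem F_11114 (IH : D.IHyp) : ed Gen.i V_2755 = V_2754 :=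
  flipE D.rels D.S (hinv Gen.i) (F_11113 IH)
theorem F_11115 (IH : D.IHyp) : ed Gen.h (D.P 426) = V_2755 :=
  gap_rel RW_50 (path_edge (F_167 IH) (path_edge (F_943 IH) (path_edge (F_970 IH) (path_edge (F_969 IH) (path_edge (F_1138 IH) (path_edge (F_1137 IH) (path_edge (F_153 IH) (path_edge (F_1136 IH) (path_edge (F_1135 IH) (path_edge (F_303 IH) (path_edge (F_1134 IH) (path_edge (F_1133 IH) (path_edge (F_1132 IH) (path_edge (F_1131 IH) (path_edge (F_1130 IH) (path_edge (F_498 IH) (path_edge (F_1129 IH) (path_edge (F_1128 IH) (path_edge (F_1125 IH) (path_edge (F_1127 IH) (path_edge (F_1126 IH) (path_edge (F_1125 IH) (path_edge (F_1124 IH) (path_edge (F_1123 IH) (path_edge (F_1118 IH) (path_edge (F_1122 IH) (path_edge (F_1121 IH) (path_edge (F_1115 IH) (path_edge (F_1120 IH) (path_edge (F_1119 IH) (path_edge (F_1118 IH) (path_edge (F_1117 IH) (path_edge (F_1116 IH) (path_edge (F_1115 IH) (path_edge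 (F_1114 IH) (path_edge (F_1113 IH) (path_edge (F_1110 IH) (path_edge (F_1112 IH) (path_edge (F_1111 IH) (path_edge (F_1110 IH) (path_edge (F_1109 IH) (path_edge (F_1108 IH) (path_edge (F_505 IH) (path_edge (F_1107 IH) (path_edge (F_1106 IH) (path_edge (F_254 IH) (path_edge (F_1105 IH) (path_edge (F_253 IH) (path_edge (F_320 IH) (path_edge (F_1104 IH) (path_edge (F_1103 IH) (path_edge (F_266 IH) (path_edge (F_1102 IH) (path_edge (F_1101 IH) (path_edge (F_54 IH) (path_edge (F_1100 IH) (path_edge (F_1099 IH) (path_edge (F_1098 IH) (path_edge (F_821 IH) (path_edge (F_1095 IH) (path_edge (F_1096 IH) (path_edge (F_1092 IH) (path_edge (F_1719 IH) (path_edge (F_1722 IH) (path_edge (F_11054 IH) (path_edge (F_11064 IH) (path_edge (F_11068 IH) (path_edge (F_11072 IH) (path_edge (F_11074 IH) (path_edge (F_11076 IH) (path_edge (F_11078 IH) (path_edge (F_11080 IH) (path_edge (F_11082 IH) (path_edge (F_11084 IH)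 (path_edge (F_11086 IH) (path_edge (F_11088 IH) (path_edge (F_11090 IH) (path_edge (F_11092 IH) (path_edge (F_11094 IH) (path_edge (F_11096 IH) (path_edge (F_11098 IH) (path_edge (F_11100 IH) (path_edge (F_11102 IH) (path_edge (F_11104 IH) (path_edge (F_11106 IH) (path_edge (F_11108 IH) (path_edge (F_11110 IH) (path_edge (F_11112 IH) (path_edge (F_11114 IH) (path_nil _))))))))))))))))))))))))))))))))))))))))))))))))))))))))))))))))))))))))))))))))))))))))))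
theorem F_11117 (IH : D.IHyp) : ed Gen.b V_2755 = (D.P 430) :=
  gap_rel RW_8 (path_edge (F_11115 IH) (path_edge (F_928 IH) (path_edge (F_1646 IH) (path_nil _))))
theorem F_11118 (IH : D.IHyp) : ed Gen.b (D.P 430) = V_2755 :=
  flipE D.rels D.S (hinv Gen.b) (F_11117 IH)
theorem F_11121 (IH : D.IHyp) : ed Gen.c V_2755 = V_2539 :=
  gap_rel RW_11 (path_edge (F_11115 IH) (path_edge (F_7954 IH) (path_edge (F_10080 IH) (path_nil _))))
theorem F_11123 (IH : D.IHyp) : ed Gen.c V_2601 = V_2754 :=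
  gap_rel RW_22 (path_edge (F_10469 IH) (path_edge (F_11121 IH) (path_edge (F_11113 IH) (path_nil _))))
theorem F_11124 (IH : D.IHyp) : ed Gen.c V_2754 = V_2601 :=
  flipE D.rels D.S (hinv Gen.c) (F_11123 IH)
theorem F_11125 (IH : D.IHyp) : ed Gen.d V_2755 = V_2755 :=
  gap_rel RW_29 (path_edge (F_11118 IH) (path_edge (F_138 IH) (path_edge (F_11117 IH) (path_nil _))))
theorem F_11126 (IH : D.IHyp) : ed Gen.i V_2753 = V_2755 :=
  gap_rel RW_6 (path_edge (F_11112 IH) (path_edge (F_11114 IH) (path_edge (F_11125 IH) (path_nil _))))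
theorem F_11127 (IH : D.IHyp) : ed Gen.i V_2755 = V_2753 :=
  flipE D.rels D.S (hinv Gen.i) (F_11126 IH)
theorem F_11128 (IH : D.IHyp) : V_2754 = V_2753 :=
  edge_fun (F_11114 IH) (F_11127 IH)
theorem F_11131 (IH : D.IHyp) : ed Gen.c V_2753 = V_2601 :=
  edge_congr (F_11124 IH) (F_11128 IH)
theorem F_11132 (IH : D.IHyp) : V_2752 = V_2601 :=
  edge_fun (F_11110 IH) (F_11131 IH)
theorem F_11137 (IH : D.IHyp) : ed Gen.b V_2601 = V_2751 :=
  edge_congr (F_11108 IH) (F_11132 IH)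
theorem F_11138 (IH : D.IHyp) : V_2597 = V_2751 :=
  edge_fun (F_10483 IH) (F_11137 IH)
theorem F_11142 (IH : D.IHyp) : V_2751 = V_2597 :=
  (F_11138 IH).symm
theorem F_11144 (IH : D.IHyp) : ed Gen.d V_2597 = V_2750 :=
  edge_congr (F_11106 IH) (F_11142 IH)
theorem F_11145 (IH : D.IHyp) : V_2598 = V_2750 :=
  edge_fun (F_10461 IH) (F_11144 IH)
theorem F_11147 (IH : D.IHyp) : V_2750 = V_2598 :=
  (F_11145 IH).symm
theorem F_11149 (IH : D.IHyp) : ed Gen.e V_2598 = V_2749 :=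
  edge_congr (F_11104 IH) (F_11147 IH)
theorem F_11155 (IH : D.IHyp) : ed Gen.h (D.P 409) = V_2756 :=
  rfl
theorem F_11156 (IH : D.IHyp) : ed Gen.h V_2756 = (D.P 409) :=
  flipE D.rels D.S (hinv Gen.h) (F_11155 IH)
theorem F_11157 (IH : D.IHyp) : ed Gen.b V_744 = V_2756 :=
  gap_rel RW_8 (path_edge (F_1264 IH) (path_edge (F_1145 IH) (path_edge (F_11156 IH) (path_nil _))))
theorem F_11158 (IH : D.IHyp) : ed Gen.b V_2756 = V_744 :=
  flipE D.rels D.S (hinv Gen.b) (F_11157 IH)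
theorem F_11159 (IH : D.IHyp) : ed Gen.c (D.P 411) = V_2756 :=
  gap_rel RW_11 (path_edge (F_1051 IH) (path_edge (F_1141 IH) (path_edge (F_11156 IH) (path_nil _))))
theorem F_11160 (IH : D.IHyp) : ed Gen.c V_2756 = (D.P 411) :=
  flipE D.rels D.S (hinv Gen.c) (F_11159 IH)
theorem F_11161 (IH : D.IHyp) : ed Gen.e V_2756 = V_2756 :=
  gap_rel RW_9 (path_edge (F_11155 IH) (path_edge (F_1148 IH) (path_edge (F_11156 IH) (path_nil _))))
theorem F_11164 (IH : D.IHyp) : ed Gen.h (D.P 291) = V_2757 :=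
  rfl
theorem F_11165 (IH : D.IHyp) : ed Gen.h V_2757 = (D.P 291) :=
  flipE D.rels D.S (hinv Gen.h) (F_11164 IH)
theorem F_11166 (IH : D.IHyp) : ed Gen.b (D.P 294) = V_2757 :=
  gap_rel RW_8 (path_edge (F_1155 IH) (path_edge (F_821 IH) (path_edge (F_11165 IH) (path_nil _))))
theorem F_11167 (IH : D.IHyp) : ed Gen.b V_2757 = (D.P 294) :=
  flipE D.rels D.S (hinv Gen.b) (F_11166 IH)
theorem F_11168 (IH : D.IHyp) : ed Gen.c V_744 = V_2757 :=
  gap_rel RW_11 (path_edge (F_1264 IH) (path_edge (F_1094 IH) (path_edge (F_11165 IH) (path_nil _))))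
theorem F_11169 (IH : D.IHyp) : ed Gen.c V_2757 = V_744 :=
  flipE D.rels D.S (hinv Gen.c) (F_11168 IH)
theorem F_11173 (IH : D.IHyp) : ed Gen.d V_2011 = V_2757 :=
  gap_rel RW_12 (path_edge (F_7806 IH) (path_edge (F_208 IH) (path_edge (F_1019 IH) (path_edge (F_961 IH) (path_edge (F_11165 IH) (path_nil _))))))
theorem F_11174 (IH : D.IHyp) : ed Gen.d V_2757 = V_2011 :=
  flipE D.rels D.S (hinv Gen.d) (F_11173 IH)
theorem F_11175 (IH : D.IHyp) : ed Gen.i V_2111 = V_2757 :=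
  gap_rel RW_36 (path_edge (F_8477 IH) (path_edge (F_8483 IH) (path_edge (F_11167 IH) (path_nil _))))
theorem F_11177 (IH : D.IHyp) : ed Gen.c V_2546 = V_2111 :=
  gap_rel RW_22 (path_edge (F_10304 IH) (path_edge (F_11169 IH) (path_edge (F_11175 IH) (path_nil _))))
theorem F_11178 (IH : D.IHyp) : ed Gen.c V_2111 = V_2546 :=
  flipE D.rels D.S (hinv Gen.c) (F_11177 IH)
theorem F_11179 (IH : D.IHyp) : V_1571 = V_2546 :=
  edge_fun (F_8474 IH) (F_11178 IH)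
theorem F_11180 (IH : D.IHyp) : V_2546 = V_1571 :=
  (F_11179 IH).symm
theorem F_11184 (IH : D.IHyp) : ed Gen.h V_1571 = V_2545 :=
  edge_congr (F_10301 IH) (F_11180 IH)
theorem F_11185 (IH : D.IHyp) : V_1572 = V_2545 :=
  edge_fun (F_5911 IH) (F_11184 IH)
theorem F_11187 (IH : D.IHyp) : ed Gen.i V_1571 = V_744 :=
  edge_congr (F_10303 IH) (F_11180 IH)
theorem F_11188 (IH : D.IHyp) : V_1570 = V_744 :=
  edge_fun (F_5909 IH) (F_11187 IH)
theorem F_11190 (IH : D.IHyp) : V_2545 = V_1572 :=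
  (F_11185 IH).symm
theorem F_11191 (IH : D.IHyp) : ed Gen.b V_1572 = V_2728 :=
  edge_congr (F_10976 IH) (F_11190 IH)
theorem F_11193 (IH : D.IHyp) : ed Gen.d V_1572 = V_827 :=
  edge_congr (F_10298 IH) (F_11190 IH)
theorem F_11194 (IH : D.IHyp) : V_1573 = V_827 :=
  edge_fun (F_5914 IH) (F_11193 IH)
theorem F_11198 (IH : D.IHyp) : ed Gen.f V_1572 = V_2601 :=
  edge_congr (F_10472 IH) (F_11190 IH)
theorem F_11203 (IH : D.IHyp) : ed Gen.d V_744 = V_1569 :=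
  edge_congr (F_5906 IH) (F_11188 IH)
theorem F_11204 (IH : D.IHyp) : V_745 = V_1569 :=
  edge_fun (F_1267 IH) (F_11203 IH)
theorem F_11208 (IH : D.IHyp) : ed Gen.i V_744 = V_1571 :=
  edge_congr (F_5908 IH) (F_11188 IH)
theorem F_11209 (IH : D.IHyp) : ed Gen.i V_1571 = V_744 :=
  flipE D.rels D.S (hinv Gen.i) (F_11208 IH)
theorem F_11210 (IH : D.IHyp) : ed Gen.d V_827 = V_1572 :=
  edge_congr (F_5915 IH) (F_11194 IH)
theorem F_11211 (IH : D.IHyp) : ed Gen.d V_1572 = V_827 :=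
  flipE D.rels D.S (hinv Gen.d) (F_11210 IH)
theorem F_11212 (IH : D.IHyp) : ed Gen.f V_827 = V_1574 :=
  edge_congr (F_5916 IH) (F_11194 IH)
theorem F_11213 (IH : D.IHyp) : V_2599 = V_1574 :=
  edge_fun (F_10482 IH) (F_11212 IH)
theorem F_11215 (IH : D.IHyp) : V_1569 = V_745 :=
  (F_11204 IH).symm
theorem F_11219 (IH : D.IHyp) : ed Gen.e V_745 = V_819 :=
  edge_congr (F_5902 IH) (F_11215 IH)
theorem F_11223 (IH : D.IHyp) : ed Gen.i V_745 = V_2108 :=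
  edge_congr (F_8387 IH) (F_11215 IH)
theorem F_11224 (IH : D.IHyp) : ed Gen.i V_2108 = V_745 :=
  flipE D.rels D.S (hinv Gen.i) (F_11223 IH)
theorem F_11225 (IH : D.IHyp) : ed Gen.b V_1574 = V_2598 :=
  edge_congr (F_10464 IH) (F_11213 IH)
theorem F_11235 (IH : D.IHyp) : ed Gen.i V_1574 = V_2731 :=
  edge_congr (F_11062 IH) (F_11213 IH)
theorem F_11236 (IH : D.IHyp) : ed Gen.i V_2731 = V_1574 :=
  flipE D.rels D.S (hinv Gen.i) (F_11235 IH)
theorem F_11237 (IH : D.IHyp) : ed Gen.i V_2756 = V_2105 :=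
  gap_rel RW_36 (path_edge (F_11157 IH) (path_edge (F_11209 IH) (path_edge (F_8400 IH) (path_nil _))))
theorem F_11238 (IH : D.IHyp) : ed Gen.i V_2105 = V_2756 :=
  flipE D.rels D.S (hinv Gen.i) (F_11237 IH)
theorem F_11239 (IH : D.IHyp) : ed Gen.h V_2728 = V_2105 :=
  gap_rel RW_31 (path_edge (F_11191 IH) (path_edge (F_5911 IH) (path_edge (F_8400 IH) (path_nil _))))
theorem F_11240 (IH : D.IHyp) : ed Gen.h V_2105 = V_2728 :=
  flipE D.rels D.S (hinv Gen.h) (F_11239 IH)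
theorem F_11241 (IH : D.IHyp) : ed Gen.h V_829 = V_2108 :=
  gap_rel RW_33 (path_edge (F_1732 IH) (path_edge (F_1728 IH) (path_edge (F_11211 IH) (path_edge (F_5911 IH) (path_edge (F_8392 IH) (path_nil _))))))
theorem F_11242 (IH : D.IHyp) : ed Gen.h V_2108 = V_829 :=
  flipE D.rels D.S (hinv Gen.h) (F_11241 IH)
theorem F_11243 (IH : D.IHyp) : ed Gen.h V_2597 = V_783 :=
  gap_rel RW_39 (path_edge (F_10991 IH) (path_edge (F_11240 IH) (path_edge (F_8410 IH) (path_nil _))))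
theorem F_11244 (IH : D.IHyp) : ed Gen.h V_783 = V_2597 :=
  flipE D.rels D.S (hinv Gen.h) (F_11243 IH)
theorem F_11245 (IH : D.IHyp) : ed Gen.b V_2749 = V_1575 :=
  gap_rel RW_13 (path_edge (F_11149 IH) (path_edge (F_11225 IH) (path_edge (F_5919 IH) (path_nil _))))
theorem F_11250 (IH : D.IHyp) : ed Gen.i V_1575 = V_2732 :=
  gap_rel RW_15 (path_edge (F_5918 IH) (path_edge (F_11236 IH) (path_edge (F_11064 IH) (path_nil _))))
theorem F_11251 (IH : D.IHyp) : ed Gen.i V_2732 = V_1575 :=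
  flipE D.rels D.S (hinv Gen.i) (F_11250 IH)
theorem F_11256 (IH : D.IHyp) : ed Gen.i V_746 = V_785 :=
  gap_rel RW_35 (path_edge (F_1270 IH) (path_edge (F_11224 IH) (path_edge (F_8385 IH) (path_nil _))))
theorem F_11260 (IH : D.IHyp) : ed Gen.e V_2046 = V_746 :=
  gap_rel RW_44 (path_edge (F_8153 IH) (path_edge (F_8944 IH) (path_edge (F_8935 IH) (path_edge (F_11219 IH) (path_edge (F_1271 IH) (path_nil _))))))
theorem F_11261 (IH : D.IHyp) : ed Gen.e V_746 = V_2046 :=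
  flipE D.rels D.S (hinv Gen.e) (F_11260 IH)
theorem F_11262 (IH : D.IHyp) : V_747 = V_2046 :=
  edge_fun (F_1273 IH) (F_11261 IH)
theorem F_11263 (IH : D.IHyp) : V_2046 = V_747 :=
  (F_11262 IH).symm
theorem F_11266 (IH : D.IHyp) : ed Gen.d V_747 = V_2045 :=
  edge_congr (F_8098 IH) (F_11263 IH)
theorem F_11267 (IH : D.IHyp) : V_748 = V_2045 :=
  edge_fun (F_1276 IH) (F_11266 IH)
theorem F_11270 (IH : D.IHyp) : ed Gen.f V_747 = V_1503 :=
  edge_congr (F_8152 IH) (F_11263 IH)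
theorem F_11271 (IH : D.IHyp) : ed Gen.f V_1503 = V_747 :=
  flipE D.rels D.S (hinv Gen.f) (F_11270 IH)
theorem F_11274 (IH : D.IHyp) : V_2045 = V_748 :=
  (F_11267 IH).symm
theorem F_11280 (IH : D.IHyp) : ed Gen.i V_748 = V_2044 :=
  edge_congr (F_8096 IH) (F_11274 IH)
theorem F_11284 (IH : D.IHyp) : ed Gen.e V_817 = V_829 :=
  gap_rel RW_9 (path_edge (F_1603 IH) (path_edge (F_8394 IH) (path_edge (F_11241 IH) (path_nil _))))
theorem F_11286 (IH : D.IHyp) : ed Gen.f V_868 = V_829 :=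
  gap_rel RW_10 (path_edge (F_8150 IH) (path_edge (F_8386 IH) (path_edge (F_11241 IH) (path_nil _))))
theorem F_11287 (IH : D.IHyp) : ed Gen.f V_829 = V_868 :=
  flipE D.rels D.S (hinv Gen.f) (F_11286 IH)
theorem F_11288 (IH : D.IHyp) : V_830 = V_868 :=
  edge_fun (F_1735 IH) (F_11287 IH)
theorem F_11289 (IH : D.IHyp) : V_868 = V_830 :=
  (F_11288 IH).symm
theorem F_11290 (IH : D.IHyp) : ed Gen.b V_830 = V_867 :=
  edge_congr (F_1818 IH) (F_11289 IH)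
theorem F_11291 (IH : D.IHyp) : V_2722 = V_867 :=
  edge_fun (F_11035 IH) (F_11290 IH)
theorem F_11292 (IH : D.IHyp) : ed Gen.b V_867 = V_830 :=
  flipE D.rels D.S (hinv Gen.b) (F_11290 IH)
theorem F_11293 (IH : D.IHyp) : ed Gen.c V_830 = V_869 :=
  edge_congr (F_1819 IH) (F_11289 IH)
theorem F_11304 (IH : D.IHyp) : ed Gen.d V_867 = V_2724 :=
  edge_congr (F_11012 IH) (F_11291 IH)
theorem F_11305 (IH : D.IHyp) : V_866 = V_2724 :=
  edge_fun (F_1816 IH) (F_11304 IH)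
theorem F_11309 (IH : D.IHyp) : V_2724 = V_866 :=
  (F_11305 IH).symm
theorem F_11310 (IH : D.IHyp) : ed Gen.b V_866 = V_2720 :=
  edge_congr (F_11018 IH) (F_11309 IH)
theorem F_11311 (IH : D.IHyp) : ed Gen.b V_2720 = V_866 :=
  flipE D.rels D.S (hinv Gen.b) (F_11310 IH)
theorem F_11316 (IH : D.IHyp) : ed Gen.h V_866 = V_2598 :=
  edge_congr (F_10998 IH) (F_11309 IH)
theorem F_11346 (IH : D.IHyp) : ed Gen.h V_2749 = V_865 :=
  gap_rel RW_38 (path_edge (F_11149 IH) (path_edge (F_11316 IH) (path_edge (F_1813 IH) (path_nil _))))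
theorem F_11347 (IH : D.IHyp) : ed Gen.h V_865 = V_2749 :=
  flipE D.rels D.S (hinv Gen.h) (F_11346 IH)
theorem F_11348 (IH : D.IHyp) : ed Gen.b V_865 = V_2719 :=
  gap_rel RW_13 (path_edge (F_1814 IH) (path_edge (F_11311 IH) (path_edge (F_10934 IH) (path_nil _))))
theorem F_11349 (IH : D.IHyp) : ed Gen.b V_2719 = V_865 :=
  flipE D.rels D.S (hinv Gen.b) (F_11348 IH)
theorem F_11354 (IH : D.IHyp) : ed Gen.e V_2124 = V_816 :=
  gap_rel RW_41 (path_edge (F_8524 IH) (path_edge (F_10048 IH) (path_edge (F_1733 IH) (path_edge (F_11284 IH) (path_edge (F_1600 IH) (path_nil _))))))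
theorem F_11356 (IH : D.IHyp) : ed Gen.h V_2595 = V_781 :=
  gap_rel RW_38 (path_edge (F_11010 IH) (path_edge (F_11244 IH) (path_edge (F_8435 IH) (path_nil _))))
theorem F_11357 (IH : D.IHyp) : ed Gen.h V_781 = V_2595 :=
  flipE D.rels D.S (hinv Gen.h) (F_11356 IH)
theorem F_11358 (IH : D.IHyp) : ed Gen.d V_1577 = V_2749 :=
  gap_rel RW_29 (path_edge (F_5922 IH) (path_edge (F_5920 IH) (path_edge (F_11245 IH) (path_nil _))))
theorem F_11359 (IH : D.IHyp) : ed Gen.d V_2749 = V_1577 :=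
  flipE D.rels D.S (hinv Gen.d) (F_11358 IH)
theorem F_11360 (IH : D.IHyp) : ed Gen.f V_1577 = V_2747 :=
  gap_rel RW_5 (path_edge (F_11359 IH) (path_edge (F_11101 IH) (path_edge (F_11099 IH) (path_nil _))))
theorem F_11361 (IH : D.IHyp) : ed Gen.f V_2747 = V_1577 :=
  flipE D.rels D.S (hinv Gen.f) (F_11360 IH)
theorem F_11362 (IH : D.IHyp) : ed Gen.h V_2748 = V_864 :=
  gap_rel RW_39 (path_edge (F_11102 IH) (path_edge (F_11347 IH) (path_edge (F_1811 IH) (path_nil _))))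
theorem F_11364 (IH : D.IHyp) : ed Gen.e V_1577 = V_2594 :=
  gap_rel RW_41 (path_edge (F_11359 IH) (path_edge (F_11149 IH) (path_edge (F_10461 IH) (path_edge (F_11006 IH) (path_edge (F_10455 IH) (path_nil _))))))
theorem F_11365 (IH : D.IHyp) : ed Gen.e V_2594 = V_1577 :=
  flipE D.rels D.S (hinv Gen.e) (F_11364 IH)
theorem F_11366 (IH : D.IHyp) : ed Gen.i V_1576 = V_2733 :=
  gap_rel RW_6 (path_edge (F_5920 IH) (path_edge (F_11251 IH) (path_edge (F_11068 IH) (path_nil _))))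
theorem F_11367 (IH : D.IHyp) : ed Gen.i V_2733 = V_1576 :=
  flipE D.rels D.S (hinv Gen.i) (F_11366 IH)
theorem F_11368 (IH : D.IHyp) : ed Gen.b V_864 = V_2718 :=
  gap_rel RW_26 (path_edge (F_1812 IH) (path_edge (F_11349 IH) (path_edge (F_10932 IH) (path_nil _))))
theorem F_11373 (IH : D.IHyp) : ed Gen.c V_2166 = V_831 :=
  gap_rel RW_14 (path_edge (F_8646 IH) (path_edge (F_11293 IH) (path_edge (F_1739 IH) (path_nil _))))
theorem F_11385 (IH : D.IHyp) : ed Gen.f V_814 = V_2126 :=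
  gap_rel RW_47 (path_edge (F_1597 IH) (path_edge (F_1599 IH) (path_edge (F_11354 IH) (path_edge (F_8527 IH) (path_edge (F_8529 IH) (path_nil _))))))
theorem F_11386 (IH : D.IHyp) : ed Gen.f V_2126 = V_814 :=
  flipE D.rels D.S (hinv Gen.f) (F_11385 IH)
theorem F_11387 (IH : D.IHyp) : ed Gen.d V_2593 = V_779 :=
  gap_rel RW_12 (path_edge (F_10454 IH) (path_edge (F_10456 IH) (path_edge (F_11357 IH) (path_edge (F_1342 IH) (path_edge (F_1340 IH) (path_nil _))))))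
theorem F_11388 (IH : D.IHyp) : ed Gen.d V_779 = V_2593 :=
  flipE D.rels D.S (hinv Gen.d) (F_11387 IH)
theorem F_11389 (IH : D.IHyp) : ed Gen.i V_2734 = V_1577 :=
  gap_rel RW_36 (path_edge (F_11071 IH) (path_edge (F_11366 IH) (path_edge (F_5923 IH) (path_nil _))))
theorem F_11390 (IH : D.IHyp) : ed Gen.i V_1577 = V_2734 :=
  flipE D.rels D.S (hinv Gen.i) (F_11389 IH)
theorem F_11391 (IH : D.IHyp) : ed Gen.i V_1578 = V_2735 :=
  gap_rel RW_2 (path_edge (F_5924 IH) (path_edge (F_11389 IH) (path_edge (F_11074 IH) (path_nil _))))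
theorem F_11392 (IH : D.IHyp) : ed Gen.i V_2735 = V_1578 :=
  flipE D.rels D.S (hinv Gen.i) (F_11391 IH)
theorem F_11395 (IH : D.IHyp) : ed Gen.d V_862 = V_2746 :=
  gap_rel RW_12 (path_edge (F_1808 IH) (path_edge (F_1810 IH) (path_edge (F_11362 IH) (path_edge (F_11099 IH) (path_edge (F_11097 IH) (path_nil _))))))
theorem F_11396 (IH : D.IHyp) : ed Gen.d V_2746 = V_862 :=
  flipE D.rels D.S (hinv Gen.d) (F_11395 IH)
theorem F_11397 (IH : D.IHyp) : ed Gen.b V_2717 = V_863 :=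
  gap_rel RW_4 (path_edge (F_10931 IH) (path_edge (F_11368 IH) (path_edge (F_1809 IH) (path_nil _))))
theorem F_11398 (IH : D.IHyp) : ed Gen.b V_863 = V_2717 :=
  flipE D.rels D.S (hinv Gen.b) (F_11397 IH)
theorem F_11399 (IH : D.IHyp) : ed Gen.e V_1576 = V_930 :=
  gap_rel RW_18 (path_edge (F_11367 IH) (path_edge (F_11070 IH) (path_edge (F_2314 IH) (path_nil _))))
theorem F_11408 (IH : D.IHyp) : ed Gen.b V_967 = V_2126 :=
  gap_rel RW_26 (path_edge (F_2393 IH) (path_edge (F_8930 IH) (path_edge (F_11386 IH) (path_nil _))))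
theorem F_11409 (IH : D.IHyp) : ed Gen.b V_2126 = V_967 :=
  flipE D.rels D.S (hinv Gen.b) (F_11408 IH)
theorem F_11410 (IH : D.IHyp) : ed Gen.f V_813 = V_2127 :=
  gap_rel RW_5 (path_edge (F_1595 IH) (path_edge (F_11386 IH) (path_edge (F_8531 IH) (path_nil _))))
theorem F_11412 (IH : D.IHyp) : ed Gen.b V_966 = V_2127 :=
  gap_rel RW_4 (path_edge (F_2391 IH) (path_edge (F_11409 IH) (path_edge (F_8531 IH) (path_nil _))))
theorem F_11413 (IH : D.IHyp) : ed Gen.b V_2127 = V_966 :=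
  flipE D.rels D.S (hinv Gen.b) (F_11412 IH)
theorem F_11414 (IH : D.IHyp) : V_2128 = V_966 :=
  edge_fun (F_8532 IH) (F_11413 IH)
theorem F_11415 (IH : D.IHyp) : ed Gen.b V_966 = V_2127 :=
  edge_congr (F_8533 IH) (F_11414 IH)
theorem F_11416 (IH : D.IHyp) : ed Gen.b V_2127 = V_966 :=
  flipE D.rels D.S (hinv Gen.b) (F_11415 IH)
theorem F_11417 (IH : D.IHyp) : ed Gen.c V_966 = V_2129 :=
  edge_congr (F_8534 IH) (F_11414 IH)
theorem F_11421 (IH : D.IHyp) : ed Gen.i V_777 = V_2593 :=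
  gap_rel RW_6 (path_edge (F_1337 IH) (path_edge (F_1339 IH) (path_edge (F_11387 IH) (path_nil _))))
theorem F_11422 (IH : D.IHyp) : ed Gen.i V_2593 = V_777 :=
  flipE D.rels D.S (hinv Gen.i) (F_11421 IH)
theorem F_11423 (IH : D.IHyp) : V_2592 = V_777 :=
  edge_fun (F_10452 IH) (F_11422 IH)
theorem F_11429 (IH : D.IHyp) : ed Gen.i V_777 = V_2593 :=
  edge_congr (F_10451 IH) (F_11423 IH)
theorem F_11430 (IH : D.IHyp) : ed Gen.i V_2593 = V_777 :=
  flipE D.rels D.S (hinv Gen.i) (F_11429 IH)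
theorem F_11437 (IH : D.IHyp) : ed Gen.b V_930 = V_2594 :=
  gap_rel RW_13 (path_edge (F_11399 IH) (path_edge (F_5923 IH) (path_edge (F_11365 IH) (path_nil _))))
theorem F_11439 (IH : D.IHyp) : ed Gen.d V_1580 = V_2735 :=
  gap_rel RW_23 (path_edge (F_5928 IH) (path_edge (F_5926 IH) (path_edge (F_11392 IH) (path_nil _))))
theorem F_11440 (IH : D.IHyp) : ed Gen.d V_2735 = V_1580 :=
  flipE D.rels D.S (hinv Gen.d) (F_11439 IH)
theorem F_11441 (IH : D.IHyp) : V_2736 = V_1580 :=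
  edge_fun (F_11075 IH) (F_11440 IH)
theorem F_11442 (IH : D.IHyp) : ed Gen.d V_1580 = V_2735 :=
  edge_congr (F_11076 IH) (F_11441 IH)
theorem F_11443 (IH : D.IHyp) : ed Gen.d V_2735 = V_1580 :=
  flipE D.rels D.S (hinv Gen.d) (F_11442 IH)
theorem F_11444 (IH : D.IHyp) : ed Gen.i V_1580 = V_2737 :=
  edge_congr (F_11077 IH) (F_11441 IH)
theorem F_11445 (IH : D.IHyp) : V_1579 = V_2737 :=
  edge_fun (F_5929 IH) (F_11444 IH)
theorem F_11447 (IH : D.IHyp) : V_2737 = V_1579 :=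
  (F_11445 IH).symm
theorem F_11448 (IH : D.IHyp) : ed Gen.h V_1579 = V_2738 :=
  edge_congr (F_11079 IH) (F_11447 IH)
theorem F_11451 (IH : D.IHyp) : ed Gen.i V_860 = V_2746 :=
  gap_rel RW_6 (path_edge (F_1804 IH) (path_edge (F_1806 IH) (path_edge (F_11396 IH) (path_nil _))))
theorem F_11452 (IH : D.IHyp) : ed Gen.i V_2746 = V_860 :=
  flipE D.rels D.S (hinv Gen.i) (F_11451 IH)
theorem F_11453 (IH : D.IHyp) : V_2745 = V_860 :=
  edge_fun (F_11096 IH) (F_11452 IH)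
theorem F_11454 (IH : D.IHyp) : ed Gen.d V_860 = V_2744 :=
  edge_congr (F_11094 IH) (F_11453 IH)
theorem F_11455 (IH : D.IHyp) : V_861 = V_2744 :=
  edge_fun (F_1803 IH) (F_11454 IH)
theorem F_11457 (IH : D.IHyp) : ed Gen.i V_860 = V_2746 :=
  edge_congr (F_11095 IH) (F_11453 IH)
theorem F_11458 (IH : D.IHyp) : ed Gen.i V_2746 = V_860 :=
  flipE D.rels D.S (hinv Gen.i) (F_11457 IH)
theorem F_11459 (IH : D.IHyp) : V_2744 = V_861 :=
  (F_11455 IH).symm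
theorem F_11460 (IH : D.IHyp) : ed Gen.c V_861 = V_2743 :=
  edge_congr (F_11092 IH) (F_11459 IH)
theorem F_11464 (IH : D.IHyp) : ed Gen.b V_862 = V_2716 :=
  gap_rel RW_8 (path_edge (F_1808 IH) (path_edge (F_11397 IH) (path_edge (F_10928 IH) (path_nil _))))
theorem F_11466 (IH : D.IHyp) : ed Gen.b V_2715 = V_861 :=
  gap_rel RW_17 (path_edge (F_10927 IH) (path_edge (F_11464 IH) (path_edge (F_1805 IH) (path_nil _))))
theorem F_11468 (IH : D.IHyp) : ed Gen.b V_2593 = V_931 :=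
  gap_rel RW_8 (path_edge (F_10454 IH) (path_edge (F_11437 IH) (path_edge (F_2317 IH) (path_nil _))))
theorem F_11474 (IH : D.IHyp) : ed Gen.f V_2129 = V_811 :=
  gap_rel RW_1 (path_edge (F_11417 IH) (path_edge (F_8933 IH) (path_edge (F_1590 IH) (path_nil _))))
theorem F_11475 (IH : D.IHyp) : ed Gen.f V_811 = V_2129 :=
  flipE D.rels D.S (hinv Gen.f) (F_11474 IH)
theorem F_11476 (IH : D.IHyp) : ed Gen.f V_2130 = V_809 :=
  gap_rel RW_5 (path_edge (F_8536 IH) (path_edge (F_11475 IH) (path_edge (F_2186 IH) (path_nil _))))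
theorem F_11477 (IH : D.IHyp) : ed Gen.f V_809 = V_2130 :=
  flipE D.rels D.S (hinv Gen.f) (F_11476 IH)
theorem F_11478 (IH : D.IHyp) : ed Gen.b V_932 = V_779 :=
  gap_rel RW_4 (path_edge (F_2319 IH) (path_edge (F_11468 IH) (path_edge (F_11388 IH) (path_nil _))))
theorem F_11479 (IH : D.IHyp) : ed Gen.b V_779 = V_932 :=
  flipE D.rels D.S (hinv Gen.b) (F_11478 IH)
theorem F_11480 (IH : D.IHyp) : ed Gen.b V_860 = V_2714 :=
  gap_rel RW_4 (path_edge (F_1804 IH) (path_edge (F_11466 IH) (path_edge (F_10924 IH) (path_nil _))))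
theorem F_11481 (IH : D.IHyp) : ed Gen.b V_2714 = V_860 :=
  flipE D.rels D.S (hinv Gen.b) (F_11480 IH)
theorem F_11492 (IH : D.IHyp) : ed Gen.f V_808 = V_2132 :=
  gap_rel RW_10 (path_edge (F_1585 IH) (path_edge (F_11476 IH) (path_edge (F_10077 IH) (path_nil _))))
theorem F_11493 (IH : D.IHyp) : ed Gen.f V_2132 = V_808 :=
  flipE D.rels D.S (hinv Gen.f) (F_11492 IH)
theorem F_11517 (IH : D.IHyp) : ed Gen.d V_806 = V_2132 :=
  gap_rel RW_40 (path_edge (F_1581 IH) (path_edge (F_1583 IH) (path_edge (F_11493 IH) (path_nil _))))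
theorem F_11518 (IH : D.IHyp) : ed Gen.d V_2132 = V_806 :=
  flipE D.rels D.S (hinv Gen.d) (F_11517 IH)
theorem F_11519 (IH : D.IHyp) : V_2133 = V_806 :=
  edge_fun (F_8542 IH) (F_11518 IH)
theorem F_11520 (IH : D.IHyp) : ed Gen.d V_806 = V_2132 :=
  edge_congr (F_8543 IH) (F_11519 IH)
theorem F_11521 (IH : D.IHyp) : ed Gen.d V_2132 = V_806 :=
  flipE D.rels D.S (hinv Gen.d) (F_11520 IH)
theorem F_11550 (IH : D.IHyp) : ed Gen.h V_2540 = V_2758 :=
  rfl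
theorem F_11551 (IH : D.IHyp) : ed Gen.h V_2758 = V_2540 :=
  flipE D.rels D.S (hinv Gen.h) (F_11550 IH)
theorem F_11552 (IH : D.IHyp) : ed Gen.f V_744 = V_2758 :=
  gap_rel RW_10 (path_edge (F_1264 IH) (path_edge (F_10095 IH) (path_edge (F_11551 IH) (path_nil _))))
theorem F_11553 (IH : D.IHyp) : ed Gen.f V_2758 = V_744 :=
  flipE D.rels D.S (hinv Gen.f) (F_11552 IH)
theorem F_11554 (IH : D.IHyp) : ed Gen.d V_2758 = V_746 :=
  gap_rel RW_40 (path_edge (F_11552 IH) (path_edge (F_1268 IH) (path_edge (F_1271 IH) (path_nil _))))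
theorem F_11555 (IH : D.IHyp) : ed Gen.d V_746 = V_2758 :=
  flipE D.rels D.S (hinv Gen.d) (F_11554 IH)
theorem F_11695 (IH : D.IHyp) : ed Gen.h V_1618 = V_2763 :=
  rfl
theorem F_11696 (IH : D.IHyp) : ed Gen.h V_2763 = V_1618 :=
  flipE D.rels D.S (hinv Gen.h) (F_11695 IH)
theorem F_11700 (IH : D.IHyp) : ed Gen.d V_2646 = V_2763 :=
  gap_rel RW_12 (path_edge (F_10694 IH) (path_edge (F_8240 IH) (path_edge (F_6003 IH) (path_edge (F_6005 IH) (path_edge (F_11696 IH) (path_nil _))))))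
theorem F_11703 (IH : D.IHyp) : ed Gen.f V_2646 = V_2764 :=
  rfl
theorem F_11704 (IH : D.IHyp) : ed Gen.f V_2764 = V_2646 :=
  flipE D.rels D.S (hinv Gen.f) (F_11703 IH)
theorem F_11709 (IH : D.IHyp) : ed Gen.i V_2764 = V_2764 :=
  gap_rel RW_35 (path_edge (F_11703 IH) (path_edge (F_10695 IH) (path_edge (F_11704 IH) (path_nil _))))
theorem F_11710 (IH : D.IHyp) : ed Gen.e V_2764 = V_2765 :=
  rfl
theorem F_11711 (IH : D.IHyp) : ed Gen.e V_2765 = V_2764 :=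
  flipE D.rels D.S (hinv Gen.e) (F_11710 IH)
theorem F_11714 (IH : D.IHyp) : ed Gen.i V_2765 = V_2765 :=
  gap_rel RW_15 (path_edge (F_11710 IH) (path_edge (F_11709 IH) (path_edge (F_11711 IH) (path_nil _))))
theorem F_11715 (IH : D.IHyp) : ed Gen.d V_2765 = V_2766 :=
  rfl
theorem F_11716 (IH : D.IHyp) : ed Gen.d V_2766 = V_2765 :=
  flipE D.rels D.S (hinv Gen.d) (F_11715 IH)
theorem F_11717 (IH : D.IHyp) : ed Gen.i V_2766 = V_2766 :=
  gap_rel RW_6 (path_edge (F_11715 IH) (path_edge (F_11714 IH) (path_edge (F_11716 IH) (path_nil _))))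
theorem F_11718 (IH : D.IHyp) : ed Gen.b V_2766 = V_2767 :=
  rfl
theorem F_11719 (IH : D.IHyp) : ed Gen.b V_2767 = V_2766 :=
  flipE D.rels D.S (hinv Gen.b) (F_11718 IH)
theorem F_11720 (IH : D.IHyp) : ed Gen.i V_2767 = V_2767 :=
  gap_rel RW_36 (path_edge (F_11718 IH) (path_edge (F_11717 IH) (path_edge (F_11719 IH) (path_nil _))))
theorem F_11721 (IH : D.IHyp) : ed Gen.c V_2767 = V_2768 :=
  rfl
theorem F_11722 (IH : D.IHyp) : ed Gen.c V_2768 = V_2767 :=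
  flipE D.rels D.S (hinv Gen.c) (F_11721 IH)
theorem F_11723 (IH : D.IHyp) : ed Gen.i V_2768 = V_2768 :=
  gap_rel RW_2 (path_edge (F_11721 IH) (path_edge (F_11720 IH) (path_edge (F_11722 IH) (path_nil _))))
theorem F_11724 (IH : D.IHyp) : ed Gen.d V_2768 = V_2769 :=
  rfl
theorem F_11725 (IH : D.IHyp) : ed Gen.d V_2769 = V_2768 :=
  flipE D.rels D.S (hinv Gen.d) (F_11724 IH)
theorem F_11726 (IH : D.IHyp) : ed Gen.i V_2769 = V_2769 :=
  gap_rel RW_6 (path_edge (F_11724 IH) (path_edge (F_11723 IH) (path_edge (F_11725 IH) (path_nil _))))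
theorem F_11727 (IH : D.IHyp) : ed Gen.h V_2769 = V_2770 :=
  rfl
theorem F_11728 (IH : D.IHyp) : ed Gen.h V_2770 = V_2769 :=
  flipE D.rels D.S (hinv Gen.h) (F_11727 IH)
theorem F_11729 (IH : D.IHyp) : ed Gen.d V_2770 = V_2771 :=
  rfl
theorem F_11730 (IH : D.IHyp) : ed Gen.d V_2771 = V_2770 :=
  flipE D.rels D.S (hinv Gen.d) (F_11729 IH)
theorem F_11731 (IH : D.IHyp) : ed Gen.f V_2771 = V_2772 :=
  rfl
theorem F_11732 (IH : D.IHyp) : ed Gen.f V_2772 = V_2771 :=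
  flipE D.rels D.S (hinv Gen.f) (F_11731 IH)
theorem F_11733 (IH : D.IHyp) : ed Gen.e V_2772 = V_2773 :=
  rfl
theorem F_11734 (IH : D.IHyp) : ed Gen.e V_2773 = V_2772 :=
  flipE D.rels D.S (hinv Gen.e) (F_11733 IH)
theorem F_11735 (IH : D.IHyp) : ed Gen.d V_2773 = V_2774 :=
  rfl
theorem F_11736 (IH : D.IHyp) : ed Gen.d V_2774 = V_2773 :=
  flipE D.rels D.S (hinv Gen.d) (F_11735 IH)
theorem F_11737 (IH : D.IHyp) : ed Gen.b V_2774 = V_2775 :=
  rfl
theorem F_11738 (IH : D.IHyp) : ed Gen.b V_2775 = V_2774 :=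
  flipE D.rels D.S (hinv Gen.b) (F_11737 IH)
theorem F_11739 (IH : D.IHyp) : ed Gen.c V_2775 = V_2776 :=
  rfl
theorem F_11740 (IH : D.IHyp) : ed Gen.c V_2776 = V_2775 :=
  flipE D.rels D.S (hinv Gen.c) (F_11739 IH)
theorem F_11741 (IH : D.IHyp) : ed Gen.d V_2776 = V_2777 :=
  rfl
theorem F_11742 (IH : D.IHyp) : ed Gen.d V_2777 = V_2776 :=
  flipE D.rels D.S (hinv Gen.d) (F_11741 IH)
theorem F_11743 (IH : D.IHyp) : ed Gen.i V_2777 = V_2778 :=
  rfl
theorem F_11744 (IH : D.IHyp) : ed Gen.i V_2778 = V_2777 :=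
  flipE D.rels D.S (hinv Gen.i) (F_11743 IH)
theorem F_11745 (IH : D.IHyp) : ed Gen.h V_2778 = V_2779 :=
  rfl
theorem F_11746 (IH : D.IHyp) : ed Gen.h V_2779 = V_2778 :=
  flipE D.rels D.S (hinv Gen.h) (F_11745 IH)
theorem F_11747 (IH : D.IHyp) : ed Gen.d V_2779 = V_2780 :=
  rfl
theorem F_11748 (IH : D.IHyp) : ed Gen.d V_2780 = V_2779 :=
  flipE D.rels D.S (hinv Gen.d) (F_11747 IH)
theorem F_11749 (IH : D.IHyp) : ed Gen.f V_2780 = V_2781 :=
  rfl
theorem F_11750 (IH : D.IHyp) : ed Gen.f V_2781 = V_2780 :=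
  flipE D.rels D.S (hinv Gen.f) (F_11749 IH)
theorem F_11751 (IH : D.IHyp) : ed Gen.e V_2781 = V_2782 :=
  rfl
theorem F_11752 (IH : D.IHyp) : ed Gen.e V_2782 = V_2781 :=
  flipE D.rels D.S (hinv Gen.e) (F_11751 IH)
theorem F_11753 (IH : D.IHyp) : ed Gen.d V_2782 = V_2783 :=
  rfl
theorem F_11754 (IH : D.IHyp) : ed Gen.d V_2783 = V_2782 :=
  flipE D.rels D.S (hinv Gen.d) (F_11753 IH)
theorem F_11755 (IH : D.IHyp) : ed Gen.b V_2783 = V_2784 :=
  rfl
theorem F_11756 (IH : D.IHyp) : ed Gen.b V_2784 = V_2783 :=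
  flipE D.rels D.S (hinv Gen.b) (F_11755 IH)
theorem F_11757 (IH : D.IHyp) : ed Gen.c V_2784 = V_2785 :=
  rfl
theorem F_11758 (IH : D.IHyp) : ed Gen.c V_2785 = V_2784 :=
  flipE D.rels D.S (hinv Gen.c) (F_11757 IH)
theorem F_11759 (IH : D.IHyp) : ed Gen.d V_2785 = V_2786 :=
  rfl
theorem F_11760 (IH : D.IHyp) : ed Gen.d V_2786 = V_2785 :=
  flipE D.rels D.S (hinv Gen.d) (F_11759 IH)
theorem F_11761 (IH : D.IHyp) : ed Gen.i V_2786 = V_2787 :=
  rfl
theorem F_11762 (IH : D.IHyp) : ed Gen.i V_2787 = V_2786 :=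
  flipE D.rels D.S (hinv Gen.i) (F_11761 IH)
theorem F_11763 (IH : D.IHyp) : ed Gen.h V_2787 = V_2788 :=
  rfl
theorem F_11764 (IH : D.IHyp) : ed Gen.h V_2788 = V_2787 :=
  flipE D.rels D.S (hinv Gen.h) (F_11763 IH)
theorem F_11765 (IH : D.IHyp) : ed Gen.d V_2788 = V_2789 :=
  rfl
theorem F_11766 (IH : D.IHyp) : ed Gen.d V_2789 = V_2788 :=
  flipE D.rels D.S (hinv Gen.d) (F_11765 IH)
theorem F_11767 (IH : D.IHyp) : ed Gen.f V_2789 = V_2790 :=
  rfl
theorem F_11768 (IH : D.IHyp) : ed Gen.f V_2790 = V_2789 :=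
  flipE D.rels D.S (hinv Gen.f) (F_11767 IH)
theorem F_11769 (IH : D.IHyp) : ed Gen.e V_2790 = V_2791 :=
  rfl
theorem F_11770 (IH : D.IHyp) : ed Gen.e V_2791 = V_2790 :=
  flipE D.rels D.S (hinv Gen.e) (F_11769 IH)
theorem F_11771 (IH : D.IHyp) : ed Gen.d V_2791 = V_2792 :=
  rfl
theorem F_11772 (IH : D.IHyp) : ed Gen.d V_2792 = V_2791 :=
  flipE D.rels D.S (hinv Gen.d) (F_11771 IH)
theorem F_11773 (IH : D.IHyp) : ed Gen.b V_2792 = V_2793 :=
  rfl
theorem F_11774 (IH : D.IHyp) : ed Gen.b V_2793 = V_2792 :=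
  flipE D.rels D.S (hinv Gen.b) (F_11773 IH)
theorem F_11775 (IH : D.IHyp) : ed Gen.c V_2793 = V_2794 :=
  rfl
theorem F_11776 (IH : D.IHyp) : ed Gen.c V_2794 = V_2793 :=
  flipE D.rels D.S (hinv Gen.c) (F_11775 IH)
theorem F_11777 (IH : D.IHyp) : ed Gen.d V_2794 = V_2795 :=
  rfl
theorem F_11778 (IH : D.IHyp) : ed Gen.d V_2795 = V_2794 :=
  flipE D.rels D.S (hinv Gen.d) (F_11777 IH)
theorem F_11779 (IH : D.IHyp) : ed Gen.i V_2795 = V_2796 :=
  rfl
theorem F_11780 (IH : D.IHyp) : ed Gen.i V_2796 = V_2795 :=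
  flipE D.rels D.S (hinv Gen.i) (F_11779 IH)
theorem F_11781 (IH : D.IHyp) : ed Gen.h V_2796 = V_2797 :=
  rfl
theorem F_11782 (IH : D.IHyp) : ed Gen.h V_2797 = V_2796 :=
  flipE D.rels D.S (hinv Gen.h) (F_11781 IH)
theorem F_11783 (IH : D.IHyp) : ed Gen.d V_2797 = V_2798 :=
  rfl
theorem F_11784 (IH : D.IHyp) : ed Gen.d V_2798 = V_2797 :=
  flipE D.rels D.S (hinv Gen.d) (F_11783 IH)
theorem F_11785 (IH : D.IHyp) : ed Gen.f V_2798 = V_2799 :=
  rfl
theorem F_11786 (IH : D.IHyp) : ed Gen.f V_2799 = V_2798 :=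
  flipE D.rels D.S (hinv Gen.f) (F_11785 IH)
theorem F_11787 (IH : D.IHyp) : ed Gen.e V_2799 = V_2800 :=
  rfl
theorem F_11788 (IH : D.IHyp) : ed Gen.e V_2800 = V_2799 :=
  flipE D.rels D.S (hinv Gen.e) (F_11787 IH)
theorem F_11789 (IH : D.IHyp) : ed Gen.d V_2800 = V_2801 :=
  rfl
theorem F_11790 (IH : D.IHyp) : ed Gen.d V_2801 = V_2800 :=
  flipE D.rels D.S (hinv Gen.d) (F_11789 IH)
theorem F_11791 (IH : D.IHyp) : ed Gen.b V_2801 = V_2802 :=
  rfl
theorem F_11792 (IH : D.IHyp) : ed Gen.b V_2802 = V_2801 :=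
  flipE D.rels D.S (hinv Gen.b) (F_11791 IH)
theorem F_11793 (IH : D.IHyp) : ed Gen.c V_2802 = V_2803 :=
  rfl
theorem F_11794 (IH : D.IHyp) : ed Gen.c V_2803 = V_2802 :=
  flipE D.rels D.S (hinv Gen.c) (F_11793 IH)
theorem F_11795 (IH : D.IHyp) : ed Gen.d V_2803 = V_2804 :=
  rfl
theorem F_11796 (IH : D.IHyp) : ed Gen.d V_2804 = V_2803 :=
  flipE D.rels D.S (hinv Gen.d) (F_11795 IH)
theorem F_11797 (IH : D.IHyp) : ed Gen.i V_2804 = V_2805 :=
  rfl
theorem F_11798 (IH : D.IHyp) : ed Gen.i V_2805 = V_2804 :=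
  flipE D.rels D.S (hinv Gen.i) (F_11797 IH)
theorem F_11799 (IH : D.IHyp) : ed Gen.h V_2805 = V_2806 :=
  rfl
theorem F_11800 (IH : D.IHyp) : ed Gen.h V_2806 = V_2805 :=
  flipE D.rels D.S (hinv Gen.h) (F_11799 IH)
theorem F_11801 (IH : D.IHyp) : ed Gen.d V_2806 = V_2807 :=
  rfl
theorem F_11802 (IH : D.IHyp) : ed Gen.d V_2807 = V_2806 :=
  flipE D.rels D.S (hinv Gen.d) (F_11801 IH)
theorem F_11803 (IH : D.IHyp) : ed Gen.f V_2807 = V_2808 :=
  rfl
theorem F_11804 (IH : D.IHyp) : ed Gen.f V_2808 = V_2807 :=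
  flipE D.rels D.S (hinv Gen.f) (F_11803 IH)
theorem F_11805 (IH : D.IHyp) : ed Gen.e V_2808 = V_2809 :=
  rfl
theorem F_11806 (IH : D.IHyp) : ed Gen.e V_2809 = V_2808 :=
  flipE D.rels D.S (hinv Gen.e) (F_11805 IH)
theorem F_11807 (IH : D.IHyp) : ed Gen.d V_2809 = V_2810 :=
  rfl
theorem F_11808 (IH : D.IHyp) : ed Gen.d V_2810 = V_2809 :=
  flipE D.rels D.S (hinv Gen.d) (F_11807 IH)
theorem F_11809 (IH : D.IHyp) : ed Gen.b V_2810 = V_2811 :=
  rfl
theorem F_11810 (IH : D.IHyp) : ed Gen.b V_2811 = V_2810 :=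
  flipE D.rels D.S (hinv Gen.b) (F_11809 IH)
theorem F_11811 (IH : D.IHyp) : ed Gen.c V_2811 = V_2812 :=
  rfl
theorem F_11812 (IH : D.IHyp) : ed Gen.c V_2812 = V_2811 :=
  flipE D.rels D.S (hinv Gen.c) (F_11811 IH)
theorem F_11813 (IH : D.IHyp) : ed Gen.d V_2812 = V_2813 :=
  rfl
theorem F_11814 (IH : D.IHyp) : ed Gen.d V_2813 = V_2812 :=
  flipE D.rels D.S (hinv Gen.d) (F_11813 IH)
theorem F_11815 (IH : D.IHyp) : ed Gen.i V_2813 = V_2814 :=
  rfl
theorem F_11816 (IH : D.IHyp) : ed Gen.i V_2814 = V_2813 :=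
  flipE D.rels D.S (hinv Gen.i) (F_11815 IH)
theorem F_11817 (IH : D.IHyp) : ed Gen.h V_2814 = V_2815 :=
  rfl
theorem F_11818 (IH : D.IHyp) : ed Gen.h V_2815 = V_2814 :=
  flipE D.rels D.S (hinv Gen.h) (F_11817 IH)
theorem F_11819 (IH : D.IHyp) : ed Gen.d V_2815 = V_2816 :=
  rfl
theorem F_11820 (IH : D.IHyp) : ed Gen.d V_2816 = V_2815 :=
  flipE D.rels D.S (hinv Gen.d) (F_11819 IH)
theorem F_11821 (IH : D.IHyp) : ed Gen.f V_2816 = V_2817 :=
  rfl
theorem F_11822 (IH : D.IHyp) : ed Gen.f V_2817 = V_2816 :=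
  flipE D.rels D.S (hinv Gen.f) (F_11821 IH)
theorem F_11823 (IH : D.IHyp) : ed Gen.e V_2817 = V_2818 :=
  rfl
theorem F_11824 (IH : D.IHyp) : ed Gen.e V_2818 = V_2817 :=
  flipE D.rels D.S (hinv Gen.e) (F_11823 IH)
theorem F_11825 (IH : D.IHyp) : ed Gen.d V_2818 = V_2819 :=
  rfl
theorem F_11826 (IH : D.IHyp) : ed Gen.d V_2819 = V_2818 :=
  flipE D.rels D.S (hinv Gen.d) (F_11825 IH)
theorem F_11827 (IH : D.IHyp) : ed Gen.b V_2819 = V_2820 :=
  rfl
theorem F_11828 (IH : D.IHyp) : ed Gen.b V_2820 = V_2819 :=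
  flipE D.rels D.S (hinv Gen.b) (F_11827 IH)
theorem F_11829 (IH : D.IHyp) : ed Gen.c V_2820 = V_2821 :=
  rfl
theorem F_11830 (IH : D.IHyp) : ed Gen.c V_2821 = V_2820 :=
  flipE D.rels D.S (hinv Gen.c) (F_11829 IH)
theorem F_11831 (IH : D.IHyp) : ed Gen.d V_2821 = V_2822 :=
  rfl
theorem F_11832 (IH : D.IHyp) : ed Gen.d V_2822 = V_2821 :=
  flipE D.rels D.S (hinv Gen.d) (F_11831 IH)
theorem F_11833 (IH : D.IHyp) : ed Gen.i V_2822 = V_2823 :=
  rfl
theorem F_11834 (IH : D.IHyp) : ed Gen.i V_2823 = V_2822 :=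
  flipE D.rels D.S (hinv Gen.i) (F_11833 IH)
theorem F_11835 (IH : D.IHyp) : ed Gen.h V_2823 = V_2824 :=
  rfl
theorem F_11836 (IH : D.IHyp) : ed Gen.h V_2824 = V_2823 :=
  flipE D.rels D.S (hinv Gen.h) (F_11835 IH)
theorem F_11837 (IH : D.IHyp) : ed Gen.d V_2824 = V_2825 :=
  rfl
theorem F_11838 (IH : D.IHyp) : ed Gen.d V_2825 = V_2824 :=
  flipE D.rels D.S (hinv Gen.d) (F_11837 IH)
theorem F_11839 (IH : D.IHyp) : ed Gen.f V_2825 = V_2826 :=
  rfl
theorem F_11840 (IH : D.IHyp) : ed Gen.f V_2826 = V_2825 :=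
  flipE D.rels D.S (hinv Gen.f) (F_11839 IH)
theorem F_11841 (IH : D.IHyp) : ed Gen.e V_2826 = V_2827 :=
  rfl
theorem F_11842 (IH : D.IHyp) : ed Gen.e V_2827 = V_2826 :=
  flipE D.rels D.S (hinv Gen.e) (F_11841 IH)
theorem F_11843 (IH : D.IHyp) : ed Gen.d V_2827 = V_2828 :=
  rfl
theorem F_11844 (IH : D.IHyp) : ed Gen.d V_2828 = V_2827 :=
  flipE D.rels D.S (hinv Gen.d) (F_11843 IH)
theorem F_11845 (IH : D.IHyp) : ed Gen.b V_2828 = V_2829 :=
  rfl
theorem F_11846 (IH : D.IHyp) : ed Gen.b V_2829 = V_2828 :=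
  flipE D.rels D.S (hinv Gen.b) (F_11845 IH)
theorem F_11847 (IH : D.IHyp) : ed Gen.c V_2829 = V_2830 :=
  rfl
theorem F_11848 (IH : D.IHyp) : ed Gen.c V_2830 = V_2829 :=
  flipE D.rels D.S (hinv Gen.c) (F_11847 IH)
theorem F_11849 (IH : D.IHyp) : ed Gen.d V_2830 = V_2831 :=
  rfl
theorem F_11850 (IH : D.IHyp) : ed Gen.d V_2831 = V_2830 :=
  flipE D.rels D.S (hinv Gen.d) (F_11849 IH)
theorem F_11851 (IH : D.IHyp) : ed Gen.i V_2831 = V_2832 :=
  rfl
theorem F_11852 (IH : D.IHyp) : ed Gen.i V_2832 = V_2831 :=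
  flipE D.rels D.S (hinv Gen.i) (F_11851 IH)
theorem F_11853 (IH : D.IHyp) : ed Gen.h V_2832 = V_2833 :=
  rfl
theorem F_11854 (IH : D.IHyp) : ed Gen.h V_2833 = V_2832 :=
  flipE D.rels D.S (hinv Gen.h) (F_11853 IH)
theorem F_11855 (IH : D.IHyp) : ed Gen.d V_2833 = V_2834 :=
  rfl
theorem F_11856 (IH : D.IHyp) : ed Gen.d V_2834 = V_2833 :=
  flipE D.rels D.S (hinv Gen.d) (F_11855 IH)
theorem F_11857 (IH : D.IHyp) : ed Gen.f V_2834 = V_2835 :=
  rfl
theorem F_11858 (IH : D.IHyp) : ed Gen.f V_2835 = V_2834 :=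
  flipE D.rels D.S (hinv Gen.f) (F_11857 IH)
theorem F_11859 (IH : D.IHyp) : ed Gen.e V_2835 = V_2836 :=
  rfl
theorem F_11860 (IH : D.IHyp) : ed Gen.e V_2836 = V_2835 :=
  flipE D.rels D.S (hinv Gen.e) (F_11859 IH)
theorem F_11861 (IH : D.IHyp) : ed Gen.d V_2836 = V_2837 :=
  rfl
theorem F_11862 (IH : D.IHyp) : ed Gen.d V_2837 = V_2836 :=
  flipE D.rels D.S (hinv Gen.d) (F_11861 IH)
theorem F_11863 (IH : D.IHyp) : ed Gen.b V_2837 = V_2838 :=
  rfl
theorem F_11864 (IH : D.IHyp) : ed Gen.b V_2838 = V_2837 :=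
  flipE D.rels D.S (hinv Gen.b) (F_11863 IH)
theorem F_11865 (IH : D.IHyp) : ed Gen.c V_2838 = V_2839 :=
  rfl
theorem F_11866 (IH : D.IHyp) : ed Gen.c V_2839 = V_2838 :=
  flipE D.rels D.S (hinv Gen.c) (F_11865 IH)
theorem F_11867 (IH : D.IHyp) : ed Gen.d V_2839 = V_2840 :=
  rfl
theorem F_11868 (IH : D.IHyp) : ed Gen.d V_2840 = V_2839 :=
  flipE D.rels D.S (hinv Gen.d) (F_11867 IH)
theorem F_11869 (IH : D.IHyp) : ed Gen.i V_2758 = V_2840 :=
  gap_rel RW_37 (path_edge (F_11550 IH) (path_edge (F_10093 IH) (path_edge (F_10094 IH) (path_edge (F_1097 IH) (path_edge (F_1096 IH) (path_edge (F_1145 IH) (path_edge (F_1140 IH) (path_edge (F_1050 IH) (path_edge (F_6119 IH) (path_edge (F_11696 IH) (path_edge (F_11700 IH) (path_edge (F_11704 IH) (path_edge (F_11711 IH) (path_edge (F_11716 IH) (path_edge (F_11719 IH) (path_edge (F_11722 IH) (path_edge (F_11725 IH) (path_edge (F_11726 IH) (path_edge (F_11728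 IH) (path_edge (F_11730 IH) (path_edge (F_11732 IH) (path_edge (F_11734 IH) (path_edge (F_11736 IH) (path_edge (F_11738 IH) (path_edge (F_11740 IH) (path_edge (F_11742 IH) (path_edge (F_11744 IH) (path_edge (F_11746 IH) (path_edge (F_11748 IH) (path_edge (F_11750 IH) (path_edge (F_11752 IH) (path_edge (F_11754 IH) (path_edge (F_11756 IH) (path_edge (F_11758 IH) (path_edge (F_11760 IH) (path_edge (F_11762 IH) (path_edge (F_11764 IH) (path_edge (F_11766 IH) (path_edge (F_11768 IH) (path_edge (F_11770 IH) (path_edge (F_11772 IH) (path_edge (F_11774 IH) (path_edge (F_11776 IH) (path_edge (F_11778 IH) (path_edge (F_11780 IH) (path_edge (F_11782 IH) (path_edge (F_11784 IH) (path_edge (F_11786 IH) (path_edge (F_11788 IH) (path_edge (F_11790 IH) (path_edge (F_11792 IH) (path_edge (F_11794 IH) (path_edge (F_11796 IH) (path_edge (F_11798 IH) (path_edge (F_11800 IH) (path_edge (F_11802 IH) (path_edge (F_11804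 IH) (path_edge (F_11806 IH) (path_edge (F_11808 IH) (path_edge (F_11810 IH) (path_edge (F_11812 IH) (path_edge (F_11814 IH) (path_edge (F_11816 IH) (path_edge (F_11818 IH) (path_edge (F_11820 IH) (path_edge (F_11822 IH) (path_edge (F_11824 IH) (path_edge (F_11826 IH) (path_edge (F_11828 IH) (path_edge (F_11830 IH) (path_edge (F_11832 IH) (path_edge (F_11834 IH) (path_edge (F_11836 IH) (path_edge (F_11838 IH) (path_edge (F_11840 IH) (path_edge (F_11842 IH) (path_edge (F_11844 IH) (path_edge (F_11846 IH) (path_edge (F_11848 IH) (path_edge (F_11850 IH) (path_edge (F_11852 IH) (path_edge (F_11854 IH) (path_edge (F_11856 IH) (path_edge (F_11858 IH) (path_edge (F_11860 IH) (path_edge (F_11862 IH) (path_edge (F_11864 IH) (path_edge (F_11866 IH) (path_edge (F_11868 IH) (path_nil _))))))))))))))))))))))))))))))))))))))))))))))))))))))))))))))))))))))))))))))))))))))))))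
theorem F_11871 (IH : D.IHyp) : ed Gen.i V_2839 = V_746 :=
  gap_rel RW_6 (path_edge (F_11868 IH) (path_edge (F_11869 IH) (path_edge (F_11555 IH) (path_nil _))))
theorem F_11872 (IH : D.IHyp) : ed Gen.i V_746 = V_2839 :=
  flipE D.rels D.S (hinv Gen.i) (F_11871 IH)
theorem F_11873 (IH : D.IHyp) : V_785 = V_2839 :=
  edge_fun (F_11256 IH) (F_11872 IH)
theorem F_11874 (IH : D.IHyp) : V_2839 = V_785 :=
  (F_11873 IH).symm
theorem F_11875 (IH : D.IHyp) : ed Gen.c V_785 = V_2838 :=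
  edge_congr (F_11866 IH) (F_11874 IH)
theorem F_11876 (IH : D.IHyp) : V_786 = V_2838 :=
  edge_fun (F_1352 IH) (F_11875 IH)
theorem F_11878 (IH : D.IHyp) : ed Gen.d V_785 = V_2840 :=
  edge_congr (F_11867 IH) (F_11874 IH)
theorem F_11879 (IH : D.IHyp) : ed Gen.d V_2840 = V_785 :=
  flipE D.rels D.S (hinv Gen.d) (F_11878 IH)
theorem F_11881 (IH : D.IHyp) : V_2838 = V_786 :=
  (F_11876 IH).symm
theorem F_11882 (IH : D.IHyp) : ed Gen.b V_786 = V_2837 :=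
  edge_congr (F_11864 IH) (F_11881 IH)
theorem F_11883 (IH : D.IHyp) : V_786 = V_2837 :=
  edge_fun (F_1457 IH) (F_11882 IH)
theorem F_11886 (IH : D.IHyp) : V_2837 = V_786 :=
  (F_11883 IH).symm
theorem F_11888 (IH : D.IHyp) : ed Gen.d V_786 = V_2836 :=
  edge_congr (F_11862 IH) (F_11886 IH)
theorem F_11889 (IH : D.IHyp) : V_787 = V_2836 :=
  edge_fun (F_1354 IH) (F_11888 IH)
theorem F_11891 (IH : D.IHyp) : V_2836 = V_787 :=
  (F_11889 IH).symm
theorem F_11893 (IH : D.IHyp) : ed Gen.e V_787 = V_2835 :=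
  edge_congr (F_11860 IH) (F_11891 IH)
theorem F_11894 (IH : D.IHyp) : V_787 = V_2835 :=
  edge_fun (F_1456 IH) (F_11893 IH)
theorem F_11896 (IH : D.IHyp) : V_2835 = V_787 :=
  (F_11894 IH).symm
theorem F_11898 (IH : D.IHyp) : ed Gen.f V_787 = V_2834 :=
  edge_congr (F_11858 IH) (F_11896 IH)
theorem F_11899 (IH : D.IHyp) : V_874 = V_2834 :=
  edge_fun (F_2740 IH) (F_11898 IH)
theorem F_11901 (IH : D.IHyp) : V_2834 = V_874 :=
  (F_11899 IH).symm
theorem F_11902 (IH : D.IHyp) : ed Gen.d V_874 = V_2833 :=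
  edge_congr (F_11856 IH) (F_11901 IH)
theorem F_11903 (IH : D.IHyp) : V_2109 = V_2833 :=
  edge_fun (F_8378 IH) (F_11902 IH)
theorem F_11906 (IH : D.IHyp) : V_2833 = V_2109 :=
  (F_11903 IH).symm
theorem F_11908 (IH : D.IHyp) : ed Gen.h V_2109 = V_2832 :=
  edge_congr (F_11854 IH) (F_11906 IH)
theorem F_11909 (IH : D.IHyp) : ed Gen.h V_2832 = V_2109 :=
  flipE D.rels D.S (hinv Gen.h) (F_11908 IH)
theorem F_11910 (IH : D.IHyp) : ed Gen.f V_2840 = V_1571 :=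
  gap_rel RW_5 (path_edge (F_11878 IH) (path_edge (F_8386 IH) (path_edge (F_8393 IH) (path_nil _))))
theorem F_11911 (IH : D.IHyp) : ed Gen.f V_1571 = V_2840 :=
  flipE D.rels D.S (hinv Gen.f) (F_11910 IH)
theorem F_11912 (IH : D.IHyp) : ed Gen.h V_2601 = V_2840 :=
  gap_rel RW_39 (path_edge (F_11198 IH) (path_edge (F_5911 IH) (path_edge (F_11910 IH) (path_nil _))))
theorem F_11913 (IH : D.IHyp) : ed Gen.h V_2840 = V_2601 :=
  flipE D.rels D.S (hinv Gen.h) (F_11912 IH)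
theorem F_11914 (IH : D.IHyp) : ed Gen.b V_783 = V_2840 :=
  gap_rel RW_8 (path_edge (F_11243 IH) (path_edge (F_10483 IH) (path_edge (F_11913 IH) (path_nil _))))
theorem F_11915 (IH : D.IHyp) : ed Gen.b V_2840 = V_783 :=
  flipE D.rels D.S (hinv Gen.b) (F_11914 IH)
theorem F_11917 (IH : D.IHyp) : ed Gen.c V_829 = V_2832 :=
  gap_rel RW_11 (path_edge (F_11242 IH) (path_edge (F_8377 IH) (path_edge (F_11909 IH) (path_nil _))))
theorem F_11918 (IH : D.IHyp) : ed Gen.c V_2832 = V_829 :=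
  flipE D.rels D.S (hinv Gen.c) (F_11917 IH)
theorem F_11921 (IH : D.IHyp) : ed Gen.d V_2832 = V_2832 :=
  gap_rel RW_12 (path_edge (F_11908 IH) (path_edge (F_8378 IH) (path_edge (F_1888 IH) (path_edge (F_8379 IH) (path_edge (F_11909 IH) (path_nil _))))))
theorem F_11922 (IH : D.IHyp) : ed Gen.h V_2831 = V_2109 :=
  gap_rel RW_20 (path_edge (F_11852 IH) (path_edge (F_11908 IH) (path_edge (F_8383 IH) (path_edge (F_5899 IH) (path_edge (F_8384 IH) (path_nil _))))))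
theorem F_11923 (IH : D.IHyp) : ed Gen.h V_2109 = V_2831 :=
  flipE D.rels D.S (hinv Gen.h) (F_11922 IH)
theorem F_11924 (IH : D.IHyp) : V_2832 = V_2831 :=
  edge_fun (F_11908 IH) (F_11923 IH)
theorem F_11927 (IH : D.IHyp) : ed Gen.c V_2831 = V_829 :=
  edge_congr (F_11918 IH) (F_11924 IH)
theorem F_11929 (IH : D.IHyp) : ed Gen.d V_2832 = V_2831 :=
  (F_11921 IH).trans (F_11924 IH)
theorem F_11930 (IH : D.IHyp) : ed Gen.d V_2831 = V_2831 :=
  edge_congr (F_11929 IH) (F_11924 IH)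
theorem F_11931 (IH : D.IHyp) : V_2830 = V_2831 :=
  edge_fun (F_11850 IH) (F_11930 IH)
theorem F_11939 (IH : D.IHyp) : V_2831 = V_2830 :=
  (F_11931 IH).symm
theorem F_11942 (IH : D.IHyp) : ed Gen.c V_2830 = V_829 :=
  edge_congr (F_11927 IH) (F_11939 IH)
theorem F_11943 (IH : D.IHyp) : V_2829 = V_829 :=
  edge_fun (F_11848 IH) (F_11942 IH)
theorem F_11952 (IH : D.IHyp) : ed Gen.b V_829 = V_2828 :=
  edge_congr (F_11846 IH) (F_11943 IH)
theorem F_11953 (IH : D.IHyp) : ed Gen.b V_2828 = V_829 :=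
  flipE D.rels D.S (hinv Gen.b) (F_11952 IH)
theorem F_11956 (IH : D.IHyp) : ed Gen.b V_2827 = V_828 :=
  gap_rel RW_4 (path_edge (F_11844 IH) (path_edge (F_11952 IH) (path_edge (F_1732 IH) (path_nil _))))
theorem F_11958 (IH : D.IHyp) : ed Gen.f V_2828 = V_867 :=
  gap_rel RW_42 (path_edge (F_11952 IH) (path_edge (F_1736 IH) (path_edge (F_11292 IH) (path_nil _))))
theorem F_11959 (IH : D.IHyp) : ed Gen.f V_867 = V_2828 :=
  flipE D.rels D.S (hinv Gen.f) (F_11958 IH)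
theorem F_11962 (IH : D.IHyp) : ed Gen.i V_2828 = V_2828 :=
  gap_rel RW_36 (path_edge (F_11952 IH) (path_edge (F_1734 IH) (path_edge (F_11953 IH) (path_nil _))))
theorem F_11964 (IH : D.IHyp) : ed Gen.f V_2827 = V_866 :=
  gap_rel RW_5 (path_edge (F_11844 IH) (path_edge (F_11959 IH) (path_edge (F_1815 IH) (path_nil _))))
theorem F_11965 (IH : D.IHyp) : ed Gen.f V_866 = V_2827 :=
  flipE D.rels D.S (hinv Gen.f) (F_11964 IH)
theorem F_11966 (IH : D.IHyp) : ed Gen.i V_2827 = V_2827 :=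
  gap_rel RW_6 (path_edge (F_11844 IH) (path_edge (F_11962 IH) (path_edge (F_11843 IH) (path_nil _))))
theorem F_11969 (IH : D.IHyp) : ed Gen.b V_2123 = V_2826 :=
  gap_rel RW_13 (path_edge (F_10048 IH) (path_edge (F_11956 IH) (path_edge (F_11841 IH) (path_nil _))))
theorem F_11970 (IH : D.IHyp) : ed Gen.b V_2826 = V_2123 :=
  flipE D.rels D.S (hinv Gen.b) (F_11969 IH)
theorem F_11973 (IH : D.IHyp) : ed Gen.i V_2826 = V_2826 :=
  gap_rel RW_15 (path_edge (F_11842 IH) (path_edge (F_11966 IH) (path_edge (F_11841 IH) (path_nil _))))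
theorem F_11974 (IH : D.IHyp) : ed Gen.e V_2825 = V_864 :=
  gap_rel RW_44 (path_edge (F_11840 IH) (path_edge (F_11842 IH) (path_edge (F_11965 IH) (path_edge (F_1813 IH) (path_edge (F_1811 IH) (path_nil _))))))
theorem F_11976 (IH : D.IHyp) : ed Gen.i V_2825 = V_2825 :=
  gap_rel RW_35 (path_edge (F_11840 IH) (path_edge (F_11973 IH) (path_edge (F_11839 IH) (path_nil _))))
theorem F_11977 (IH : D.IHyp) : ed Gen.i V_2824 = V_2824 :=
  gap_rel RW_6 (path_edge (F_11838 IH) (path_edge (F_11976 IH) (path_edge (F_11837 IH) (path_nil _))))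
theorem F_11979 (IH : D.IHyp) : ed Gen.h (D.P 479) = V_2841 :=
  rfl
theorem F_11980 (IH : D.IHyp) : ed Gen.h V_2841 = (D.P 479) :=
  flipE D.rels D.S (hinv Gen.h) (F_11979 IH)
theorem F_11981 (IH : D.IHyp) : ed Gen.b V_2758 = V_2841 :=
  gap_rel RW_8 (path_edge (F_11550 IH) (path_edge (F_10089 IH) (path_edge (F_11980 IH) (path_nil _))))
theorem F_11983 (IH : D.IHyp) : ed Gen.c (D.P 482) = V_2841 :=
  gap_rel RW_11 (path_edge (F_6023 IH) (path_edge (F_1225 IH) (path_edge (F_11980 IH) (path_nil _))))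
theorem F_11984 (IH : D.IHyp) : ed Gen.c V_2841 = (D.P 482) :=
  flipE D.rels D.S (hinv Gen.c) (F_11983 IH)
theorem F_11985 (IH : D.IHyp) : ed Gen.e V_2655 = V_2841 :=
  gap_rel RW_9 (path_edge (F_10784 IH) (path_edge (F_1230 IH) (path_edge (F_11980 IH) (path_nil _))))
theorem F_11986 (IH : D.IHyp) : ed Gen.e V_2841 = V_2655 :=
  flipE D.rels D.S (hinv Gen.e) (F_11985 IH)
theorem F_11987 (IH : D.IHyp) : ed Gen.f V_2756 = V_2841 :=
  gap_rel RW_10 (path_edge (F_11155 IH) (path_edge (F_1219 IH) (path_edge (F_11980 IH) (path_nil _))))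
theorem F_11988 (IH : D.IHyp) : ed Gen.f V_2841 = V_2756 :=
  flipE D.rels D.S (hinv Gen.f) (F_11987 IH)
theorem F_11989 (IH : D.IHyp) : ed Gen.i V_2841 = V_783 :=
  gap_rel RW_34 (path_edge (F_11979 IH) (path_edge (F_7987 IH) (path_edge (F_8500 IH) (path_edge (F_10485 IH) (path_edge (F_11244 IH) (path_nil _))))))
theorem F_11990 (IH : D.IHyp) : ed Gen.i V_783 = V_2841 :=
  flipE D.rels D.S (hinv Gen.i) (F_11989 IH)
theorem F_11991 (IH : D.IHyp) : ed Gen.i V_2655 = V_781 :=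
  gap_rel RW_15 (path_edge (F_11986 IH) (path_edge (F_11990 IH) (path_edge (F_8435 IH) (path_nil _))))
theorem F_11992 (IH : D.IHyp) : ed Gen.i V_781 = V_2655 :=
  flipE D.rels D.S (hinv Gen.i) (F_11991 IH)
theorem F_11993 (IH : D.IHyp) : ed Gen.h (D.P 550) = (D.P 550) :=
  D.real_edge' IH Gen.h 550 550 (by decide +kernel)
theorem F_11997 (IH : D.IHyp) : ed Gen.i V_2656 = V_780 :=
  gap_rel RW_6 (path_edge (F_10805 IH) (path_edge (F_11992 IH) (path_edge (F_1342 IH) (path_nil _))))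
theorem F_11998 (IH : D.IHyp) : ed Gen.i V_780 = V_2656 :=
  flipE D.rels D.S (hinv Gen.i) (F_11997 IH)
theorem F_11999 (IH : D.IHyp) : ed Gen.e V_2840 = V_2842 :=
  rfl
theorem F_12000 (IH : D.IHyp) : ed Gen.e V_2842 = V_2840 :=
  flipE D.rels D.S (hinv Gen.e) (F_11999 IH)
theorem F_12001 (IH : D.IHyp) : ed Gen.b V_781 = V_2842 :=
  gap_rel RW_13 (path_edge (F_8439 IH) (path_edge (F_11915 IH) (path_edge (F_12000 IH) (path_nil _))))
theorem F_12002 (IH : D.IHyp) : ed Gen.b V_2842 = V_781 :=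
  flipE D.rels D.S (hinv Gen.b) (F_12001 IH)
theorem F_12003 (IH : D.IHyp) : ed Gen.f V_2842 = V_2842 :=
  gap_rel RW_47 (path_edge (F_11999 IH) (path_edge (F_11911 IH) (path_edge (F_5910 IH) (path_edge (F_11910 IH) (path_edge (F_12000 IH) (path_nil _))))))
theorem F_12004 (IH : D.IHyp) : ed Gen.d V_2842 = V_2843 :=
  rfl
theorem F_12005 (IH : D.IHyp) : ed Gen.d V_2843 = V_2842 :=
  flipE D.rels D.S (hinv Gen.d) (F_12004 IH)
theorem F_12006 (IH : D.IHyp) : ed Gen.b V_780 = V_2843 :=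
  gap_rel RW_4 (path_edge (F_1343 IH) (path_edge (F_12002 IH) (path_edge (F_12005 IH) (path_nil _))))
theorem F_12007 (IH : D.IHyp) : ed Gen.b V_2843 = V_780 :=
  flipE D.rels D.S (hinv Gen.b) (F_12006 IH)
theorem F_12009 (IH : D.IHyp) : ed Gen.h V_932 = V_2843 :=
  gap_rel RW_31 (path_edge (F_11479 IH) (path_edge (F_1341 IH) (path_edge (F_12007 IH) (path_nil _))))
theorem F_12010 (IH : D.IHyp) : ed Gen.h V_2843 = V_932 :=
  flipE D.rels D.S (hinv Gen.h) (F_12009 IH)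
theorem F_12011 (IH : D.IHyp) : ed Gen.i V_932 = V_2844 :=
  rfl
theorem F_12012 (IH : D.IHyp) : ed Gen.i V_2844 = V_932 :=
  flipE D.rels D.S (hinv Gen.i) (F_12011 IH)
theorem F_12013 (IH : D.IHyp) : ed Gen.b V_778 = V_2844 :=
  gap_rel RW_17 (path_edge (F_1339 IH) (path_edge (F_11478 IH) (path_edge (F_12012 IH) (path_nil _))))
theorem F_12014 (IH : D.IHyp) : ed Gen.b V_2844 = V_778 :=
  flipE D.rels D.S (hinv Gen.b) (F_12013 IH)
theorem F_12016 (IH : D.IHyp) : ed Gen.d V_2844 = V_2845 :=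
  rfl
theorem F_12017 (IH : D.IHyp) : ed Gen.d V_2845 = V_2844 :=
  flipE D.rels D.S (hinv Gen.d) (F_12016 IH)
theorem F_12018 (IH : D.IHyp) : ed Gen.b V_777 = V_2845 :=
  gap_rel RW_4 (path_edge (F_1337 IH) (path_edge (F_12014 IH) (path_edge (F_12017 IH) (path_nil _))))
theorem F_12019 (IH : D.IHyp) : ed Gen.b V_2845 = V_777 :=
  flipE D.rels D.S (hinv Gen.b) (F_12018 IH)
theorem F_12023 (IH : D.IHyp) : ed Gen.c V_2845 = V_2846 :=
  rfl
theorem F_12026 (IH : D.IHyp) : ed Gen.b V_2846 = V_2847 :=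
  rfl
theorem F_12031 (IH : D.IHyp) : ed Gen.d V_2847 = V_2848 :=
  rfl
theorem F_12034 (IH : D.IHyp) : ed Gen.e V_2848 = V_2849 :=
  rfl
theorem F_12036 (IH : D.IHyp) : ed Gen.f V_2849 = V_2850 :=
  rfl
theorem F_12039 (IH : D.IHyp) : ed Gen.d V_2850 = V_2851 :=
  rfl
theorem F_12041 (IH : D.IHyp) : ed Gen.h V_2851 = V_2852 :=
  rfl
theorem F_12043 (IH : D.IHyp) : ed Gen.i V_2852 = V_2853 :=
  rfl
theorem F_12045 (IH : D.IHyp) : ed Gen.d V_2853 = V_2854 :=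
  rfl
theorem F_12047 (IH : D.IHyp) : ed Gen.c V_2854 = V_2855 :=
  rfl
theorem F_12049 (IH : D.IHyp) : ed Gen.b V_2855 = V_2856 :=
  rfl
theorem F_12051 (IH : D.IHyp) : ed Gen.d V_2856 = V_2857 :=
  rfl
theorem F_12053 (IH : D.IHyp) : ed Gen.e V_2857 = V_2858 :=
  rfl
theorem F_12055 (IH : D.IHyp) : ed Gen.f V_2858 = V_2859 :=
  rfl
theorem F_12057 (IH : D.IHyp) : ed Gen.d V_2859 = V_2860 :=
  rfl
theorem F_12059 (IH : D.IHyp) : ed Gen.h V_2860 = V_2861 :=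
  rfl
theorem F_12061 (IH : D.IHyp) : ed Gen.i V_2861 = V_2862 :=
  rfl
theorem F_12063 (IH : D.IHyp) : ed Gen.d V_2862 = V_2863 :=
  rfl
theorem F_12065 (IH : D.IHyp) : ed Gen.c V_2863 = V_2864 :=
  rfl
theorem F_12067 (IH : D.IHyp) : ed Gen.b V_2864 = V_2865 :=
  rfl
theorem F_12069 (IH : D.IHyp) : ed Gen.d V_2865 = V_2866 :=
  rfl
theorem F_12071 (IH : D.IHyp) : ed Gen.e V_2866 = V_2867 :=
  rfl
theorem F_12073 (IH : D.IHyp) : ed Gen.f V_2867 = V_2868 :=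
  rfl
theorem F_12075 (IH : D.IHyp) : ed Gen.d V_2868 = V_2869 :=
  rfl
theorem F_12077 (IH : D.IHyp) : ed Gen.h V_2869 = V_2870 :=
  rfl
theorem F_12079 (IH : D.IHyp) : ed Gen.i V_2870 = V_2871 :=
  rfl
theorem F_12081 (IH : D.IHyp) : ed Gen.d V_2871 = V_2872 :=
  rfl
theorem F_12083 (IH : D.IHyp) : ed Gen.c V_2872 = V_2873 :=
  rfl
theorem F_12085 (IH : D.IHyp) : ed Gen.b V_2873 = V_2874 :=
  rfl
theorem F_12087 (IH : D.IHyp) : ed Gen.d V_2874 = V_2875 :=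
  rfl
theorem F_12089 (IH : D.IHyp) : ed Gen.e V_2875 = V_2876 :=
  rfl
theorem F_12091 (IH : D.IHyp) : ed Gen.f V_2876 = V_2877 :=
  rfl
theorem F_12093 (IH : D.IHyp) : ed Gen.d V_2877 = V_2878 :=
  rfl
theorem F_12095 (IH : D.IHyp) : ed Gen.h V_2878 = V_2879 :=
  rfl
theorem F_12097 (IH : D.IHyp) : ed Gen.i V_2879 = V_2880 :=
  rfl
theorem F_12099 (IH : D.IHyp) : ed Gen.d V_2880 = V_2881 :=
  rfl
theorem F_12101 (IH : D.IHyp) : ed Gen.c V_2881 = V_2882 :=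
  rfl
theorem F_12103 (IH : D.IHyp) : ed Gen.b V_2882 = V_2883 :=
  rfl
theorem F_12105 (IH : D.IHyp) : ed Gen.d V_2883 = V_2884 :=
  rfl
theorem F_12107 (IH : D.IHyp) : ed Gen.e V_2884 = V_2885 :=
  rfl
theorem F_12109 (IH : D.IHyp) : ed Gen.f V_2885 = V_2886 :=
  rfl
theorem F_12111 (IH : D.IHyp) : ed Gen.d V_2886 = V_2887 :=
  rfl
theorem F_12113 (IH : D.IHyp) : ed Gen.h V_2887 = V_2888 :=
  rfl
theorem F_12115 (IH : D.IHyp) : ed Gen.i V_2888 = V_2889 :=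
  rfl
theorem F_12117 (IH : D.IHyp) : ed Gen.d V_2889 = V_2890 :=
  rfl
theorem F_12119 (IH : D.IHyp) : ed Gen.c V_2890 = V_2891 :=
  rfl
theorem F_12121 (IH : D.IHyp) : ed Gen.b V_2891 = V_2892 :=
  rfl
theorem F_12123 (IH : D.IHyp) : ed Gen.d V_2892 = V_2893 :=
  rfl
theorem F_12125 (IH : D.IHyp) : ed Gen.e V_2893 = V_2894 :=
  rfl
theorem F_12127 (IH : D.IHyp) : ed Gen.f V_2894 = V_2895 :=
  rfl
theorem F_12129 (IH : D.IHyp) : ed Gen.d V_2895 = V_2896 :=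
  rfl
theorem F_12131 (IH : D.IHyp) : ed Gen.h V_2896 = V_2897 :=
  rfl
theorem F_12133 (IH : D.IHyp) : ed Gen.i V_2897 = V_2898 :=
  rfl
theorem F_12135 (IH : D.IHyp) : ed Gen.d V_2898 = V_2899 :=
  rfl
theorem F_12137 (IH : D.IHyp) : ed Gen.c V_2899 = V_2900 :=
  rfl
theorem F_12139 (IH : D.IHyp) : ed Gen.b V_2900 = (D.P 314) :=
  gap_rel RW_51 (path_edge (F_12137 IH) (path_edge (F_12135 IH) (path_edge (F_12133 IH) (path_edge (F_12131 IH) (path_edge (F_12129 IH) (path_edge (F_12127 IH) (path_edge (F_12125 IH) (path_edge (F_12123 IH) (path_edge (F_12121 IH) (path_edge (F_12119 IH) (path_edge (F_12117 IH) (path_edge (F_12115 IH) (path_edge (F_12113 IH) (path_edge (F_12111 IH) (path_edge (F_12109 IH) (path_edge (F_12107 IH) (path_edge (F_12105 IH) (path_edge (F_12103 IH) (path_edge (F_12101 IH) (path_edge (F_12099 IH) (path_edge (F_12097 IH) (path_edge (F_12095 IH) (path_edge (F_12093 IH) (path_edge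 (F_12091 IH) (path_edge (F_12089 IH) (path_edge (F_12087 IH) (path_edge (F_12085 IH) (path_edge (F_12083 IH) (path_edge (F_12081 IH) (path_edge (F_12079 IH) (path_edge (F_12077 IH) (path_edge (F_12075 IH) (path_edge (F_12073 IH) (path_edge (F_12071 IH) (path_edge (F_12069 IH) (path_edge (F_12067 IH) (path_edge (F_12065 IH) (path_edge (F_12063 IH) (path_edge (F_12061 IH) (path_edge (F_12059 IH) (path_edge (F_12057 IH) (path_edge (F_12055 IH) (path_edge (F_12053 IH) (path_edge (F_12051 IH) (path_edge (F_12049 IH) (path_edge (F_12047 IH) (path_edge (F_12045 IH) (path_edge (F_12043 IH) (path_edge (F_12041 IH) (path_edge (F_12039 IH) (path_edge (F_12036 IH) (path_edge (F_12034 IH) (path_edge (F_12031 IH) (path_edge (F_12026 IH) (path_edge (F_12023 IH) (path_edge (F_12016 IH) (path_edge (F_12011 IH) (path_edge (F_12010 IH) (path_edge (F_12004 IH) (path_edge (F_12003 IH) (path_edge (F_11999 IH) (path_edge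 (F_11878 IH) (path_edge (F_1350 IH) (path_edge (F_1458 IH) (path_edge (F_1348 IH) (path_edge (F_11989 IH) (path_edge (F_11979 IH) (path_edge (F_1150 IH) (path_edge (F_1149 IH) (path_edge (F_1148 IH) (path_edge (F_1147 IH) (path_edge (F_1144 IH) (path_edge (F_1094 IH) (path_edge (F_720 IH) (path_edge (F_946 IH) (path_edge (F_971 IH) (path_edge (F_941 IH) (path_edge (F_929 IH) (path_edge (F_972 IH) (path_edge (F_1489 IH) (path_edge (F_2270 IH) (path_edge (F_1061 IH) (path_edge (F_2217 IH) (path_edge (F_727 IH) (path_edge (F_5756 IH) (path_edge (F_1064 IH) (path_edge (F_1065 IH) (path_edge (F_5661 IH) (path_edge (F_2601 IH) (path_nil _))))))))))))))))))))))))))))))))))))))))))))))))))))))))))))))))))))))))))))))))))))))))))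
theorem F_12142 (IH : D.IHyp) : ed Gen.f V_2011 = V_2900 :=
  gap_rel RW_42 (path_edge (F_7808 IH) (path_edge (F_2624 IH) (path_edge (F_12139 IH) (path_nil _))))
theorem F_12143 (IH : D.IHyp) : ed Gen.f V_2900 = V_2011 :=
  flipE D.rels D.S (hinv Gen.f) (F_12142 IH)
theorem F_12284 (IH : D.IHyp) : ed Gen.h V_2016 = V_2901 :=
  rfl
theorem F_12285 (IH : D.IHyp) : ed Gen.h V_2901 = V_2016 :=
  flipE D.rels D.S (hinv Gen.h) (F_12284 IH)
theorem F_12286 (IH : D.IHyp) : ed Gen.b V_928 = V_2901 :=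
  gap_rel RW_8 (path_edge (F_5100 IH) (path_edge (F_7998 IH) (path_edge (F_12285 IH) (path_nil _))))
theorem F_12287 (IH : D.IHyp) : ed Gen.b V_2901 = V_928 :=
  flipE D.rels D.S (hinv Gen.b) (F_12286 IH)
theorem F_12288 (IH : D.IHyp) : ed Gen.e V_2114 = V_2901 :=
  gap_rel RW_9 (path_edge (F_8499 IH) (path_edge (F_7996 IH) (path_edge (F_12285 IH) (path_nil _))))
theorem F_12293 (IH : D.IHyp) : ed Gen.d V_2901 = V_2902 :=
  rfl
theorem F_12294 (IH : D.IHyp) : ed Gen.d V_2902 = V_2901 :=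
  flipE D.rels D.S (hinv Gen.d) (F_12293 IH)
theorem F_12295 (IH : D.IHyp) : ed Gen.b V_929 = V_2902 :=
  gap_rel RW_4 (path_edge (F_2310 IH) (path_edge (F_12287 IH) (path_edge (F_12294 IH) (path_nil _))))
theorem F_12296 (IH : D.IHyp) : ed Gen.b V_2902 = V_929 :=
  flipE D.rels D.S (hinv Gen.b) (F_12295 IH)
theorem F_12300 (IH : D.IHyp) : ed Gen.e V_2734 = V_2902 :=
  gap_rel RW_30 (path_edge (F_11071 IH) (path_edge (F_11070 IH) (path_edge (F_12296 IH) (path_nil _))))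
theorem F_12301 (IH : D.IHyp) : ed Gen.e V_2902 = V_2734 :=
  flipE D.rels D.S (hinv Gen.e) (F_12300 IH)
theorem F_12302 (IH : D.IHyp) : ed Gen.d V_2734 = V_2903 :=
  rfl
theorem F_12308 (IH : D.IHyp) : ed Gen.e V_2903 = V_2115 :=
  gap_rel RW_41 (path_edge (F_12302 IH) (path_edge (F_12301 IH) (path_edge (F_12293 IH) (path_edge (F_12288 IH) (path_edge (F_8504 IH) (path_nil _))))))
theorem F_12309 (IH : D.IHyp) : ed Gen.e V_2115 = V_2903 :=
  flipE D.rels D.S (hinv Gen.e) (F_12308 IH)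
theorem F_12311 (IH : D.IHyp) : ed Gen.c V_2903 = V_2639 :=
  gap_rel RW_14 (path_edge (F_12309 IH) (path_edge (F_10737 IH) (path_edge (F_10574 IH) (path_nil _))))
theorem F_12313 (IH : D.IHyp) : ed Gen.c V_2635 = V_2734 :=
  gap_rel RW_7 (path_edge (F_10567 IH) (path_edge (F_10569 IH) (path_edge (F_10765 IH) (path_edge (F_12311 IH) (path_edge (F_12302 IH) (path_nil _))))))
theorem F_12314 (IH : D.IHyp) : ed Gen.c V_2734 = V_2635 :=
  flipE D.rels D.S (hinv Gen.c) (F_12313 IH)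
theorem F_12315 (IH : D.IHyp) : V_2735 = V_2635 :=
  edge_fun (F_11073 IH) (F_12314 IH)
theorem F_12316 (IH : D.IHyp) : ed Gen.c V_2635 = V_2734 :=
  edge_congr (F_11074 IH) (F_12315 IH)
theorem F_12317 (IH : D.IHyp) : ed Gen.c V_2734 = V_2635 :=
  flipE D.rels D.S (hinv Gen.c) (F_12316 IH)
theorem F_12318 (IH : D.IHyp) : ed Gen.d V_2635 = V_1580 :=
  edge_congr (F_11443 IH) (F_12315 IH)
theorem F_12319 (IH : D.IHyp) : V_2636 = V_1580 :=
  edge_fun (F_10566 IH) (F_12318 IH)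
theorem F_12321 (IH : D.IHyp) : ed Gen.i V_2635 = V_1578 :=
  edge_congr (F_11392 IH) (F_12315 IH)
theorem F_12322 (IH : D.IHyp) : V_2634 = V_1578 :=
  edge_fun (F_10565 IH) (F_12321 IH)
theorem F_12326 (IH : D.IHyp) : ed Gen.d V_1580 = V_2635 :=
  edge_congr (F_10567 IH) (F_12319 IH)
theorem F_12327 (IH : D.IHyp) : ed Gen.d V_2635 = V_1580 :=
  flipE D.rels D.S (hinv Gen.d) (F_12326 IH)
theorem F_12328 (IH : D.IHyp) : ed Gen.h V_1578 = V_2633 :=
  edge_congr (F_10563 IH) (F_12322 IH)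
theorem F_12329 (IH : D.IHyp) : ed Gen.h V_2633 = V_1578 :=
  flipE D.rels D.S (hinv Gen.h) (F_12328 IH)
theorem F_12332 (IH : D.IHyp) : ed Gen.h V_2739 = V_2632 :=
  gap_rel RW_33 (path_edge (F_11081 IH) (path_edge (F_11448 IH) (path_edge (F_5926 IH) (path_edge (F_12329 IH) (path_edge (F_10560 IH) (path_nil _))))))
theorem F_12333 (IH : D.IHyp) : ed Gen.h V_2632 = V_2739 :=
  flipE D.rels D.S (hinv Gen.h) (F_12332 IH)
theorem F_12350 (IH : D.IHyp) : ed Gen.h V_1576 = V_2904 :=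
  rfl
theorem F_12351 (IH : D.IHyp) : ed Gen.h V_2904 = V_1576 :=
  flipE D.rels D.S (hinv Gen.h) (F_12350 IH)
theorem F_12352 (IH : D.IHyp) : ed Gen.e V_931 = V_2904 :=
  gap_rel RW_9 (path_edge (F_2316 IH) (path_edge (F_11399 IH) (path_edge (F_12351 IH) (path_nil _))))
theorem F_12353 (IH : D.IHyp) : ed Gen.e V_2904 = V_931 :=
  flipE D.rels D.S (hinv Gen.e) (F_12352 IH)
theorem F_12354 (IH : D.IHyp) : ed Gen.d V_2904 = V_2905 :=
  rfl
theorem F_12355 (IH : D.IHyp) : ed Gen.d V_2905 = V_2904 :=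
  flipE D.rels D.S (hinv Gen.d) (F_12354 IH)
theorem F_12356 (IH : D.IHyp) : ed Gen.e V_2905 = V_934 :=
  gap_rel RW_41 (path_edge (F_12354 IH) (path_edge (F_12352 IH) (path_edge (F_2320 IH) (path_edge (F_2323 IH) (path_edge (F_2325 IH) (path_nil _))))))
theorem F_12357 (IH : D.IHyp) : ed Gen.e V_934 = V_2905 :=
  flipE D.rels D.S (hinv Gen.e) (F_12356 IH)
theorem F_12358 (IH : D.IHyp) : ed Gen.f V_2905 = V_2906 :=
  rfl
theorem F_12360 (IH : D.IHyp) : ed Gen.e V_2906 = V_2907 :=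
  rfl
theorem F_12361 (IH : D.IHyp) : ed Gen.e V_2907 = V_2906 :=
  flipE D.rels D.S (hinv Gen.e) (F_12360 IH)
theorem F_12506 (IH : D.IHyp) : ed Gen.d V_2756 = V_2952 :=
  rfl
theorem F_12507 (IH : D.IHyp) : ed Gen.d V_2952 = V_2756 :=
  flipE D.rels D.S (hinv Gen.d) (F_12506 IH)
theorem F_12508 (IH : D.IHyp) : ed Gen.b V_745 = V_2952 :=
  gap_rel RW_4 (path_edge (F_1267 IH) (path_edge (F_11158 IH) (path_edge (F_12507 IH) (path_nil _))))
theorem F_12509 (IH : D.IHyp) : ed Gen.b V_2952 = V_745 :=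
  flipE D.rels D.S (hinv Gen.b) (F_12508 IH)
theorem F_12510 (IH : D.IHyp) : ed Gen.i V_2952 = V_2107 :=
  gap_rel RW_6 (path_edge (F_12506 IH) (path_edge (F_11238 IH) (path_edge (F_8406 IH) (path_nil _))))
theorem F_12512 (IH : D.IHyp) : ed Gen.c V_2952 = V_2952 :=
  gap_rel RW_7 (path_edge (F_12506 IH) (path_edge (F_11159 IH) (path_edge (F_5656 IH) (path_edge (F_11160 IH) (path_edge (F_12507 IH) (path_nil _))))))
theorem F_12513 (IH : D.IHyp) : ed Gen.h V_2952 = V_2952 :=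
  gap_rel RW_33 (path_edge (F_12506 IH) (path_edge (F_11155 IH) (path_edge (F_1147 IH) (path_edge (F_11156 IH) (path_edge (F_12507 IH) (path_nil _))))))
theorem F_12524 (IH : D.IHyp) : ed Gen.f V_2757 = V_2954 :=
  rfl
theorem F_12525 (IH : D.IHyp) : ed Gen.f V_2954 = V_2757 :=
  flipE D.rels D.S (hinv Gen.f) (F_12524 IH)
theorem F_12528 (IH : D.IHyp) : ed Gen.c V_2758 = V_2954 :=
  gap_rel RW_27 (path_edge (F_11552 IH) (path_edge (F_11169 IH) (path_edge (F_12525 IH) (path_nil _))))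
theorem F_12530 (IH : D.IHyp) : ed Gen.d V_2900 = V_2954 :=
  gap_rel RW_40 (path_edge (F_12142 IH) (path_edge (F_11174 IH) (path_edge (F_12525 IH) (path_nil _))))
theorem F_12531 (IH : D.IHyp) : ed Gen.d V_2954 = V_2900 :=
  flipE D.rels D.S (hinv Gen.d) (F_12530 IH)
theorem F_12574 (IH : D.IHyp) : ed Gen.f V_1614 = V_2961 :=
  rfl
theorem F_12575 (IH : D.IHyp) : ed Gen.f V_2961 = V_1614 :=
  flipE D.rels D.S (hinv Gen.f) (F_12574 IH)
theorem F_12579 (IH : D.IHyp) : ed Gen.i V_2961 = V_1554 :=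
  gap_rel RW_35 (path_edge (F_12574 IH) (path_edge (F_8244 IH) (path_edge (F_8242 IH) (path_nil _))))
theorem F_12580 (IH : D.IHyp) : ed Gen.i V_1554 = V_2961 :=
  flipE D.rels D.S (hinv Gen.i) (F_12579 IH)
theorem F_12772 (IH : D.IHyp) : ed Gen.e V_2952 = V_3027 :=
  rfl
theorem F_12773 (IH : D.IHyp) : ed Gen.e V_3027 = V_2952 :=
  flipE D.rels D.S (hinv Gen.e) (F_12772 IH)
theorem F_12774 (IH : D.IHyp) : ed Gen.b V_819 = V_3027 :=
  gap_rel RW_13 (path_edge (F_11219 IH) (path_edge (F_12509 IH) (path_edge (F_12773 IH) (path_nil _))))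
theorem F_12775 (IH : D.IHyp) : ed Gen.b V_3027 = V_819 :=
  flipE D.rels D.S (hinv Gen.b) (F_12774 IH)
theorem F_12777 (IH : D.IHyp) : ed Gen.h V_3027 = V_3027 :=
  gap_rel RW_38 (path_edge (F_12772 IH) (path_edge (F_12513 IH) (path_edge (F_12773 IH) (path_nil _))))
theorem F_12778 (IH : D.IHyp) : ed Gen.d V_3027 = V_3027 :=
  gap_rel RW_16 (path_edge (F_12772 IH) (path_edge (F_12506 IH) (path_edge (F_11161 IH) (path_edge (F_12507 IH) (path_edge (F_12773 IH) (path_nil _))))))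
theorem F_12779 (IH : D.IHyp) : ed Gen.f V_3027 = V_3028 :=
  rfl
theorem F_12780 (IH : D.IHyp) : ed Gen.f V_3028 = V_3027 :=
  flipE D.rels D.S (hinv Gen.f) (F_12779 IH)
theorem F_12781 (IH : D.IHyp) : ed Gen.b V_2221 = V_3028 :=
  gap_rel RW_26 (path_edge (F_8935 IH) (path_edge (F_12775 IH) (path_edge (F_12780 IH) (path_nil _))))
theorem F_12782 (IH : D.IHyp) : ed Gen.b V_3028 = V_2221 :=
  flipE D.rels D.S (hinv Gen.b) (F_12781 IH)
theorem F_12784 (IH : D.IHyp) : ed Gen.d V_3028 = V_3028 :=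
  gap_rel RW_40 (path_edge (F_12779 IH) (path_edge (F_12778 IH) (path_edge (F_12780 IH) (path_nil _))))
theorem F_12785 (IH : D.IHyp) : ed Gen.h V_3028 = V_3028 :=
  gap_rel RW_39 (path_edge (F_12779 IH) (path_edge (F_12777 IH) (path_edge (F_12780 IH) (path_nil _))))
theorem F_12786 (IH : D.IHyp) : ed Gen.i V_1461 = V_3028 :=
  gap_rel RW_36 (path_edge (F_5286 IH) (path_edge (F_8941 IH) (path_edge (F_12782 IH) (path_nil _))))
theorem F_12788 (IH : D.IHyp) : ed Gen.e V_1463 = V_3029 :=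
  rfl
theorem F_12789 (IH : D.IHyp) : ed Gen.e V_3029 = V_1463 :=
  flipE D.rels D.S (hinv Gen.e) (F_12788 IH)
theorem F_12790 (IH : D.IHyp) : ed Gen.b V_1460 = V_3029 :=
  gap_rel RW_13 (path_edge (F_5240 IH) (path_edge (F_5286 IH) (path_edge (F_12789 IH) (path_nil _))))
theorem F_12791 (IH : D.IHyp) : ed Gen.b V_3029 = V_1460 :=
  flipE D.rels D.S (hinv Gen.b) (F_12790 IH)
theorem F_12792 (IH : D.IHyp) : ed Gen.c V_2170 = V_3029 :=
  gap_rel RW_14 (path_edge (F_8618 IH) (path_edge (F_5245 IH) (path_edge (F_12789 IH) (path_nil _))))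
theorem F_12793 (IH : D.IHyp) : ed Gen.c V_3029 = V_2170 :=
  flipE D.rels D.S (hinv Gen.c) (F_12792 IH)
theorem F_12794 (IH : D.IHyp) : ed Gen.i V_3029 = V_1503 :=
  gap_rel RW_15 (path_edge (F_12788 IH) (path_edge (F_8941 IH) (path_edge (F_8943 IH) (path_nil _))))
theorem F_12795 (IH : D.IHyp) : ed Gen.i V_1503 = V_3029 :=
  flipE D.rels D.S (hinv Gen.i) (F_12794 IH)
theorem F_12796 (IH : D.IHyp) : ed Gen.d V_3029 = V_1505 :=
  gap_rel RW_23 (path_edge (F_12795 IH) (path_edge (F_5474 IH) (path_edge (F_5477 IH) (path_nil _))))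
theorem F_12798 (IH : D.IHyp) : ed Gen.f V_3029 = V_3030 :=
  rfl
theorem F_12799 (IH : D.IHyp) : ed Gen.f V_3030 = V_3029 :=
  flipE D.rels D.S (hinv Gen.f) (F_12798 IH)
theorem F_12800 (IH : D.IHyp) : ed Gen.b V_1459 = V_3030 :=
  gap_rel RW_26 (path_edge (F_5238 IH) (path_edge (F_12791 IH) (path_edge (F_12799 IH) (path_nil _))))
theorem F_12801 (IH : D.IHyp) : ed Gen.b V_3030 = V_1459 :=
  flipE D.rels D.S (hinv Gen.b) (F_12800 IH)
theorem F_12802 (IH : D.IHyp) : ed Gen.c V_2168 = V_3030 :=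
  gap_rel RW_27 (path_edge (F_8634 IH) (path_edge (F_12793 IH) (path_edge (F_12799 IH) (path_nil _))))
theorem F_12803 (IH : D.IHyp) : ed Gen.c V_3030 = V_2168 :=
  flipE D.rels D.S (hinv Gen.c) (F_12802 IH)
theorem F_12804 (IH : D.IHyp) : ed Gen.d V_2044 = V_3030 :=
  gap_rel RW_40 (path_edge (F_8163 IH) (path_edge (F_12796 IH) (path_edge (F_12799 IH) (path_nil _))))
theorem F_12805 (IH : D.IHyp) : ed Gen.d V_3030 = V_2044 :=
  flipE D.rels D.S (hinv Gen.d) (F_12804 IH)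
theorem F_12808 (IH : D.IHyp) : ed Gen.e V_785 = V_3030 :=
  gap_rel RW_44 (path_edge (F_8386 IH) (path_edge (F_8395 IH) (path_edge (F_8922 IH) (path_edge (F_12789 IH) (path_edge (F_12799 IH) (path_nil _))))))
theorem F_12810 (IH : D.IHyp) : ed Gen.b V_1458 = V_2044 :=
  gap_rel RW_4 (path_edge (F_5236 IH) (path_edge (F_12801 IH) (path_edge (F_12804 IH) (path_nil _))))
theorem F_12811 (IH : D.IHyp) : ed Gen.b V_2044 = V_1458 :=
  flipE D.rels D.S (hinv Gen.b) (F_12810 IH)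
theorem F_12812 (IH : D.IHyp) : ed Gen.e V_1459 = V_784 :=
  gap_rel RW_30 (path_edge (F_12801 IH) (path_edge (F_12808 IH) (path_edge (F_1350 IH) (path_nil _))))
theorem F_12813 (IH : D.IHyp) : ed Gen.e V_784 = V_1459 :=
  flipE D.rels D.S (hinv Gen.e) (F_12812 IH)
theorem F_12814 (IH : D.IHyp) : ed Gen.h V_831 = V_3030 :=
  gap_rel RW_32 (path_edge (F_11373 IH) (path_edge (F_8643 IH) (path_edge (F_12803 IH) (path_nil _))))
theorem F_12816 (IH : D.IHyp) : ed Gen.e V_2044 = V_2843 :=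
  gap_rel RW_41 (path_edge (F_12805 IH) (path_edge (F_12808 IH) (path_edge (F_11879 IH) (path_edge (F_12000 IH) (path_edge (F_12005 IH) (path_nil _))))))
theorem F_12818 (IH : D.IHyp) : ed Gen.h V_1508 = V_832 :=
  gap_rel RW_33 (path_edge (F_8182 IH) (path_edge (F_8094 IH) (path_edge (F_12805 IH) (path_edge (F_12814 IH) (path_edge (F_1742 IH) (path_nil _))))))
theorem F_12820 (IH : D.IHyp) : ed Gen.e V_1458 = V_780 :=
  gap_rel RW_41 (path_edge (F_5236 IH) (path_edge (F_12813 IH) (path_edge (F_1348 IH) (path_edge (F_8435 IH) (path_edge (F_1342 IH) (path_nil _))))))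
theorem F_12822 (IH : D.IHyp) : ed Gen.b V_1457 = V_2043 :=
  gap_rel RW_8 (path_edge (F_5234 IH) (path_edge (F_12811 IH) (path_edge (F_8093 IH) (path_nil _))))
theorem F_12823 (IH : D.IHyp) : ed Gen.b V_2043 = V_1457 :=
  flipE D.rels D.S (hinv Gen.b) (F_12822 IH)
theorem F_12824 (IH : D.IHyp) : ed Gen.i V_1458 = V_749 :=
  gap_rel RW_36 (path_edge (F_12811 IH) (path_edge (F_11280 IH) (path_edge (F_1279 IH) (path_nil _))))
theorem F_12827 (IH : D.IHyp) : ed Gen.h V_933 = V_2044 :=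
  gap_rel RW_38 (path_edge (F_2322 IH) (path_edge (F_12010 IH) (path_edge (F_12816 IH) (path_nil _))))
theorem F_12828 (IH : D.IHyp) : ed Gen.h V_2044 = V_933 :=
  flipE D.rels D.S (hinv Gen.h) (F_12827 IH)
theorem F_12829 (IH : D.IHyp) : V_2043 = V_933 :=
  edge_fun (F_8094 IH) (F_12828 IH)
theorem F_12830 (IH : D.IHyp) : ed Gen.b V_933 = V_1457 :=
  edge_congr (F_12823 IH) (F_12829 IH)
theorem F_12831 (IH : D.IHyp) : ed Gen.b V_1457 = V_933 :=
  flipE D.rels D.S (hinv Gen.b) (F_12830 IH)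
theorem F_12832 (IH : D.IHyp) : ed Gen.c V_2043 = V_933 :=
  (F_8166 IH).trans (F_12829 IH)
theorem F_12833 (IH : D.IHyp) : ed Gen.c V_933 = V_933 :=
  edge_congr (F_12832 IH) (F_12829 IH)
theorem F_12834 (IH : D.IHyp) : ed Gen.d V_933 = V_1508 :=
  edge_congr (F_8182 IH) (F_12829 IH)
theorem F_12835 (IH : D.IHyp) : V_934 = V_1508 :=
  edge_fun (F_2324 IH) (F_12834 IH)
theorem F_12837 (IH : D.IHyp) : ed Gen.f V_933 = V_1506 :=
  edge_congr (F_8168 IH) (F_12829 IH)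
theorem F_12838 (IH : D.IHyp) : ed Gen.f V_1506 = V_933 :=
  flipE D.rels D.S (hinv Gen.f) (F_12837 IH)
theorem F_12841 (IH : D.IHyp) : V_1508 = V_934 :=
  (F_12835 IH).symm
theorem F_12843 (IH : D.IHyp) : ed Gen.e V_934 = V_1509 :=
  edge_congr (F_5486 IH) (F_12841 IH)
theorem F_12844 (IH : D.IHyp) : V_2905 = V_1509 :=
  edge_fun (F_12357 IH) (F_12843 IH)
theorem F_12845 (IH : D.IHyp) : ed Gen.e V_1509 = V_934 :=
  flipE D.rels D.S (hinv Gen.e) (F_12843 IH)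
theorem F_12846 (IH : D.IHyp) : ed Gen.f V_934 = V_1507 :=
  edge_congr (F_5485 IH) (F_12841 IH)
theorem F_12847 (IH : D.IHyp) : ed Gen.f V_1507 = V_934 :=
  flipE D.rels D.S (hinv Gen.f) (F_12846 IH)
theorem F_12848 (IH : D.IHyp) : ed Gen.h V_934 = V_832 :=
  edge_congr (F_12818 IH) (F_12841 IH)
theorem F_12850 (IH : D.IHyp) : ed Gen.d V_1509 = V_2904 :=
  edge_congr (F_12355 IH) (F_12844 IH)
theorem F_12851 (IH : D.IHyp) : V_1510 = V_2904 :=
  edge_fun (F_5488 IH) (F_12850 IH)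
theorem F_12855 (IH : D.IHyp) : ed Gen.f V_1509 = V_2906 :=
  edge_congr (F_12358 IH) (F_12844 IH)
theorem F_12856 (IH : D.IHyp) : ed Gen.f V_2906 = V_1509 :=
  flipE D.rels D.S (hinv Gen.f) (F_12855 IH)
theorem F_12857 (IH : D.IHyp) : V_2904 = V_1510 :=
  (F_12851 IH).symm
theorem F_12859 (IH : D.IHyp) : ed Gen.e V_1510 = V_931 :=
  edge_congr (F_12353 IH) (F_12857 IH)
theorem F_12860 (IH : D.IHyp) : ed Gen.e V_931 = V_1510 :=
  flipE D.rels D.S (hinv Gen.e) (F_12859 IH)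
theorem F_12861 (IH : D.IHyp) : ed Gen.h V_1510 = V_1576 :=
  edge_congr (F_12351 IH) (F_12857 IH)
theorem F_12862 (IH : D.IHyp) : ed Gen.h V_1576 = V_1510 :=
  flipE D.rels D.S (hinv Gen.h) (F_12861 IH)
theorem F_12865 (IH : D.IHyp) : ed Gen.i V_2657 = V_1458 :=
  gap_rel RW_15 (path_edge (F_10808 IH) (path_edge (F_11998 IH) (path_edge (F_12820 IH) (path_nil _))))
theorem F_12866 (IH : D.IHyp) : ed Gen.i V_1458 = V_2657 :=
  flipE D.rels D.S (hinv Gen.i) (F_12865 IH)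
theorem F_12867 (IH : D.IHyp) : V_749 = V_2657 :=
  edge_fun (F_12824 IH) (F_12866 IH)
theorem F_12868 (IH : D.IHyp) : V_2657 = V_749 :=
  (F_12867 IH).symm
theorem F_12869 (IH : D.IHyp) : ed Gen.d V_749 = V_2658 :=
  edge_congr (F_10810 IH) (F_12868 IH)
theorem F_12870 (IH : D.IHyp) : ed Gen.d V_2658 = V_749 :=
  flipE D.rels D.S (hinv Gen.d) (F_12869 IH)
theorem F_12874 (IH : D.IHyp) : ed Gen.i V_2658 = V_1459 :=
  gap_rel RW_6 (path_edge (F_12869 IH) (path_edge (F_12824 IH) (path_edge (F_5236 IH) (path_nil _))))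
theorem F_12875 (IH : D.IHyp) : ed Gen.i V_1459 = V_2658 :=
  flipE D.rels D.S (hinv Gen.i) (F_12874 IH)
theorem F_12908 (IH : D.IHyp) : ed Gen.c V_2658 = V_2658 :=
  gap_rel RW_22 (path_edge (F_12875 IH) (path_edge (F_5291 IH) (path_edge (F_12874 IH) (path_nil _))))
theorem F_12910 (IH : D.IHyp) : ed Gen.h V_833 = V_935 :=
  gap_rel RW_31 (path_edge (F_1744 IH) (path_edge (F_12848 IH) (path_edge (F_2327 IH) (path_nil _))))
theorem F_12911 (IH : D.IHyp) : ed Gen.h V_935 = V_833 :=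
  flipE D.rels D.S (hinv Gen.h) (F_12910 IH)
theorem F_12912 (IH : D.IHyp) : ed Gen.d V_935 = V_1457 :=
  gap_rel RW_29 (path_edge (F_2326 IH) (path_edge (F_2324 IH) (path_edge (F_12831 IH) (path_nil _))))
theorem F_12913 (IH : D.IHyp) : ed Gen.d V_1457 = V_935 :=
  flipE D.rels D.S (hinv Gen.d) (F_12912 IH)
theorem F_12914 (IH : D.IHyp) : ed Gen.i V_935 = V_1455 :=
  gap_rel RW_6 (path_edge (F_12913 IH) (path_edge (F_5231 IH) (path_edge (F_5229 IH) (path_nil _))))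
theorem F_12915 (IH : D.IHyp) : ed Gen.i V_1455 = V_935 :=
  flipE D.rels D.S (hinv Gen.i) (F_12914 IH)
theorem F_12918 (IH : D.IHyp) : ed Gen.c V_751 = V_749 :=
  gap_rel RW_7 (path_edge (F_1282 IH) (path_edge (F_1280 IH) (path_edge (F_12870 IH) (path_edge (F_12908 IH) (path_edge (F_12869 IH) (path_nil _))))))
theorem F_12919 (IH : D.IHyp) : ed Gen.c V_749 = V_751 :=
  flipE D.rels D.S (hinv Gen.c) (F_12918 IH)
theorem F_12920 (IH : D.IHyp) : V_750 = V_751 :=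
  edge_fun (F_1280 IH) (F_12919 IH)
theorem F_12921 (IH : D.IHyp) : V_751 = V_750 :=
  (F_12920 IH).symm
theorem F_12929 (IH : D.IHyp) : ed Gen.i V_750 = V_752 :=
  edge_congr (F_1284 IH) (F_12921 IH)
theorem F_12938 (IH : D.IHyp) : ed Gen.f V_2039 = V_2907 :=
  gap_rel RW_47 (path_edge (F_8953 IH) (path_edge (F_12846 IH) (path_edge (F_12845 IH) (path_edge (F_12856 IH) (path_edge (F_12361 IH) (path_nil _))))))
theorem F_12939 (IH : D.IHyp) : ed Gen.f V_2907 = V_2039 :=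
  flipE D.rels D.S (hinv Gen.f) (F_12938 IH)
theorem F_12940 (IH : D.IHyp) : ed Gen.e V_1511 = V_2593 :=
  gap_rel RW_30 (path_edge (F_5490 IH) (path_edge (F_12860 IH) (path_edge (F_11468 IH) (path_nil _))))
theorem F_12942 (IH : D.IHyp) : ed Gen.h V_1511 = V_1577 :=
  gap_rel RW_31 (path_edge (F_5490 IH) (path_edge (F_12862 IH) (path_edge (F_5923 IH) (path_nil _))))
theorem F_12943 (IH : D.IHyp) : ed Gen.h V_1577 = V_1511 :=
  flipE D.rels D.S (hinv Gen.h) (F_12942 IH)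
theorem F_12944 (IH : D.IHyp) : ed Gen.c V_752 = V_1458 :=
  gap_rel RW_22 (path_edge (F_12929 IH) (path_edge (F_1280 IH) (path_edge (F_12824 IH) (path_nil _))))
theorem F_12945 (IH : D.IHyp) : ed Gen.c V_1458 = V_752 :=
  flipE D.rels D.S (hinv Gen.c) (F_12944 IH)
theorem F_12947 (IH : D.IHyp) : ed Gen.d V_752 = V_752 :=
  gap_rel RW_21 (path_edge (F_12945 IH) (path_edge (F_5236 IH) (path_edge (F_5291 IH) (path_edge (F_5235 IH) (path_edge (F_12944 IH) (path_nil _))))))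
theorem F_12956 (IH : D.IHyp) : ed Gen.h V_834 = V_936 :=
  gap_rel RW_32 (path_edge (F_1747 IH) (path_edge (F_12911 IH) (path_edge (F_2329 IH) (path_nil _))))
theorem F_12957 (IH : D.IHyp) : ed Gen.h V_936 = V_834 :=
  flipE D.rels D.S (hinv Gen.h) (F_12956 IH)
theorem F_12958 (IH : D.IHyp) : ed Gen.h V_1455 = V_1455 :=
  gap_rel RW_20 (path_edge (F_12914 IH) (path_edge (F_12910 IH) (path_edge (F_1746 IH) (path_edge (F_12911 IH) (path_edge (F_12915 IH) (path_nil _))))))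
theorem F_12959 (IH : D.IHyp) : ed Gen.i V_936 = V_1454 :=
  gap_rel RW_2 (path_edge (F_2328 IH) (path_edge (F_12915 IH) (path_edge (F_5227 IH) (path_nil _))))
theorem F_12960 (IH : D.IHyp) : ed Gen.i V_1454 = V_936 :=
  flipE D.rels D.S (hinv Gen.i) (F_12959 IH)
theorem F_12961 (IH : D.IHyp) : ed Gen.c V_1457 = V_753 :=
  gap_rel RW_11 (path_edge (F_5234 IH) (path_edge (F_12944 IH) (path_edge (F_1287 IH) (path_nil _))))
theorem F_12963 (IH : D.IHyp) : ed Gen.c V_754 = V_937 :=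
  gap_rel RW_7 (path_edge (F_1288 IH) (path_edge (F_12961 IH) (path_edge (F_12912 IH) (path_edge (F_2329 IH) (path_edge (F_2331 IH) (path_nil _))))))
theorem F_12965 (IH : D.IHyp) : ed Gen.h V_1454 = V_1454 :=
  gap_rel RW_32 (path_edge (F_5228 IH) (path_edge (F_12958 IH) (path_edge (F_5227 IH) (path_nil _))))
theorem F_12975 (IH : D.IHyp) : ed Gen.h V_754 = V_754 :=
  gap_rel RW_33 (path_edge (F_1288 IH) (path_edge (F_1286 IH) (path_edge (F_12947 IH) (path_edge (F_1287 IH) (path_edge (F_1289 IH) (path_nil _))))))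
theorem F_12990 (IH : D.IHyp) : ed Gen.h V_1512 = V_1578 :=
  gap_rel RW_32 (path_edge (F_5492 IH) (path_edge (F_12943 IH) (path_edge (F_5925 IH) (path_nil _))))
theorem F_12991 (IH : D.IHyp) : ed Gen.h V_1578 = V_1512 :=
  flipE D.rels D.S (hinv Gen.h) (F_12990 IH)
theorem F_12992 (IH : D.IHyp) : V_2633 = V_1512 :=
  edge_fun (F_12328 IH) (F_12991 IH)
theorem F_12993 (IH : D.IHyp) : ed Gen.d V_1512 = V_2632 :=
  edge_congr (F_10561 IH) (F_12992 IH)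
theorem F_12994 (IH : D.IHyp) : V_1513 = V_2632 :=
  edge_fun (F_5494 IH) (F_12993 IH)
theorem F_12998 (IH : D.IHyp) : V_2632 = V_1513 :=
  (F_12994 IH).symm
theorem F_13002 (IH : D.IHyp) : ed Gen.h V_1513 = V_2739 :=
  edge_congr (F_12333 IH) (F_12998 IH)
theorem F_13003 (IH : D.IHyp) : ed Gen.h V_2739 = V_1513 :=
  flipE D.rels D.S (hinv Gen.h) (F_13002 IH)
theorem F_13004 (IH : D.IHyp) : ed Gen.f V_1511 = V_2746 :=
  gap_rel RW_10 (path_edge (F_12943 IH) (path_edge (F_11361 IH) (path_edge (F_11097 IH) (path_nil _))))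
theorem F_13017 (IH : D.IHyp) : ed Gen.h V_837 = V_937 :=
  gap_rel RW_33 (path_edge (F_1755 IH) (path_edge (F_1753 IH) (path_edge (F_1750 IH) (path_edge (F_12957 IH) (path_edge (F_2331 IH) (path_nil _))))))
theorem F_13018 (IH : D.IHyp) : ed Gen.h V_937 = V_837 :=
  flipE D.rels D.S (hinv Gen.h) (F_13017 IH)
theorem F_13019 (IH : D.IHyp) : ed Gen.d V_938 = V_1454 :=
  gap_rel RW_23 (path_edge (F_2332 IH) (path_edge (F_2330 IH) (path_edge (F_12960 IH) (path_nil _))))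
theorem F_13020 (IH : D.IHyp) : ed Gen.d V_1454 = V_938 :=
  flipE D.rels D.S (hinv Gen.d) (F_13019 IH)
theorem F_13024 (IH : D.IHyp) : ed Gen.h V_940 = V_938 :=
  gap_rel RW_33 (path_edge (F_2336 IH) (path_edge (F_2334 IH) (path_edge (F_13020 IH) (path_edge (F_12965 IH) (path_edge (F_13019 IH) (path_nil _))))))
theorem F_13025 (IH : D.IHyp) : ed Gen.h V_938 = V_940 :=
  flipE D.rels D.S (hinv Gen.h) (F_13024 IH)
theorem F_13026 (IH : D.IHyp) : V_939 = V_940 :=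
  edge_fun (F_2334 IH) (F_13025 IH)
theorem F_13027 (IH : D.IHyp) : V_940 = V_939 :=
  (F_13026 IH).symm
theorem F_13029 (IH : D.IHyp) : ed Gen.f V_939 = V_941 :=
  edge_congr (F_2338 IH) (F_13027 IH)
theorem F_13030 (IH : D.IHyp) : ed Gen.f V_941 = V_939 :=
  flipE D.rels D.S (hinv Gen.f) (F_13029 IH)
theorem F_13032 (IH : D.IHyp) : ed Gen.c V_837 = V_754 :=
  gap_rel RW_11 (path_edge (F_13018 IH) (path_edge (F_12963 IH) (path_edge (F_12975 IH) (path_nil _))))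
theorem F_13033 (IH : D.IHyp) : ed Gen.c V_754 = V_837 :=
  flipE D.rels D.S (hinv Gen.c) (F_13032 IH)
theorem F_13034 (IH : D.IHyp) : V_937 = V_837 :=
  edge_fun (F_12963 IH) (F_13033 IH)
theorem F_13040 (IH : D.IHyp) : ed Gen.h V_837 = V_837 :=
  edge_congr (F_13018 IH) (F_13034 IH)
theorem F_13041 (IH : D.IHyp) : ed Gen.i V_837 = V_938 :=
  edge_congr (F_2332 IH) (F_13034 IH)
theorem F_13042 (IH : D.IHyp) : ed Gen.i V_938 = V_837 :=
  flipE D.rels D.S (hinv Gen.i) (F_13041 IH)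
theorem F_13111 (IH : D.IHyp) : ed Gen.i V_939 = V_939 :=
  gap_rel RW_34 (path_edge (F_2334 IH) (path_edge (F_13041 IH) (path_edge (F_13040 IH) (path_edge (F_13042 IH) (path_edge (F_2335 IH) (path_nil _))))))
theorem F_13113 (IH : D.IHyp) : ed Gen.i V_941 = V_941 :=
  gap_rel RW_35 (path_edge (F_13029 IH) (path_edge (F_13111 IH) (path_edge (F_13030 IH) (path_nil _))))
theorem F_13114 (IH : D.IHyp) : ed Gen.i V_942 = V_942 :=
  gap_rel RW_15 (path_edge (F_2340 IH) (path_edge (F_13113 IH) (path_edge (F_2341 IH) (path_nil _))))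
theorem F_13136 (IH : D.IHyp) : ed Gen.i V_943 = V_943 :=
  gap_rel RW_6 (path_edge (F_2342 IH) (path_edge (F_13114 IH) (path_edge (F_2343 IH) (path_nil _))))
theorem F_13138 (IH : D.IHyp) : ed Gen.i V_944 = V_944 :=
  gap_rel RW_36 (path_edge (F_2344 IH) (path_edge (F_13136 IH) (path_edge (F_2345 IH) (path_nil _))))
theorem F_13147 (IH : D.IHyp) : ed Gen.i V_945 = V_945 :=
  gap_rel RW_2 (path_edge (F_2346 IH) (path_edge (F_13138 IH) (path_edge (F_2347 IH) (path_nil _))))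
theorem F_13165 (IH : D.IHyp) : ed Gen.d V_947 = V_945 :=
  gap_rel RW_23 (path_edge (F_2350 IH) (path_edge (F_2348 IH) (path_edge (F_13147 IH) (path_nil _))))
theorem F_13166 (IH : D.IHyp) : ed Gen.d V_945 = V_947 :=
  flipE D.rels D.S (hinv Gen.d) (F_13165 IH)
theorem F_13167 (IH : D.IHyp) : V_946 = V_947 :=
  edge_fun (F_2348 IH) (F_13166 IH)
theorem F_13168 (IH : D.IHyp) : V_947 = V_946 :=
  (F_13167 IH).symm
theorem F_13170 (IH : D.IHyp) : ed Gen.h V_946 = V_948 :=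
  edge_congr (F_2352 IH) (F_13168 IH)
theorem F_13171 (IH : D.IHyp) : ed Gen.h V_948 = V_946 :=
  flipE D.rels D.S (hinv Gen.h) (F_13170 IH)
theorem F_13189 (IH : D.IHyp) : ed Gen.i V_933 = V_3031 :=
  rfl
theorem F_13190 (IH : D.IHyp) : ed Gen.i V_3031 = V_933 :=
  flipE D.rels D.S (hinv Gen.i) (F_13189 IH)
theorem F_13191 (IH : D.IHyp) : ed Gen.b V_1456 = V_3031 :=
  gap_rel RW_17 (path_edge (F_5232 IH) (path_edge (F_12830 IH) (path_edge (F_13190 IH) (path_nil _))))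
theorem F_13192 (IH : D.IHyp) : ed Gen.b V_3031 = V_1456 :=
  flipE D.rels D.S (hinv Gen.b) (F_13191 IH)
theorem F_13193 (IH : D.IHyp) : ed Gen.c V_3031 = V_3031 :=
  gap_rel RW_22 (path_edge (F_13189 IH) (path_edge (F_12833 IH) (path_edge (F_13190 IH) (path_nil _))))
theorem F_13194 (IH : D.IHyp) : ed Gen.e V_2844 = V_3031 :=
  gap_rel RW_18 (path_edge (F_12011 IH) (path_edge (F_2323 IH) (path_edge (F_13190 IH) (path_nil _))))
theorem F_13195 (IH : D.IHyp) : ed Gen.e V_3031 = V_2844 :=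
  flipE D.rels D.S (hinv Gen.e) (F_13194 IH)
theorem F_13196 (IH : D.IHyp) : ed Gen.d V_3031 = V_3032 :=
  rfl
theorem F_13197 (IH : D.IHyp) : ed Gen.d V_3032 = V_3031 :=
  flipE D.rels D.S (hinv Gen.d) (F_13196 IH)
theorem F_13198 (IH : D.IHyp) : ed Gen.b V_1455 = V_3032 :=
  gap_rel RW_4 (path_edge (F_5230 IH) (path_edge (F_13192 IH) (path_edge (F_13197 IH) (path_nil _))))
theorem F_13199 (IH : D.IHyp) : ed Gen.b V_3032 = V_1455 :=
  flipE D.rels D.S (hinv Gen.b) (F_13198 IH)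
theorem F_13200 (IH : D.IHyp) : ed Gen.i V_3032 = V_934 :=
  gap_rel RW_6 (path_edge (F_13196 IH) (path_edge (F_13189 IH) (path_edge (F_2325 IH) (path_nil _))))
theorem F_13202 (IH : D.IHyp) : ed Gen.h V_3032 = V_3032 :=
  gap_rel RW_31 (path_edge (F_13198 IH) (path_edge (F_12958 IH) (path_edge (F_13199 IH) (path_nil _))))
theorem F_13203 (IH : D.IHyp) : ed Gen.c V_3032 = V_3033 :=
  rfl
theorem F_13204 (IH : D.IHyp) : ed Gen.c V_3033 = V_3032 :=
  flipE D.rels D.S (hinv Gen.c) (F_13203 IH)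
theorem F_13205 (IH : D.IHyp) : ed Gen.h V_3033 = V_3033 :=
  gap_rel RW_32 (path_edge (F_13203 IH) (path_edge (F_13202 IH) (path_edge (F_13204 IH) (path_nil _))))
theorem F_13206 (IH : D.IHyp) : ed Gen.d V_3033 = V_3033 :=
  gap_rel RW_21 (path_edge (F_13203 IH) (path_edge (F_13196 IH) (path_edge (F_13193 IH) (path_edge (F_13197 IH) (path_edge (F_13204 IH) (path_nil _))))))
theorem F_13207 (IH : D.IHyp) : ed Gen.b V_3033 = V_3034 :=
  rfl
theorem F_13208 (IH : D.IHyp) : ed Gen.b V_3034 = V_3033 :=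
  flipE D.rels D.S (hinv Gen.b) (F_13207 IH)
theorem F_13209 (IH : D.IHyp) : ed Gen.d V_3034 = V_3034 :=
  gap_rel RW_29 (path_edge (F_13207 IH) (path_edge (F_13206 IH) (path_edge (F_13208 IH) (path_nil _))))
theorem F_13210 (IH : D.IHyp) : ed Gen.h V_3034 = V_3034 :=
  gap_rel RW_31 (path_edge (F_13207 IH) (path_edge (F_13205 IH) (path_edge (F_13208 IH) (path_nil _))))
theorem F_13216 (IH : D.IHyp) : ed Gen.e V_3034 = V_3035 :=
  rfl
theorem F_13217 (IH : D.IHyp) : ed Gen.e V_3035 = V_3034 :=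
  flipE D.rels D.S (hinv Gen.e) (F_13216 IH)
theorem F_13218 (IH : D.IHyp) : ed Gen.h V_3035 = V_3035 :=
  gap_rel RW_38 (path_edge (F_13216 IH) (path_edge (F_13210 IH) (path_edge (F_13217 IH) (path_nil _))))
theorem F_13219 (IH : D.IHyp) : ed Gen.f V_3035 = V_3036 :=
  rfl
theorem F_13220 (IH : D.IHyp) : ed Gen.f V_3036 = V_3035 :=
  flipE D.rels D.S (hinv Gen.f) (F_13219 IH)
theorem F_13221 (IH : D.IHyp) : ed Gen.h V_3036 = V_3036 :=
  gap_rel RW_39 (path_edge (F_13219 IH) (path_edge (F_13218 IH) (path_edge (F_13220 IH) (path_nil _))))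
theorem F_13222 (IH : D.IHyp) : ed Gen.d V_3036 = V_3037 :=
  rfl
theorem F_13223 (IH : D.IHyp) : ed Gen.d V_3037 = V_3036 :=
  flipE D.rels D.S (hinv Gen.d) (F_13222 IH)
theorem F_13224 (IH : D.IHyp) : ed Gen.h V_3037 = V_3038 :=
  rfl
theorem F_13225 (IH : D.IHyp) : ed Gen.h V_3038 = V_3037 :=
  flipE D.rels D.S (hinv Gen.h) (F_13224 IH)
theorem F_13226 (IH : D.IHyp) : ed Gen.d V_3038 = V_3038 :=
  gap_rel RW_12 (path_edge (F_13224 IH) (path_edge (F_13222 IH) (path_edge (F_13221 IH) (path_edge (F_13223 IH) (path_edge (F_13225 IH) (path_nil _))))))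
theorem F_13227 (IH : D.IHyp) : ed Gen.i V_3038 = V_3039 :=
  rfl
theorem F_13228 (IH : D.IHyp) : ed Gen.i V_3039 = V_3038 :=
  flipE D.rels D.S (hinv Gen.i) (F_13227 IH)
theorem F_13229 (IH : D.IHyp) : ed Gen.d V_3039 = V_3039 :=
  gap_rel RW_23 (path_edge (F_13227 IH) (path_edge (F_13226 IH) (path_edge (F_13228 IH) (path_nil _))))
theorem F_13230 (IH : D.IHyp) : ed Gen.c V_3039 = V_3040 :=
  rfl
theorem F_13231 (IH : D.IHyp) : ed Gen.c V_3040 = V_3039 :=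
  flipE D.rels D.S (hinv Gen.c) (F_13230 IH)
theorem F_13232 (IH : D.IHyp) : ed Gen.b V_3040 = V_3041 :=
  rfl
theorem F_13233 (IH : D.IHyp) : ed Gen.b V_3041 = V_3040 :=
  flipE D.rels D.S (hinv Gen.b) (F_13232 IH)
theorem F_13234 (IH : D.IHyp) : ed Gen.d V_3041 = V_3042 :=
  rfl
theorem F_13235 (IH : D.IHyp) : ed Gen.d V_3042 = V_3041 :=
  flipE D.rels D.S (hinv Gen.d) (F_13234 IH)
theorem F_13236 (IH : D.IHyp) : ed Gen.e V_3042 = V_3043 :=
  rfl
theorem F_13237 (IH : D.IHyp) : ed Gen.e V_3043 = V_3042 :=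
  flipE D.rels D.S (hinv Gen.e) (F_13236 IH)
theorem F_13238 (IH : D.IHyp) : ed Gen.f V_3043 = V_3044 :=
  rfl
theorem F_13239 (IH : D.IHyp) : ed Gen.f V_3044 = V_3043 :=
  flipE D.rels D.S (hinv Gen.f) (F_13238 IH)
theorem F_13240 (IH : D.IHyp) : ed Gen.d V_3044 = V_3045 :=
  rfl
theorem F_13241 (IH : D.IHyp) : ed Gen.d V_3045 = V_3044 :=
  flipE D.rels D.S (hinv Gen.d) (F_13240 IH)
theorem F_13242 (IH : D.IHyp) : ed Gen.h V_3045 = V_3046 :=
  rfl
theorem F_13243 (IH : D.IHyp) : ed Gen.h V_3046 = V_3045 :=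
  flipE D.rels D.S (hinv Gen.h) (F_13242 IH)
theorem F_13244 (IH : D.IHyp) : ed Gen.i V_3046 = V_3047 :=
  rfl
theorem F_13245 (IH : D.IHyp) : ed Gen.i V_3047 = V_3046 :=
  flipE D.rels D.S (hinv Gen.i) (F_13244 IH)
theorem F_13246 (IH : D.IHyp) : ed Gen.d V_3047 = V_3048 :=
  rfl
theorem F_13247 (IH : D.IHyp) : ed Gen.d V_3048 = V_3047 :=
  flipE D.rels D.S (hinv Gen.d) (F_13246 IH)
theorem F_13248 (IH : D.IHyp) : ed Gen.c V_3048 = V_3049 :=
  rfl
theorem F_13249 (IH : D.IHyp) : ed Gen.c V_3049 = V_3048 :=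
  flipE D.rels D.S (hinv Gen.c) (F_13248 IH)
theorem F_13250 (IH : D.IHyp) : ed Gen.b V_3049 = V_3050 :=
  rfl
theorem F_13251 (IH : D.IHyp) : ed Gen.b V_3050 = V_3049 :=
  flipE D.rels D.S (hinv Gen.b) (F_13250 IH)
theorem F_13252 (IH : D.IHyp) : ed Gen.d V_3050 = V_3051 :=
  rfl
theorem F_13253 (IH : D.IHyp) : ed Gen.d V_3051 = V_3050 :=
  flipE D.rels D.S (hinv Gen.d) (F_13252 IH)
theorem F_13254 (IH : D.IHyp) : ed Gen.e V_3051 = V_3052 :=
  rfl
theorem F_13255 (IH : D.IHyp) : ed Gen.e V_3052 = V_3051 :=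
  flipE D.rels D.S (hinv Gen.e) (F_13254 IH)
theorem F_13256 (IH : D.IHyp) : ed Gen.f V_3052 = V_3053 :=
  rfl
theorem F_13257 (IH : D.IHyp) : ed Gen.f V_3053 = V_3052 :=
  flipE D.rels D.S (hinv Gen.f) (F_13256 IH)
theorem F_13258 (IH : D.IHyp) : ed Gen.d V_3053 = V_3054 :=
  rfl
theorem F_13259 (IH : D.IHyp) : ed Gen.d V_3054 = V_3053 :=
  flipE D.rels D.S (hinv Gen.d) (F_13258 IH)
theorem F_13260 (IH : D.IHyp) : ed Gen.h V_3054 = V_3055 :=
  rfl
theorem F_13261 (IH : D.IHyp) : ed Gen.h V_3055 = V_3054 :=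
  flipE D.rels D.S (hinv Gen.h) (F_13260 IH)
theorem F_13262 (IH : D.IHyp) : ed Gen.i V_3055 = V_3056 :=
  rfl
theorem F_13263 (IH : D.IHyp) : ed Gen.i V_3056 = V_3055 :=
  flipE D.rels D.S (hinv Gen.i) (F_13262 IH)
theorem F_13264 (IH : D.IHyp) : ed Gen.d V_3056 = V_3057 :=
  rfl
theorem F_13265 (IH : D.IHyp) : ed Gen.d V_3057 = V_3056 :=
  flipE D.rels D.S (hinv Gen.d) (F_13264 IH)
theorem F_13266 (IH : D.IHyp) : ed Gen.c V_3057 = V_3058 :=
  rfl
theorem F_13267 (IH : D.IHyp) : ed Gen.c V_3058 = V_3057 :=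
  flipE D.rels D.S (hinv Gen.c) (F_13266 IH)
theorem F_13268 (IH : D.IHyp) : ed Gen.b V_3058 = V_3059 :=
  rfl
theorem F_13269 (IH : D.IHyp) : ed Gen.b V_3059 = V_3058 :=
  flipE D.rels D.S (hinv Gen.b) (F_13268 IH)
theorem F_13270 (IH : D.IHyp) : ed Gen.d V_3059 = V_3060 :=
  rfl
theorem F_13271 (IH : D.IHyp) : ed Gen.d V_3060 = V_3059 :=
  flipE D.rels D.S (hinv Gen.d) (F_13270 IH)
theorem F_13272 (IH : D.IHyp) : ed Gen.e V_3060 = V_3061 :=
  rfl
theorem F_13273 (IH : D.IHyp) : ed Gen.e V_3061 = V_3060 :=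
  flipE D.rels D.S (hinv Gen.e) (F_13272 IH)
theorem F_13274 (IH : D.IHyp) : ed Gen.f V_3061 = V_3062 :=
  rfl
theorem F_13275 (IH : D.IHyp) : ed Gen.f V_3062 = V_3061 :=
  flipE D.rels D.S (hinv Gen.f) (F_13274 IH)
theorem F_13276 (IH : D.IHyp) : ed Gen.d V_3062 = V_3063 :=
  rfl
theorem F_13277 (IH : D.IHyp) : ed Gen.d V_3063 = V_3062 :=
  flipE D.rels D.S (hinv Gen.d) (F_13276 IH)
theorem F_13278 (IH : D.IHyp) : ed Gen.h V_3063 = V_3064 :=
  rfl
theorem F_13279 (IH : D.IHyp) : ed Gen.h V_3064 = V_3063 :=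
  flipE D.rels D.S (hinv Gen.h) (F_13278 IH)
theorem F_13280 (IH : D.IHyp) : ed Gen.i V_3064 = V_3065 :=
  rfl
theorem F_13281 (IH : D.IHyp) : ed Gen.i V_3065 = V_3064 :=
  flipE D.rels D.S (hinv Gen.i) (F_13280 IH)
theorem F_13282 (IH : D.IHyp) : ed Gen.d V_3065 = V_3066 :=
  rfl
theorem F_13283 (IH : D.IHyp) : ed Gen.d V_3066 = V_3065 :=
  flipE D.rels D.S (hinv Gen.d) (F_13282 IH)
theorem F_13284 (IH : D.IHyp) : ed Gen.c V_3066 = V_3067 :=
  rfl
theorem F_13285 (IH : D.IHyp) : ed Gen.c V_3067 = V_3066 :=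
  flipE D.rels D.S (hinv Gen.c) (F_13284 IH)
theorem F_13286 (IH : D.IHyp) : ed Gen.b V_3067 = V_3068 :=
  rfl
theorem F_13287 (IH : D.IHyp) : ed Gen.b V_3068 = V_3067 :=
  flipE D.rels D.S (hinv Gen.b) (F_13286 IH)
theorem F_13288 (IH : D.IHyp) : ed Gen.d V_3068 = V_3069 :=
  rfl
theorem F_13289 (IH : D.IHyp) : ed Gen.d V_3069 = V_3068 :=
  flipE D.rels D.S (hinv Gen.d) (F_13288 IH)
theorem F_13290 (IH : D.IHyp) : ed Gen.e V_3069 = V_3070 :=
  rfl
theorem F_13291 (IH : D.IHyp) : ed Gen.e V_3070 = V_3069 :=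
  flipE D.rels D.S (hinv Gen.e) (F_13290 IH)
theorem F_13292 (IH : D.IHyp) : ed Gen.f V_3070 = V_3071 :=
  rfl
theorem F_13293 (IH : D.IHyp) : ed Gen.f V_3071 = V_3070 :=
  flipE D.rels D.S (hinv Gen.f) (F_13292 IH)
theorem F_13294 (IH : D.IHyp) : ed Gen.d V_3071 = V_3072 :=
  rfl
theorem F_13295 (IH : D.IHyp) : ed Gen.d V_3072 = V_3071 :=
  flipE D.rels D.S (hinv Gen.d) (F_13294 IH)
theorem F_13296 (IH : D.IHyp) : ed Gen.h V_3072 = V_3073 :=
  rfl
theorem F_13297 (IH : D.IHyp) : ed Gen.h V_3073 = V_3072 :=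
  flipE D.rels D.S (hinv Gen.h) (F_13296 IH)
theorem F_13298 (IH : D.IHyp) : ed Gen.i V_3073 = V_3074 :=
  rfl
theorem F_13299 (IH : D.IHyp) : ed Gen.i V_3074 = V_3073 :=
  flipE D.rels D.S (hinv Gen.i) (F_13298 IH)
theorem F_13300 (IH : D.IHyp) : ed Gen.d V_3074 = V_3075 :=
  rfl
theorem F_13301 (IH : D.IHyp) : ed Gen.d V_3075 = V_3074 :=
  flipE D.rels D.S (hinv Gen.d) (F_13300 IH)
theorem F_13302 (IH : D.IHyp) : ed Gen.c V_3075 = V_3076 :=
  rfl
theorem F_13303 (IH : D.IHyp) : ed Gen.c V_3076 = V_3075 :=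
  flipE D.rels D.S (hinv Gen.c) (F_13302 IH)
theorem F_13304 (IH : D.IHyp) : ed Gen.b V_3076 = V_3077 :=
  rfl
theorem F_13305 (IH : D.IHyp) : ed Gen.b V_3077 = V_3076 :=
  flipE D.rels D.S (hinv Gen.b) (F_13304 IH)
theorem F_13306 (IH : D.IHyp) : ed Gen.d V_3077 = V_3078 :=
  rfl
theorem F_13307 (IH : D.IHyp) : ed Gen.d V_3078 = V_3077 :=
  flipE D.rels D.S (hinv Gen.d) (F_13306 IH)
theorem F_13308 (IH : D.IHyp) : ed Gen.e V_3078 = V_3079 :=
  rfl
theorem F_13309 (IH : D.IHyp) : ed Gen.e V_3079 = V_3078 :=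
  flipE D.rels D.S (hinv Gen.e) (F_13308 IH)
theorem F_13310 (IH : D.IHyp) : ed Gen.f V_3079 = V_3080 :=
  rfl
theorem F_13311 (IH : D.IHyp) : ed Gen.f V_3080 = V_3079 :=
  flipE D.rels D.S (hinv Gen.f) (F_13310 IH)
theorem F_13312 (IH : D.IHyp) : ed Gen.d V_3080 = V_3081 :=
  rfl
theorem F_13313 (IH : D.IHyp) : ed Gen.d V_3081 = V_3080 :=
  flipE D.rels D.S (hinv Gen.d) (F_13312 IH)
theorem F_13314 (IH : D.IHyp) : ed Gen.h V_3081 = V_3082 :=
  rfl
theorem F_13315 (IH : D.IHyp) : ed Gen.h V_3082 = V_3081 :=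
  flipE D.rels D.S (hinv Gen.h) (F_13314 IH)
theorem F_13316 (IH : D.IHyp) : ed Gen.i V_3082 = V_3083 :=
  rfl
theorem F_13317 (IH : D.IHyp) : ed Gen.i V_3083 = V_3082 :=
  flipE D.rels D.S (hinv Gen.i) (F_13316 IH)
theorem F_13318 (IH : D.IHyp) : ed Gen.d V_3083 = V_3084 :=
  rfl
theorem F_13319 (IH : D.IHyp) : ed Gen.d V_3084 = V_3083 :=
  flipE D.rels D.S (hinv Gen.d) (F_13318 IH)
theorem F_13320 (IH : D.IHyp) : ed Gen.c V_3084 = V_3085 :=
  rfl
theorem F_13321 (IH : D.IHyp) : ed Gen.c V_3085 = V_3084 :=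
  flipE D.rels D.S (hinv Gen.c) (F_13320 IH)
theorem F_13322 (IH : D.IHyp) : ed Gen.b V_3085 = V_3086 :=
  rfl
theorem F_13323 (IH : D.IHyp) : ed Gen.b V_3086 = V_3085 :=
  flipE D.rels D.S (hinv Gen.b) (F_13322 IH)
theorem F_13324 (IH : D.IHyp) : ed Gen.d V_3086 = V_3087 :=
  rfl
theorem F_13325 (IH : D.IHyp) : ed Gen.d V_3087 = V_3086 :=
  flipE D.rels D.S (hinv Gen.d) (F_13324 IH)
theorem F_13326 (IH : D.IHyp) : ed Gen.e V_3087 = V_3088 :=
  rfl
theorem F_13327 (IH : D.IHyp) : ed Gen.e V_3088 = V_3087 :=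
  flipE D.rels D.S (hinv Gen.e) (F_13326 IH)
theorem F_13328 (IH : D.IHyp) : ed Gen.f V_3088 = V_3089 :=
  rfl
theorem F_13329 (IH : D.IHyp) : ed Gen.f V_3089 = V_3088 :=
  flipE D.rels D.S (hinv Gen.f) (F_13328 IH)
theorem F_13330 (IH : D.IHyp) : ed Gen.d V_3089 = V_3090 :=
  rfl
theorem F_13331 (IH : D.IHyp) : ed Gen.d V_3090 = V_3089 :=
  flipE D.rels D.S (hinv Gen.d) (F_13330 IH)
theorem F_13332 (IH : D.IHyp) : ed Gen.h V_3090 = V_3091 :=
  rfl
theorem F_13333 (IH : D.IHyp) : ed Gen.h V_3091 = V_3090 :=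
  flipE D.rels D.S (hinv Gen.h) (F_13332 IH)
theorem F_13334 (IH : D.IHyp) : ed Gen.i V_3091 = V_3092 :=
  rfl
theorem F_13335 (IH : D.IHyp) : ed Gen.i V_3092 = V_3091 :=
  flipE D.rels D.S (hinv Gen.i) (F_13334 IH)
theorem F_13336 (IH : D.IHyp) : ed Gen.d V_3092 = V_3093 :=
  rfl
theorem F_13337 (IH : D.IHyp) : ed Gen.d V_3093 = V_3092 :=
  flipE D.rels D.S (hinv Gen.d) (F_13336 IH)
theorem F_13338 (IH : D.IHyp) : ed Gen.c V_3093 = V_3094 :=
  rfl
theorem F_13339 (IH : D.IHyp) : ed Gen.c V_3094 = V_3093 :=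
  flipE D.rels D.S (hinv Gen.c) (F_13338 IH)
theorem F_13340 (IH : D.IHyp) : ed Gen.b V_3094 = V_3095 :=
  rfl
theorem F_13341 (IH : D.IHyp) : ed Gen.b V_3095 = V_3094 :=
  flipE D.rels D.S (hinv Gen.b) (F_13340 IH)
theorem F_13342 (IH : D.IHyp) : ed Gen.d V_3095 = V_3096 :=
  rfl
theorem F_13343 (IH : D.IHyp) : ed Gen.d V_3096 = V_3095 :=
  flipE D.rels D.S (hinv Gen.d) (F_13342 IH)
theorem F_13344 (IH : D.IHyp) : ed Gen.e V_3096 = V_3097 :=
  rfl
theorem F_13345 (IH : D.IHyp) : ed Gen.e V_3097 = V_3096 :=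
  flipE D.rels D.S (hinv Gen.e) (F_13344 IH)
theorem F_13346 (IH : D.IHyp) : ed Gen.f V_2111 = V_3097 :=
  gap_rel RW_25 (path_edge (F_8471 IH) (path_edge (F_8468 IH) (path_edge (F_8470 IH) (path_edge (F_11174 IH) (path_edge (F_11168 IH) (path_edge (F_11158 IH) (path_edge (F_12507 IH) (path_edge (F_12773 IH) (path_edge (F_12780 IH) (path_edge (F_12784 IH) (path_edge (F_12785 IH) (path_edge (F_12786 IH) (path_edge (F_5289 IH) (path_edge (F_5288 IH) (path_edge (F_5286 IH) (path_edge (F_5280 IH) (path_edge (F_12789 IH) (path_edge (F_12799 IH) (path_edge (F_12804 IH) (path_edge (F_12827 IH) (path_edge (F_13190 IH) (path_edge (F_13197 IH) (path_edge (F_13204 IH) (path_edge (F_13208 IH) (path_edge (F_13209 IH) (path_edge (F_13217 IH) (path_edge (F_13220 IH) (path_edge (F_13223 IH) (path_edge (F_13225 IH) (path_edge (F_13228 IH) (path_edge (F_13229 IH) (path_edge (F_13231 IH) (path_edge (F_13233 IH) (path_edge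 (F_13235 IH) (path_edge (F_13237 IH) (path_edge (F_13239 IH) (path_edge (F_13241 IH) (path_edge (F_13243 IH) (path_edge (F_13245 IH) (path_edge (F_13247 IH) (path_edge (F_13249 IH) (path_edge (F_13251 IH) (path_edge (F_13253 IH) (path_edge (F_13255 IH) (path_edge (F_13257 IH) (path_edge (F_13259 IH) (path_edge (F_13261 IH) (path_edge (F_13263 IH) (path_edge (F_13265 IH) (path_edge (F_13267 IH) (path_edge (F_13269 IH) (path_edge (F_13271 IH) (path_edge (F_13273 IH) (path_edge (F_13275 IH) (path_edge (F_13277 IH) (path_edge (F_13279 IH) (path_edge (F_13281 IH) (path_edge (F_13283 IH) (path_edge (F_13285 IH) (path_edge (F_13287 IH) (path_edge (F_13289 IH) (path_edge (F_13291 IH) (path_edge (F_13293 IH) (path_edge (F_13295 IH) (path_edge (F_13297 IH) (path_edge (F_13299 IH) (path_edge (F_13301 IH) (path_edge (F_13303 IH) (path_edge (F_13305 IH) (path_edge (F_13307 IH) (path_edge (F_13309 IH) (path_edge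 (F_13311 IH) (path_edge (F_13313 IH) (path_edge (F_13315 IH) (path_edge (F_13317 IH) (path_edge (F_13319 IH) (path_edge (F_13321 IH) (path_edge (F_13323 IH) (path_edge (F_13325 IH) (path_edge (F_13327 IH) (path_edge (F_13329 IH) (path_edge (F_13331 IH) (path_edge (F_13333 IH) (path_edge (F_13335 IH) (path_edge (F_13337 IH) (path_edge (F_13339 IH) (path_edge (F_13341 IH) (path_edge (F_13343 IH) (path_edge (F_13345 IH) (path_nil _))))))))))))))))))))))))))))))))))))))))))))))))))))))))))))))))))))))))))))))))))))))))))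
theorem F_13348 (IH : D.IHyp) : ed Gen.b V_3097 = V_1560 :=
  gap_rel RW_26 (path_edge (F_13346 IH) (path_edge (F_8477 IH) (path_edge (F_8481 IH) (path_nil _))))
theorem F_13349 (IH : D.IHyp) : ed Gen.b V_1560 = V_3097 :=
  flipE D.rels D.S (hinv Gen.b) (F_13348 IH)
theorem F_13356 (IH : D.IHyp) : ed Gen.d V_3097 = V_2284 :=
  gap_rel RW_29 (path_edge (F_13349 IH) (path_edge (F_5591 IH) (path_edge (F_9105 IH) (path_nil _))))
theorem F_13357 (IH : D.IHyp) : ed Gen.d V_2284 = V_3097 :=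
  flipE D.rels D.S (hinv Gen.d) (F_13356 IH)
theorem F_13358 (IH : D.IHyp) : ed Gen.b V_3096 = V_2279 :=
  gap_rel RW_13 (path_edge (F_13345 IH) (path_edge (F_13349 IH) (path_edge (F_9133 IH) (path_nil _))))
theorem F_13362 (IH : D.IHyp) : ed Gen.e V_3095 = V_3097 :=
  gap_rel RW_41 (path_edge (F_13343 IH) (path_edge (F_13345 IH) (path_edge (F_13357 IH) (path_edge (F_9096 IH) (path_edge (F_13356 IH) (path_nil _))))))
theorem F_13363 (IH : D.IHyp) : ed Gen.e V_3097 = V_3095 :=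
  flipE D.rels D.S (hinv Gen.e) (F_13362 IH)
theorem F_13364 (IH : D.IHyp) : V_3096 = V_3095 :=
  edge_fun (F_13345 IH) (F_13363 IH)
theorem F_13365 (IH : D.IHyp) : ed Gen.b V_3095 = V_2279 :=
  edge_congr (F_13358 IH) (F_13364 IH)
theorem F_13366 (IH : D.IHyp) : V_3094 = V_2279 :=
  edge_fun (F_13341 IH) (F_13365 IH)
theorem F_13375 (IH : D.IHyp) : ed Gen.c V_2279 = V_3093 :=
  edge_congr (F_13339 IH) (F_13366 IH)
theorem F_13379 (IH : D.IHyp) : ed Gen.i V_3093 = (D.P 484) :=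
  gap_rel RW_2 (path_edge (F_13375 IH) (path_edge (F_9138 IH) (path_edge (F_5771 IH) (path_nil _))))
theorem F_13380 (IH : D.IHyp) : ed Gen.i (D.P 484) = V_3093 :=
  flipE D.rels D.S (hinv Gen.i) (F_13379 IH)
theorem F_13383 (IH : D.IHyp) : ed Gen.d V_3091 = (D.P 484) :=
  gap_rel RW_23 (path_edge (F_13335 IH) (path_edge (F_13337 IH) (path_edge (F_13380 IH) (path_nil _))))
theorem F_13384 (IH : D.IHyp) : ed Gen.d (D.P 484) = V_3091 :=
  flipE D.rels D.S (hinv Gen.d) (F_13383 IH)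
theorem F_13385 (IH : D.IHyp) : (D.P 550) = V_3091 :=
  edge_fun (F_1711 IH) (F_13384 IH)
theorem F_13386 (IH : D.IHyp) : V_3091 = (D.P 550) :=
  (F_13385 IH).symm
theorem F_13388 (IH : D.IHyp) : ed Gen.h (D.P 550) = V_3090 :=
  edge_congr (F_13333 IH) (F_13386 IH)
theorem F_13389 (IH : D.IHyp) : (D.P 550) = V_3090 :=
  edge_fun (F_11993 IH) (F_13388 IH)
theorem F_13393 (IH : D.IHyp) : V_3090 = (D.P 550) :=
  (F_13389 IH).symm
theorem F_13394 (IH : D.IHyp) : ed Gen.d (D.P 550) = V_3089 :=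
  edge_congr (F_13331 IH) (F_13393 IH)
theorem F_13395 (IH : D.IHyp) : (D.P 484) = V_3089 :=
  edge_fun (F_1714 IH) (F_13394 IH)
theorem F_13398 (IH : D.IHyp) : V_3089 = (D.P 484) :=
  (F_13395 IH).symm
theorem F_13400 (IH : D.IHyp) : ed Gen.f (D.P 484) = V_3088 :=
  edge_congr (F_13329 IH) (F_13398 IH)
theorem F_13401 (IH : D.IHyp) : (D.P 484) = V_3088 :=
  edge_fun (F_8496 IH) (F_13400 IH)
theorem F_13403 (IH : D.IHyp) : V_3088 = (D.P 484) :=
  (F_13401 IH).symm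
theorem F_13404 (IH : D.IHyp) : ed Gen.e (D.P 484) = V_3087 :=
  edge_congr (F_13327 IH) (F_13403 IH)
theorem F_13405 (IH : D.IHyp) : (D.P 415) = V_3087 :=
  edge_fun (F_5777 IH) (F_13404 IH)
theorem F_13408 (IH : D.IHyp) : V_3087 = (D.P 415) :=
  (F_13405 IH).symm
theorem F_13409 (IH : D.IHyp) : ed Gen.d (D.P 415) = V_3086 :=
  edge_congr (F_13325 IH) (F_13408 IH)
theorem F_13410 (IH : D.IHyp) : (D.P 415) = V_3086 :=
  edge_fun (F_5705 IH) (F_13409 IH)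
theorem F_13413 (IH : D.IHyp) : V_3086 = (D.P 415) :=
  (F_13410 IH).symm
theorem F_13414 (IH : D.IHyp) : ed Gen.b (D.P 415) = V_3085 :=
  edge_congr (F_13323 IH) (F_13413 IH)
theorem F_13415 (IH : D.IHyp) : (D.P 482) = V_3085 :=
  edge_fun (F_5742 IH) (F_13414 IH)
theorem F_13418 (IH : D.IHyp) : V_3085 = (D.P 482) :=
  (F_13415 IH).symm
theorem F_13420 (IH : D.IHyp) : ed Gen.c (D.P 482) = V_3084 :=
  edge_congr (F_13321 IH) (F_13418 IH)
theorem F_13421 (IH : D.IHyp) : V_2841 = V_3084 :=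
  edge_fun (F_11983 IH) (F_13420 IH)
theorem F_13423 (IH : D.IHyp) : V_3084 = V_2841 :=
  (F_13421 IH).symm
theorem F_13425 (IH : D.IHyp) : ed Gen.d V_2841 = V_3083 :=
  edge_congr (F_13319 IH) (F_13423 IH)
theorem F_13453 (IH : D.IHyp) : ed Gen.d V_3082 = V_783 :=
  gap_rel RW_23 (path_edge (F_13317 IH) (path_edge (F_13425 IH) (path_edge (F_11990 IH) (path_nil _))))
theorem F_13454 (IH : D.IHyp) : ed Gen.d V_783 = V_3082 :=
  flipE D.rels D.S (hinv Gen.d) (F_13453 IH)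
theorem F_13455 (IH : D.IHyp) : V_784 = V_3082 :=
  edge_fun (F_1348 IH) (F_13454 IH)
theorem F_13456 (IH : D.IHyp) : V_3082 = V_784 :=
  (F_13455 IH).symm
theorem F_13458 (IH : D.IHyp) : ed Gen.h V_784 = V_3081 :=
  edge_congr (F_13315 IH) (F_13456 IH)
theorem F_13459 (IH : D.IHyp) : V_867 = V_3081 :=
  edge_fun (F_8157 IH) (F_13458 IH)
theorem F_13463 (IH : D.IHyp) : V_3081 = V_867 :=
  (F_13459 IH).symm
theorem F_13464 (IH : D.IHyp) : ed Gen.d V_867 = V_3080 :=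
  edge_congr (F_13313 IH) (F_13463 IH)
theorem F_13465 (IH : D.IHyp) : V_866 = V_3080 :=
  edge_fun (F_1816 IH) (F_13464 IH)
theorem F_13468 (IH : D.IHyp) : V_3080 = V_866 :=
  (F_13465 IH).symm
theorem F_13470 (IH : D.IHyp) : ed Gen.f V_866 = V_3079 :=
  edge_congr (F_13311 IH) (F_13468 IH)
theorem F_13471 (IH : D.IHyp) : V_2827 = V_3079 :=
  edge_fun (F_11965 IH) (F_13470 IH)
theorem F_13473 (IH : D.IHyp) : V_3079 = V_2827 :=
  (F_13471 IH).symm
theorem F_13474 (IH : D.IHyp) : ed Gen.e V_2827 = V_3078 :=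
  edge_congr (F_13309 IH) (F_13473 IH)
theorem F_13475 (IH : D.IHyp) : V_2826 = V_3078 :=
  edge_fun (F_11842 IH) (F_13474 IH)
theorem F_13478 (IH : D.IHyp) : V_3078 = V_2826 :=
  (F_13475 IH).symm
theorem F_13479 (IH : D.IHyp) : ed Gen.d V_2826 = V_3077 :=
  edge_congr (F_13307 IH) (F_13478 IH)
theorem F_13480 (IH : D.IHyp) : ed Gen.d V_3077 = V_2826 :=
  flipE D.rels D.S (hinv Gen.d) (F_13479 IH)
theorem F_13486 (IH : D.IHyp) : ed Gen.b V_2124 = V_3077 :=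
  gap_rel RW_4 (path_edge (F_8524 IH) (path_edge (F_11970 IH) (path_edge (F_13480 IH) (path_nil _))))
theorem F_13487 (IH : D.IHyp) : ed Gen.b V_3077 = V_2124 :=
  flipE D.rels D.S (hinv Gen.b) (F_13486 IH)
theorem F_13488 (IH : D.IHyp) : V_3076 = V_2124 :=
  edge_fun (F_13305 IH) (F_13487 IH)
theorem F_13489 (IH : D.IHyp) : ed Gen.b V_2124 = V_3077 :=
  edge_congr (F_13304 IH) (F_13488 IH)
theorem F_13490 (IH : D.IHyp) : ed Gen.b V_3077 = V_2124 :=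
  flipE D.rels D.S (hinv Gen.b) (F_13489 IH)
theorem F_13493 (IH : D.IHyp) : ed Gen.f V_3077 = V_2824 :=
  gap_rel RW_5 (path_edge (F_13479 IH) (path_edge (F_11839 IH) (path_edge (F_11837 IH) (path_nil _))))
theorem F_13494 (IH : D.IHyp) : ed Gen.f V_2824 = V_3077 :=
  flipE D.rels D.S (hinv Gen.f) (F_13493 IH)
theorem F_13496 (IH : D.IHyp) : ed Gen.b V_2125 = V_2824 :=
  gap_rel RW_26 (path_edge (F_8526 IH) (path_edge (F_13490 IH) (path_edge (F_13494 IH) (path_nil _))))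
theorem F_13497 (IH : D.IHyp) : ed Gen.b V_2824 = V_2125 :=
  flipE D.rels D.S (hinv Gen.b) (F_13496 IH)
theorem F_13498 (IH : D.IHyp) : ed Gen.h V_3077 = V_3077 :=
  gap_rel RW_31 (path_edge (F_13486 IH) (path_edge (F_10050 IH) (path_edge (F_13490 IH) (path_nil _))))
theorem F_13499 (IH : D.IHyp) : ed Gen.f V_2823 = V_3077 :=
  gap_rel RW_10 (path_edge (F_11836 IH) (path_edge (F_13493 IH) (path_edge (F_13498 IH) (path_nil _))))
theorem F_13500 (IH : D.IHyp) : ed Gen.f V_3077 = V_2823 :=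
  flipE D.rels D.S (hinv Gen.f) (F_13499 IH)
theorem F_13501 (IH : D.IHyp) : V_2824 = V_2823 :=
  edge_fun (F_13493 IH) (F_13500 IH)
theorem F_13502 (IH : D.IHyp) : ed Gen.b V_2823 = V_2125 :=
  edge_congr (F_13497 IH) (F_13501 IH)
theorem F_13504 (IH : D.IHyp) : ed Gen.d V_2823 = V_2825 :=
  edge_congr (F_11837 IH) (F_13501 IH)
theorem F_13509 (IH : D.IHyp) : ed Gen.i V_2824 = V_2823 :=
  (F_11977 IH).trans (F_13501 IH)
theorem F_13510 (IH : D.IHyp) : ed Gen.i V_2823 = V_2823 :=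
  edge_congr (F_13509 IH) (F_13501 IH)
theorem F_13511 (IH : D.IHyp) : V_2822 = V_2823 :=
  edge_fun (F_11834 IH) (F_13510 IH)
theorem F_13514 (IH : D.IHyp) : V_2823 = V_2822 :=
  (F_13511 IH).symm
theorem F_13515 (IH : D.IHyp) : ed Gen.b V_2822 = V_2125 :=
  edge_congr (F_13502 IH) (F_13514 IH)
theorem F_13516 (IH : D.IHyp) : ed Gen.b V_2125 = V_2822 :=
  flipE D.rels D.S (hinv Gen.b) (F_13515 IH)
theorem F_13517 (IH : D.IHyp) : ed Gen.d V_2822 = V_2825 :=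
  edge_congr (F_13504 IH) (F_13514 IH)
theorem F_13518 (IH : D.IHyp) : V_2821 = V_2825 :=
  edge_fun (F_11832 IH) (F_13517 IH)
theorem F_13525 (IH : D.IHyp) : V_2825 = V_2821 :=
  (F_13518 IH).symm
theorem F_13527 (IH : D.IHyp) : ed Gen.e V_2821 = V_864 :=
  edge_congr (F_11974 IH) (F_13525 IH)
theorem F_13590 (IH : D.IHyp) : ed Gen.e V_2822 = V_967 :=
  gap_rel RW_30 (path_edge (F_13516 IH) (path_edge (F_8529 IH) (path_edge (F_11408 IH) (path_nil _))))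
theorem F_13591 (IH : D.IHyp) : ed Gen.e V_967 = V_2822 :=
  flipE D.rels D.S (hinv Gen.e) (F_13590 IH)
theorem F_13596 (IH : D.IHyp) : ed Gen.e V_863 = V_966 :=
  gap_rel RW_41 (path_edge (F_1810 IH) (path_edge (F_13527 IH) (path_edge (F_11832 IH) (path_edge (F_13591 IH) (path_edge (F_2390 IH) (path_nil _))))))
theorem F_13597 (IH : D.IHyp) : ed Gen.e V_966 = V_863 :=
  flipE D.rels D.S (hinv Gen.e) (F_13596 IH)
theorem F_13616 (IH : D.IHyp) : ed Gen.e V_2717 = V_2127 :=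
  gap_rel RW_30 (path_edge (F_11398 IH) (path_edge (F_13597 IH) (path_edge (F_11416 IH) (path_nil _))))
theorem F_13617 (IH : D.IHyp) : ed Gen.e V_2127 = V_2717 :=
  flipE D.rels D.S (hinv Gen.e) (F_13616 IH)
theorem F_13618 (IH : D.IHyp) : ed Gen.e V_965 = V_862 :=
  gap_rel RW_9 (path_edge (F_2389 IH) (path_edge (F_13596 IH) (path_edge (F_1807 IH) (path_nil _))))
theorem F_13638 (IH : D.IHyp) : ed Gen.e V_861 = V_963 :=
  gap_rel RW_18 (path_edge (F_1806 IH) (path_edge (F_13618 IH) (path_edge (F_6390 IH) (path_nil _))))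
theorem F_13639 (IH : D.IHyp) : ed Gen.e V_963 = V_861 :=
  flipE D.rels D.S (hinv Gen.e) (F_13638 IH)
theorem F_13648 (IH : D.IHyp) : ed Gen.e V_2743 = V_962 :=
  gap_rel RW_0 (path_edge (F_11460 IH) (path_edge (F_13639 IH) (path_edge (F_2382 IH) (path_nil _))))
theorem F_13649 (IH : D.IHyp) : ed Gen.e V_962 = V_2743 :=
  flipE D.rels D.S (hinv Gen.e) (F_13648 IH)
theorem F_13664 (IH : D.IHyp) : ed Gen.e V_2742 = V_961 :=
  gap_rel RW_30 (path_edge (F_11090 IH) (path_edge (F_13649 IH) (path_edge (F_2380 IH) (path_nil _))))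
theorem F_13665 (IH : D.IHyp) : ed Gen.e V_961 = V_2742 :=
  flipE D.rels D.S (hinv Gen.e) (F_13664 IH)
theorem F_13670 (IH : D.IHyp) : ed Gen.d V_2740 = V_959 :=
  gap_rel RW_16 (path_edge (F_11086 IH) (path_edge (F_11088 IH) (path_edge (F_13665 IH) (path_edge (F_2378 IH) (path_edge (F_2376 IH) (path_nil _))))))
theorem F_13688 (IH : D.IHyp) : ed Gen.f V_957 = V_2740 :=
  gap_rel RW_5 (path_edge (F_2373 IH) (path_edge (F_2375 IH) (path_edge (F_13670 IH) (path_nil _))))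
theorem F_13689 (IH : D.IHyp) : ed Gen.f V_2740 = V_957 :=
  flipE D.rels D.S (hinv Gen.f) (F_13688 IH)
theorem F_13690 (IH : D.IHyp) : V_2739 = V_957 :=
  edge_fun (F_11084 IH) (F_13689 IH)
theorem F_13694 (IH : D.IHyp) : ed Gen.f V_957 = V_2740 :=
  edge_congr (F_11083 IH) (F_13690 IH)
theorem F_13695 (IH : D.IHyp) : ed Gen.f V_2740 = V_957 :=
  flipE D.rels D.S (hinv Gen.f) (F_13694 IH)
theorem F_13696 (IH : D.IHyp) : ed Gen.h V_957 = V_1513 :=
  edge_congr (F_13003 IH) (F_13690 IH)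
theorem F_13697 (IH : D.IHyp) : V_956 = V_1513 :=
  edge_fun (F_2371 IH) (F_13696 IH)
theorem F_13703 (IH : D.IHyp) : V_1513 = V_956 :=
  (F_13697 IH).symm
theorem F_13704 (IH : D.IHyp) : ed Gen.d V_956 = V_1512 :=
  edge_congr (F_5495 IH) (F_13703 IH)
theorem F_13718 (IH : D.IHyp) : ed Gen.i V_1512 = V_954 :=
  gap_rel RW_6 (path_edge (F_13704 IH) (path_edge (F_2368 IH) (path_edge (F_2366 IH) (path_nil _))))
theorem F_13719 (IH : D.IHyp) : ed Gen.i V_954 = V_1512 :=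
  flipE D.rels D.S (hinv Gen.i) (F_13718 IH)
theorem F_13720 (IH : D.IHyp) : ed Gen.i V_1511 = V_953 :=
  gap_rel RW_2 (path_edge (F_5493 IH) (path_edge (F_13719 IH) (path_edge (F_2364 IH) (path_nil _))))
theorem F_13721 (IH : D.IHyp) : ed Gen.i V_953 = V_1511 :=
  flipE D.rels D.S (hinv Gen.i) (F_13720 IH)
theorem F_13723 (IH : D.IHyp) : ed Gen.i V_1510 = V_952 :=
  gap_rel RW_36 (path_edge (F_5491 IH) (path_edge (F_13721 IH) (path_edge (F_2362 IH) (path_nil _))))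
theorem F_13724 (IH : D.IHyp) : ed Gen.i V_952 = V_1510 :=
  flipE D.rels D.S (hinv Gen.i) (F_13723 IH)
theorem F_13725 (IH : D.IHyp) : ed Gen.e V_777 = V_953 :=
  gap_rel RW_18 (path_edge (F_11430 IH) (path_edge (F_12940 IH) (path_edge (F_13721 IH) (path_nil _))))
theorem F_13727 (IH : D.IHyp) : ed Gen.f V_860 = V_953 :=
  gap_rel RW_19 (path_edge (F_11458 IH) (path_edge (F_13004 IH) (path_edge (F_13721 IH) (path_nil _))))
theorem F_13728 (IH : D.IHyp) : ed Gen.f V_953 = V_860 :=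
  flipE D.rels D.S (hinv Gen.f) (F_13727 IH)
theorem F_13729 (IH : D.IHyp) : ed Gen.e V_952 = V_2845 :=
  gap_rel RW_30 (path_edge (F_2363 IH) (path_edge (F_13725 IH) (path_edge (F_12019 IH) (path_nil _))))
theorem F_13730 (IH : D.IHyp) : ed Gen.e V_2845 = V_952 :=
  flipE D.rels D.S (hinv Gen.e) (F_13729 IH)
theorem F_13731 (IH : D.IHyp) : ed Gen.f V_952 = V_2714 :=
  gap_rel RW_42 (path_edge (F_2363 IH) (path_edge (F_13727 IH) (path_edge (F_11481 IH) (path_nil _))))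
theorem F_13732 (IH : D.IHyp) : ed Gen.f V_2714 = V_952 :=
  flipE D.rels D.S (hinv Gen.f) (F_13731 IH)
theorem F_13737 (IH : D.IHyp) : ed Gen.i V_1509 = V_951 :=
  gap_rel RW_6 (path_edge (F_5489 IH) (path_edge (F_13724 IH) (path_edge (F_2360 IH) (path_nil _))))
theorem F_13738 (IH : D.IHyp) : ed Gen.i V_951 = V_1509 :=
  flipE D.rels D.S (hinv Gen.i) (F_13737 IH)
theorem F_13739 (IH : D.IHyp) : ed Gen.f V_951 = V_2715 :=
  gap_rel RW_5 (path_edge (F_2361 IH) (path_edge (F_13732 IH) (path_edge (F_10925 IH) (path_nil _))))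
theorem F_13740 (IH : D.IHyp) : ed Gen.f V_2715 = V_951 :=
  flipE D.rels D.S (hinv Gen.f) (F_13739 IH)
theorem F_13741 (IH : D.IHyp) : ed Gen.d V_950 = V_3031 :=
  gap_rel RW_16 (path_edge (F_2359 IH) (path_edge (F_2361 IH) (path_edge (F_13730 IH) (path_edge (F_12016 IH) (path_edge (F_13195 IH) (path_nil _))))))
theorem F_13742 (IH : D.IHyp) : ed Gen.d V_3031 = V_950 :=
  flipE D.rels D.S (hinv Gen.d) (F_13741 IH)
theorem F_13743 (IH : D.IHyp) : V_3032 = V_950 :=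
  edge_fun (F_13196 IH) (F_13742 IH)
theorem F_13750 (IH : D.IHyp) : ed Gen.h V_3032 = V_950 :=
  (F_13202 IH).trans (F_13743 IH)
theorem F_13751 (IH : D.IHyp) : ed Gen.h V_950 = V_950 :=
  edge_congr (F_13750 IH) (F_13743 IH)
theorem F_13752 (IH : D.IHyp) : ed Gen.i V_950 = V_934 :=
  edge_congr (F_13200 IH) (F_13743 IH)
theorem F_13753 (IH : D.IHyp) : ed Gen.i V_934 = V_950 :=
  flipE D.rels D.S (hinv Gen.i) (F_13752 IH)
theorem F_13754 (IH : D.IHyp) : ed Gen.i V_2906 = V_2715 :=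
  gap_rel RW_35 (path_edge (F_12855 IH) (path_edge (F_13738 IH) (path_edge (F_13740 IH) (path_nil _))))
theorem F_13755 (IH : D.IHyp) : ed Gen.i V_2715 = V_2906 :=
  flipE D.rels D.S (hinv Gen.i) (F_13754 IH)
theorem F_13756 (IH : D.IHyp) : V_2716 = V_2906 :=
  edge_fun (F_10926 IH) (F_13755 IH)
theorem F_13757 (IH : D.IHyp) : V_2906 = V_2716 :=
  (F_13756 IH).symm
theorem F_13758 (IH : D.IHyp) : ed Gen.e V_2716 = V_2907 :=
  edge_congr (F_12360 IH) (F_13757 IH)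
theorem F_13764 (IH : D.IHyp) : ed Gen.f V_3031 = V_948 :=
  gap_rel RW_5 (path_edge (F_13741 IH) (path_edge (F_2356 IH) (path_edge (F_2354 IH) (path_nil _))))
theorem F_13765 (IH : D.IHyp) : ed Gen.f V_948 = V_3031 :=
  flipE D.rels D.S (hinv Gen.f) (F_13764 IH)
theorem F_13766 (IH : D.IHyp) : ed Gen.h V_949 = V_949 :=
  gap_rel RW_39 (path_edge (F_2357 IH) (path_edge (F_13751 IH) (path_edge (F_2356 IH) (path_nil _))))
theorem F_13767 (IH : D.IHyp) : ed Gen.i V_949 = V_1507 :=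
  gap_rel RW_35 (path_edge (F_2357 IH) (path_edge (F_13753 IH) (path_edge (F_12847 IH) (path_nil _))))
theorem F_13769 (IH : D.IHyp) : ed Gen.c V_948 = V_948 :=
  gap_rel RW_27 (path_edge (F_13764 IH) (path_edge (F_13193 IH) (path_edge (F_13765 IH) (path_nil _))))
theorem F_13770 (IH : D.IHyp) : ed Gen.i V_948 = V_1506 :=
  gap_rel RW_35 (path_edge (F_13764 IH) (path_edge (F_13189 IH) (path_edge (F_12838 IH) (path_nil _))))
theorem F_13784 (IH : D.IHyp) : ed Gen.h V_2907 = V_2127 :=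
  gap_rel RW_38 (path_edge (F_13758 IH) (path_edge (F_10929 IH) (path_edge (F_13617 IH) (path_nil _))))
theorem F_13785 (IH : D.IHyp) : ed Gen.h V_2127 = V_2907 :=
  flipE D.rels D.S (hinv Gen.h) (F_13784 IH)
theorem F_13786 (IH : D.IHyp) : ed Gen.h V_2039 = V_813 :=
  gap_rel RW_39 (path_edge (F_12939 IH) (path_edge (F_13785 IH) (path_edge (F_11410 IH) (path_nil _))))
theorem F_13788 (IH : D.IHyp) : ed Gen.c V_946 = V_946 :=
  gap_rel RW_11 (path_edge (F_13171 IH) (path_edge (F_13769 IH) (path_edge (F_13170 IH) (path_nil _))))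
theorem F_13790 (IH : D.IHyp) : ed Gen.h V_945 = V_948 :=
  gap_rel RW_33 (path_edge (F_2349 IH) (path_edge (F_13171 IH) (path_edge (F_2355 IH) (path_edge (F_13766 IH) (path_edge (F_2354 IH) (path_nil _))))))
theorem F_13791 (IH : D.IHyp) : ed Gen.h V_948 = V_945 :=
  flipE D.rels D.S (hinv Gen.h) (F_13790 IH)
theorem F_13792 (IH : D.IHyp) : V_946 = V_945 :=
  edge_fun (F_13171 IH) (F_13791 IH)
theorem F_13793 (IH : D.IHyp) : ed Gen.c V_946 = V_945 :=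
  (F_13788 IH).trans (F_13792 IH)
theorem F_13794 (IH : D.IHyp) : ed Gen.c V_945 = V_945 :=
  edge_congr (F_13793 IH) (F_13792 IH)
theorem F_13795 (IH : D.IHyp) : V_944 = V_945 :=
  edge_fun (F_2347 IH) (F_13794 IH)
theorem F_13805 (IH : D.IHyp) : V_945 = V_944 :=
  (F_13795 IH).symm
theorem F_13811 (IH : D.IHyp) : ed Gen.h V_944 = V_948 :=
  edge_congr (F_13790 IH) (F_13805 IH)
theorem F_13812 (IH : D.IHyp) : ed Gen.h V_948 = V_944 :=
  flipE D.rels D.S (hinv Gen.h) (F_13811 IH)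
theorem F_13815 (IH : D.IHyp) : V_948 = V_1504 :=
  loop_rel RW_34 (path_edge (F_5477 IH) (path_edge (F_5480 IH) (path_edge (F_13770 IH) (path_edge (F_13811 IH) (path_edge (F_13138 IH) (path_edge (F_13812 IH) (path_nil _)))))))
theorem F_13816 (IH : D.IHyp) : V_1504 = V_948 :=
  (F_13815 IH).symm
theorem F_13821 (IH : D.IHyp) : ed Gen.d V_948 = V_1503 :=
  edge_congr (F_5474 IH) (F_13816 IH)
theorem F_13822 (IH : D.IHyp) : V_949 = V_1503 :=
  edge_fun (F_2354 IH) (F_13821 IH)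
theorem F_13832 (IH : D.IHyp) : V_1503 = V_949 :=
  (F_13822 IH).symm
theorem F_13838 (IH : D.IHyp) : ed Gen.f V_949 = V_747 :=
  edge_congr (F_11271 IH) (F_13832 IH)
theorem F_13839 (IH : D.IHyp) : V_950 = V_747 :=
  edge_fun (F_2356 IH) (F_13838 IH)
theorem F_13843 (IH : D.IHyp) : ed Gen.i V_949 = V_3029 :=
  edge_congr (F_12795 IH) (F_13832 IH)
theorem F_13844 (IH : D.IHyp) : V_1507 = V_3029 :=
  edge_fun (F_13767 IH) (F_13843 IH)
theorem F_13881 (IH : D.IHyp) : ed Gen.e V_747 = V_951 :=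
  edge_congr (F_2358 IH) (F_13839 IH)
theorem F_13882 (IH : D.IHyp) : V_746 = V_951 :=
  edge_fun (F_1274 IH) (F_13881 IH)
theorem F_13891 (IH : D.IHyp) : V_3029 = V_1507 :=
  (F_13844 IH).symm
theorem F_13898 (IH : D.IHyp) : ed Gen.e V_1507 = V_1463 :=
  edge_congr (F_12789 IH) (F_13891 IH)
theorem F_13899 (IH : D.IHyp) : V_2039 = V_1463 :=
  edge_fun (F_8953 IH) (F_13898 IH)
theorem F_13957 (IH : D.IHyp) : V_951 = V_746 :=
  (F_13882 IH).symm
theorem F_13958 (IH : D.IHyp) : ed Gen.d V_746 = V_952 :=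
  edge_congr (F_2360 IH) (F_13957 IH)
theorem F_13959 (IH : D.IHyp) : V_2758 = V_952 :=
  edge_fun (F_11555 IH) (F_13958 IH)
theorem F_13962 (IH : D.IHyp) : ed Gen.f V_746 = V_2715 :=
  edge_congr (F_13739 IH) (F_13957 IH)
theorem F_13963 (IH : D.IHyp) : V_745 = V_2715 :=
  edge_fun (F_1271 IH) (F_13962 IH)
theorem F_13995 (IH : D.IHyp) : ed Gen.h V_1463 = V_813 :=
  edge_congr (F_13786 IH) (F_13899 IH)
theorem F_13996 (IH : D.IHyp) : V_971 = V_813 :=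
  edge_fun (F_6372 IH) (F_13995 IH)
theorem F_14077 (IH : D.IHyp) : ed Gen.b V_952 = V_2841 :=
  edge_congr (F_11981 IH) (F_13959 IH)
theorem F_14078 (IH : D.IHyp) : V_953 = V_2841 :=
  edge_fun (F_2362 IH) (F_14077 IH)
theorem F_14080 (IH : D.IHyp) : ed Gen.c V_952 = V_2954 :=
  edge_congr (F_12528 IH) (F_13959 IH)
theorem F_14087 (IH : D.IHyp) : ed Gen.f V_952 = V_744 :=
  edge_congr (F_11553 IH) (F_13959 IH)
theorem F_14089 (IH : D.IHyp) : ed Gen.f V_744 = V_952 :=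
  flipE D.rels D.S (hinv Gen.f) (F_14087 IH)
theorem F_14097 (IH : D.IHyp) : V_2715 = V_745 :=
  (F_13963 IH).symm
theorem F_14098 (IH : D.IHyp) : ed Gen.b V_745 = V_861 :=
  edge_congr (F_11466 IH) (F_14097 IH)
theorem F_14099 (IH : D.IHyp) : V_2952 = V_861 :=
  edge_fun (F_12508 IH) (F_14098 IH)
theorem F_14100 (IH : D.IHyp) : ed Gen.b V_861 = V_745 :=
  flipE D.rels D.S (hinv Gen.b) (F_14098 IH)
theorem F_14148 (IH : D.IHyp) : ed Gen.b V_813 = V_970 :=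
  edge_congr (F_2399 IH) (F_13996 IH)
theorem F_14149 (IH : D.IHyp) : V_812 = V_970 :=
  edge_fun (F_1593 IH) (F_14148 IH)
theorem F_14257 (IH : D.IHyp) : V_2841 = V_953 :=
  (F_14078 IH).symm
theorem F_14259 (IH : D.IHyp) : ed Gen.c V_953 = (D.P 482) :=
  edge_congr (F_11984 IH) (F_14257 IH)
theorem F_14260 (IH : D.IHyp) : V_954 = (D.P 482) :=
  edge_fun (F_2364 IH) (F_14259 IH)
theorem F_14265 (IH : D.IHyp) : ed Gen.f V_953 = V_2756 :=
  edge_congr (F_11988 IH) (F_14257 IH)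
theorem F_14266 (IH : D.IHyp) : V_860 = V_2756 :=
  edge_fun (F_13728 IH) (F_14265 IH)
theorem F_14270 (IH : D.IHyp) : ed Gen.i V_953 = V_783 :=
  edge_congr (F_11989 IH) (F_14257 IH)
theorem F_14271 (IH : D.IHyp) : V_1511 = V_783 :=
  edge_fun (F_13721 IH) (F_14270 IH)
theorem F_14309 (IH : D.IHyp) : ed Gen.c V_2952 = V_861 :=
  (F_12512 IH).trans (F_14099 IH)
theorem F_14310 (IH : D.IHyp) : ed Gen.c V_861 = V_861 :=
  edge_congr (F_14309 IH) (F_14099 IH)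
theorem F_14311 (IH : D.IHyp) : V_2743 = V_861 :=
  edge_fun (F_11460 IH) (F_14310 IH)
theorem F_14324 (IH : D.IHyp) : ed Gen.i V_861 = V_2107 :=
  edge_congr (F_12510 IH) (F_14099 IH)
theorem F_14325 (IH : D.IHyp) : V_862 = V_2107 :=
  edge_fun (F_1805 IH) (F_14324 IH)
theorem F_14359 (IH : D.IHyp) : V_970 = V_812 :=
  (F_14149 IH).symm
theorem F_14361 (IH : D.IHyp) : ed Gen.c V_970 = V_812 :=
  (F_2581 IH).trans (F_14359 IH)
theorem F_14362 (IH : D.IHyp) : ed Gen.c V_812 = V_812 :=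
  edge_congr (F_14361 IH) (F_14359 IH)
theorem F_14363 (IH : D.IHyp) : V_811 = V_812 :=
  edge_fun (F_1591 IH) (F_14362 IH)
theorem F_14472 (IH : D.IHyp) : ed Gen.d (D.P 482) = V_955 :=
  edge_congr (F_2366 IH) (F_14260 IH)
theorem F_14473 (IH : D.IHyp) : (D.P 482) = V_955 :=
  edge_fun (F_5659 IH) (F_14472 IH)
theorem F_14479 (IH : D.IHyp) : ed Gen.i (D.P 482) = V_1512 :=
  edge_congr (F_13719 IH) (F_14260 IH)
theorem F_14481 (IH : D.IHyp) : V_2756 = V_860 :=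
  (F_14266 IH).symm
theorem F_14495 (IH : D.IHyp) : ed Gen.i V_860 = V_2105 :=
  edge_congr (F_11237 IH) (F_14481 IH)
theorem F_14496 (IH : D.IHyp) : V_2746 = V_2105 :=
  edge_fun (F_11451 IH) (F_14495 IH)
theorem F_14506 (IH : D.IHyp) : ed Gen.h V_783 = V_1577 :=
  edge_congr (F_12942 IH) (F_14271 IH)
theorem F_14507 (IH : D.IHyp) : V_2597 = V_1577 :=
  edge_fun (F_11244 IH) (F_14506 IH)
theorem F_14543 (IH : D.IHyp) : ed Gen.b V_861 = V_2742 :=
  edge_congr (F_11090 IH) (F_14311 IH)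
theorem F_14544 (IH : D.IHyp) : V_745 = V_2742 :=
  edge_fun (F_14100 IH) (F_14543 IH)
theorem F_14567 (IH : D.IHyp) : V_2107 = V_862 :=
  (F_14325 IH).symm
theorem F_14568 (IH : D.IHyp) : ed Gen.b V_862 = V_2108 :=
  edge_congr (F_8374 IH) (F_14567 IH)
theorem F_14569 (IH : D.IHyp) : ed Gen.b V_2108 = V_862 :=
  flipE D.rels D.S (hinv Gen.b) (F_14568 IH)
theorem F_14624 (IH : D.IHyp) : V_812 = V_811 :=
  (F_14363 IH).symm
theorem F_14628 (IH : D.IHyp) : ed Gen.d V_811 = V_968 :=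
  edge_congr (F_8931 IH) (F_14624 IH)
theorem F_14629 (IH : D.IHyp) : V_809 = V_968 :=
  edge_fun (F_2190 IH) (F_14628 IH)
theorem F_14718 (IH : D.IHyp) : V_955 = (D.P 482) :=
  (F_14473 IH).symm
theorem F_14723 (IH : D.IHyp) : ed Gen.i (D.P 482) = V_956 :=
  edge_congr (F_2368 IH) (F_14718 IH)
theorem F_14724 (IH : D.IHyp) : V_1512 = V_956 :=
  edge_fun (F_14479 IH) (F_14723 IH)
theorem F_14740 (IH : D.IHyp) : ed Gen.h V_2105 = V_2747 :=
  edge_congr (F_11097 IH) (F_14496 IH)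
theorem F_14741 (IH : D.IHyp) : V_2728 = V_2747 :=
  edge_fun (F_11240 IH) (F_14740 IH)
theorem F_14746 (IH : D.IHyp) : ed Gen.d V_1577 = V_2598 :=
  edge_congr (F_10461 IH) (F_14507 IH)
theorem F_14747 (IH : D.IHyp) : V_2749 = V_2598 :=
  edge_fun (F_11358 IH) (F_14746 IH)
theorem F_14755 (IH : D.IHyp) : ed Gen.i V_1577 = V_2114 :=
  edge_congr (F_10485 IH) (F_14507 IH)
theorem F_14756 (IH : D.IHyp) : V_2734 = V_2114 :=
  edge_fun (F_11390 IH) (F_14755 IH)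
theorem F_14793 (IH : D.IHyp) : V_2742 = V_745 :=
  (F_14544 IH).symm
theorem F_14795 (IH : D.IHyp) : ed Gen.d V_745 = V_2741 :=
  edge_congr (F_11088 IH) (F_14793 IH)
theorem F_14796 (IH : D.IHyp) : V_744 = V_2741 :=
  edge_fun (F_1268 IH) (F_14795 IH)
theorem F_14893 (IH : D.IHyp) : V_968 = V_809 :=
  (F_14629 IH).symm
theorem F_14899 (IH : D.IHyp) : ed Gen.f V_809 = V_967 :=
  edge_congr (F_2393 IH) (F_14893 IH)
theorem F_14900 (IH : D.IHyp) : V_2130 = V_967 :=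
  edge_fun (F_11477 IH) (F_14899 IH)
theorem F_15000 (IH : D.IHyp) : ed Gen.h V_956 = V_1578 :=
  edge_congr (F_12990 IH) (F_14724 IH)
theorem F_15001 (IH : D.IHyp) : V_957 = V_1578 :=
  edge_fun (F_2370 IH) (F_15000 IH)
theorem F_15013 (IH : D.IHyp) : V_2747 = V_2728 :=
  (F_14741 IH).symm
theorem F_15014 (IH : D.IHyp) : ed Gen.d V_2728 = V_2748 :=
  edge_congr (F_11099 IH) (F_15013 IH)
theorem F_15015 (IH : D.IHyp) : V_2730 = V_2748 :=
  edge_fun (F_10979 IH) (F_15014 IH)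
theorem F_15023 (IH : D.IHyp) : ed Gen.d V_2598 = V_1577 :=
  edge_congr (F_11359 IH) (F_14747 IH)
theorem F_15024 (IH : D.IHyp) : ed Gen.d V_1577 = V_2598 :=
  flipE D.rels D.S (hinv Gen.d) (F_15023 IH)
theorem F_15036 (IH : D.IHyp) : ed Gen.c V_2114 = V_2635 :=
  edge_congr (F_12317 IH) (F_14756 IH)
theorem F_15037 (IH : D.IHyp) : V_1555 = V_2635 :=
  edge_fun (F_8502 IH) (F_15036 IH)
theorem F_15083 (IH : D.IHyp) : V_2741 = V_744 :=
  (F_14796 IH).symm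
theorem F_15085 (IH : D.IHyp) : ed Gen.e V_744 = V_2740 :=
  edge_congr (F_11086 IH) (F_15083 IH)
theorem F_15086 (IH : D.IHyp) : V_744 = V_2740 :=
  edge_fun (F_1266 IH) (F_15085 IH)
theorem F_15181 (IH : D.IHyp) : ed Gen.h V_967 = V_2132 :=
  edge_congr (F_10076 IH) (F_14900 IH)
theorem F_15182 (IH : D.IHyp) : V_967 = V_2132 :=
  edge_fun (F_6385 IH) (F_15181 IH)
theorem F_15255 (IH : D.IHyp) : V_1578 = V_957 :=
  (F_15001 IH).symm
theorem F_15256 (IH : D.IHyp) : ed Gen.c V_957 = V_1577 :=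
  edge_congr (F_5925 IH) (F_15255 IH)
theorem F_15258 (IH : D.IHyp) : ed Gen.d V_957 = V_1579 :=
  edge_congr (F_5926 IH) (F_15255 IH)
theorem F_15259 (IH : D.IHyp) : V_958 = V_1579 :=
  edge_fun (F_2372 IH) (F_15258 IH)
theorem F_15269 (IH : D.IHyp) : V_2748 = V_2730 :=
  (F_15015 IH).symm
theorem F_15272 (IH : D.IHyp) : ed Gen.h V_2730 = V_864 :=
  edge_congr (F_11362 IH) (F_15269 IH)
theorem F_15273 (IH : D.IHyp) : ed Gen.h V_864 = V_2730 :=
  flipE D.rels D.S (hinv Gen.h) (F_15272 IH)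
theorem F_15296 (IH : D.IHyp) : V_2635 = V_1555 :=
  (F_15037 IH).symm
theorem F_15298 (IH : D.IHyp) : ed Gen.d V_1555 = V_1580 :=
  edge_congr (F_12327 IH) (F_15296 IH)
theorem F_15299 (IH : D.IHyp) : V_1554 = V_1580 :=
  edge_fun (F_5579 IH) (F_15298 IH)
theorem F_15310 (IH : D.IHyp) : V_2740 = V_744 :=
  (F_15086 IH).symm
theorem F_15311 (IH : D.IHyp) : ed Gen.d V_744 = V_959 :=
  edge_congr (F_13670 IH) (F_15310 IH)
theorem F_15312 (IH : D.IHyp) : V_745 = V_959 :=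
  edge_fun (F_1267 IH) (F_15311 IH)
theorem F_15315 (IH : D.IHyp) : ed Gen.f V_744 = V_957 :=
  edge_congr (F_13695 IH) (F_15310 IH)
theorem F_15316 (IH : D.IHyp) : V_952 = V_957 :=
  edge_fun (F_14089 IH) (F_15315 IH)
theorem F_15402 (IH : D.IHyp) : V_2132 = V_967 :=
  (F_15182 IH).symm
theorem F_15403 (IH : D.IHyp) : ed Gen.d V_967 = V_806 :=
  edge_congr (F_11521 IH) (F_15402 IH)
theorem F_15404 (IH : D.IHyp) : V_966 = V_806 :=
  edge_fun (F_2391 IH) (F_15403 IH)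
theorem F_15463 (IH : D.IHyp) : V_1579 = V_958 :=
  (F_15259 IH).symm
theorem F_15466 (IH : D.IHyp) : ed Gen.i V_958 = V_1580 :=
  edge_congr (F_5928 IH) (F_15463 IH)
theorem F_15467 (IH : D.IHyp) : ed Gen.i V_1580 = V_958 :=
  flipE D.rels D.S (hinv Gen.i) (F_15466 IH)
theorem F_15497 (IH : D.IHyp) : V_1580 = V_1554 :=
  (F_15299 IH).symm
theorem F_15504 (IH : D.IHyp) : ed Gen.i V_1554 = V_958 :=
  edge_congr (F_15467 IH) (F_15497 IH)
theorem F_15505 (IH : D.IHyp) : V_2961 = V_958 :=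
  edge_fun (F_12580 IH) (F_15504 IH)
theorem F_15514 (IH : D.IHyp) : V_959 = V_745 :=
  (F_15312 IH).symm
theorem F_15517 (IH : D.IHyp) : ed Gen.f V_745 = V_958 :=
  edge_congr (F_2375 IH) (F_15514 IH)
theorem F_15519 (IH : D.IHyp) : ed Gen.f V_958 = V_745 :=
  flipE D.rels D.S (hinv Gen.f) (F_15517 IH)
theorem F_15520 (IH : D.IHyp) : V_957 = V_952 :=
  (F_15316 IH).symm
theorem F_15521 (IH : D.IHyp) : ed Gen.c V_952 = V_1577 :=
  edge_congr (F_15256 IH) (F_15520 IH)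
theorem F_15522 (IH : D.IHyp) : V_2954 = V_1577 :=
  edge_fun (F_14080 IH) (F_15521 IH)
theorem F_15584 (IH : D.IHyp) : ed Gen.e V_806 = V_863 :=
  edge_congr (F_13597 IH) (F_15404 IH)
theorem F_15585 (IH : D.IHyp) : V_805 = V_863 :=
  edge_fun (F_1579 IH) (F_15584 IH)
theorem F_15650 (IH : D.IHyp) : ed Gen.f V_958 = V_1614 :=
  edge_congr (F_12575 IH) (F_15505 IH)
theorem F_15651 (IH : D.IHyp) : V_745 = V_1614 :=
  edge_fun (F_15519 IH) (F_15650 IH)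
theorem F_15681 (IH : D.IHyp) : ed Gen.d V_1577 = V_2900 :=
  edge_congr (F_12531 IH) (F_15522 IH)
theorem F_15682 (IH : D.IHyp) : V_2598 = V_2900 :=
  edge_fun (F_15024 IH) (F_15681 IH)
theorem F_15764 (IH : D.IHyp) : V_863 = V_805 :=
  (F_15585 IH).symm
theorem F_15769 (IH : D.IHyp) : ed Gen.d V_805 = V_864 :=
  edge_congr (F_1809 IH) (F_15764 IH)
theorem F_15770 (IH : D.IHyp) : V_804 = V_864 :=
  edge_fun (F_1577 IH) (F_15769 IH)
theorem F_15775 (IH : D.IHyp) : ed Gen.h V_805 = V_862 :=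
  edge_congr (F_1808 IH) (F_15764 IH)
theorem F_15776 (IH : D.IHyp) : ed Gen.h V_862 = V_805 :=
  flipE D.rels D.S (hinv Gen.h) (F_15775 IH)
theorem F_15818 (IH : D.IHyp) : V_1614 = V_745 :=
  (F_15651 IH).symm
theorem F_15829 (IH : D.IHyp) : ed Gen.i V_745 = V_2056 :=
  edge_congr (F_8243 IH) (F_15818 IH)
theorem F_15830 (IH : D.IHyp) : V_2108 = V_2056 :=
  edge_fun (F_11223 IH) (F_15829 IH)
theorem F_15903 (IH : D.IHyp) : V_2900 = V_2598 :=
  (F_15682 IH).symm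
theorem F_15913 (IH : D.IHyp) : ed Gen.f V_2598 = V_2011 :=
  edge_congr (F_12143 IH) (F_15903 IH)
theorem F_15914 (IH : D.IHyp) : V_2730 = V_2011 :=
  edge_fun (F_10960 IH) (F_15913 IH)
theorem F_16095 (IH : D.IHyp) : V_864 = V_804 :=
  (F_15770 IH).symm
theorem F_16106 (IH : D.IHyp) : ed Gen.h V_804 = V_2730 :=
  edge_congr (F_15273 IH) (F_16095 IH)
theorem F_16107 (IH : D.IHyp) : ed Gen.h V_2730 = V_804 :=
  flipE D.rels D.S (hinv Gen.h) (F_16106 IH)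
theorem F_16169 (IH : D.IHyp) : ed Gen.b V_2056 = V_862 :=
  edge_congr (F_14569 IH) (F_15830 IH)
theorem F_16170 (IH : D.IHyp) : V_2055 = V_862 :=
  edge_fun (F_8238 IH) (F_16169 IH)
theorem F_16371 (IH : D.IHyp) : ed Gen.h V_2011 = V_804 :=
  edge_congr (F_16107 IH) (F_15914 IH)
theorem F_16372 (IH : D.IHyp) : (D.P 246) = V_804 :=
  edge_fun (F_7807 IH) (F_16371 IH)
theorem F_16841 (IH : D.IHyp) : ed Gen.h V_862 = V_2647 :=
  edge_congr (F_10691 IH) (F_16170 IH)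
theorem F_16842 (IH : D.IHyp) : V_805 = V_2647 :=
  edge_fun (F_15776 IH) (F_16841 IH)
theorem F_17132 (IH : D.IHyp) : V_804 = (D.P 246) :=
  (F_16372 IH).symm
theorem F_17139 (IH : D.IHyp) : ed Gen.d (D.P 246) = V_805 :=
  edge_congr (F_1576 IH) (F_17132 IH)
theorem F_17141 (IH : D.IHyp) : ed Gen.d V_805 = (D.P 246) :=
  flipE D.rels D.S (hinv Gen.d) (F_17139 IH)
theorem F_17717 (IH : D.IHyp) : V_2647 = V_805 :=
  (F_16842 IH).symm
theorem F_17721 (IH : D.IHyp) : ed Gen.d V_805 = V_2648 :=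
  edge_congr (F_10590 IH) (F_17717 IH)
theorem F_17722 (IH : D.IHyp) : (D.P 246) = V_2648 :=
  edge_fun (F_17141 IH) (F_17721 IH)
theorem F_18526 (IH : D.IHyp) : V_2648 = (D.P 246) :=
  (F_17722 IH).symm
theorem F_18529 (IH : D.IHyp) : ed Gen.c (D.P 246) = (D.P 273) :=
  edge_congr (F_10660 IH) (F_18526 IH)
theorem F_18530 (IH : D.IHyp) : V_736 = (D.P 273) :=
  edge_fun (F_714 IH) (F_18529 IH)
theorem F_19313 (IH : D.IHyp) : ed Gen.e (D.P 273) = V_730 :=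
  edge_congr (F_712 IH) (F_18530 IH)
theorem F_19314 (IH : D.IHyp) : (D.P 216) = V_730 :=
  edge_fun (F_2305 IH) (F_19313 IH)
theorem F_20116 (IH : D.IHyp) : V_730 = (D.P 216) :=
  (F_19314 IH).symm
theorem F_20121 (IH : D.IHyp) : ed Gen.d (D.P 216) = V_728 :=
  edge_congr (F_111 IH) (F_20116 IH)
theorem F_20122 (IH : D.IHyp) : (D.P 168) = V_728 :=
  edge_fun (F_795 IH) (F_20121 IH)
theorem F_20856 (IH : D.IHyp) : V_728 = (D.P 168) :=
  (F_20122 IH).symm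
theorem F_20859 (IH : D.IHyp) : ed Gen.c (D.P 168) = (D.P 157) :=
  edge_congr (F_1 IH) (F_20856 IH)
theorem F_20861 (IH : D.IHyp) : ed Gen.c (D.P 157) = (D.P 168) :=
  flipE D.rels D.S (hinv Gen.c) (F_20859 IH)

theorem seed_main (IH : D.IHyp) : D.EOK Gen.c (D.mkF 157) :=
  D.seed_of_edge Gen.c 157 168 (by decide +kernel) (F_20861 IH)

theorem hseed : ∀ x p, D.isSeed x p = true →
    (∀ y q, D.lvl y q < D.lvl x p → D.EOK y q) → D.EOK x p := by
  intro x p hs IH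
  obtain ⟨hx, hp⟩ := D.isSeed_eq hs
  have hx' : x = Gen.c := hx
  have hp' : p = D.mkF 157 := hp
  subst hx'
  subst hp'
  have hl : D.lvl Gen.c (D.mkF 157) = D.L := by decide +kernel
  exact seed_main (fun y q h => IH y q (by rw [hl]; exact h))

end

end Cfsg.Agent.Helper27.Fi22TC.F1
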